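import Cfsg.Agent.Mrg.ParSys.ResFrat
import Cfsg.Agent.Mrg.Omega.Lie.Nodes.SigGrp
import Cfsg.Agent.Mrg.Omega.Lie.End.Zero
import Mathlib
import Cfsg.Agent.Mrg.Omega.HOne.EigOf
import Cfsg.Agent.Mrg.Omega.HOneQ.ResN

section


/-!
# NODE LIE, the END: the field `frat` for the residues `(0, x)`, `x` a moved node

In the frame `GFr` of helper843 (`SG k` the preimage of `N_k`, `Σ = SG k ⊔ (SG k)^n`).

* `GFr.U_le_of`: `U_i ≤ [U_j, W_i] C_W(N)` if `C_N(A) = e` (duality);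
* `GFr.U_le_D`: `U_i ≤ [W_i, U_j] D`;
* `GFr.sigma_inf_W`: `Σ ∩ W_i = SG k`;
* `GFr.tau_step`: `C_W(SG k) ≤ [τ, C_W(SG k)] C_W(Σ)`;
* `GFr.frat_four`: the field `frat` for a quadrangle, `GFr.frat_three` for a plane.
-/

set_option autoImplicit false
set_option linter.unusedSectionVars false

namespace Cfsg.Agent.Omega.Lie.Nodes

open Subgroup Cfsg.Agent.Omega.BTwo Cfsg.Agent.ParSys
open scoped commutatorElement

universe u v w

variable {G : Type u} [Group G] {ι : Type w}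
    {V : Subgroup G} {R : ι → Subgroup G} {i j : ι} {F : Type v} [Field F] {v : F → F → G}
    {M E : Type u} [AddCommGroup M] [Module F M] [AddCommGroup E] [Module F E] {P1 P2 : G → E}
    {q : G → M} {f : M →ₗ[F] M →ₗ[F] F} {e : M} {M0 : Submodule F M} {n : E →ₗ[F] M} {s : E → E → M}
    {sh : E → E → F} {α : E → M →ₗ[F] M}

section dual

variable (h : GFr V R i j v P1 P2 q f e M0 n s sh α)
include h

theorem GFr.f_U {x : G} (hx : x ∈ UU V R i) : f (q x) e = 0 := by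
  obtain ⟨c, d, hd, e1⟩ := h.q_U x hx
  rw [e1, map_add, map_add, LinearMap.add_apply, LinearMap.add_apply, map_smul, LinearMap.smul_apply, h.lin.ee,
    h.lin.f_M0_e hd, h.lin.f_n_e, smul_zero, add_zero, add_zero]

/-- **Duality**: `U_i ≤ [U_j, W_i] C_W(N)` if the elements of `N` fixed by `A` are in `e`. -/
theorem GFr.U_le_of (b : BT V R) {w1 w2 : F → G} (y : YPair V R i j w1 w2 E P1 P2) [Finite G] [Finite F]
    (N : Submodule F M) (hN : ∀ m ∈ N, (∀ κ, α κ m = m) → ∃ c : F, m = c • e) {Ψ : Subgroup G}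
    (h1 : ∀ u ∈ UU V R j, ∀ w ∈ WW V (R i), u * w * u⁻¹ * w⁻¹ ∈ Ψ)
    (h0 : ∀ w ∈ WW V (R i), (∀ m ∈ N, f (q w) m = 0) → w ∈ Ψ) : UU V R i ≤ Ψ := by
  have : Finite M := Finite.of_surjective (fun x : WW V (R i) => q x) fun m => by
    obtain ⟨x, hx, e1⟩ := h.fr.surj m
    exact ⟨⟨x, hx⟩, e1⟩
  let Np : Submodule F M :=
    { carrier := {m | ∀ x ∈ N, f m x = 0}
      zero_mem' := fun x _ => by rw [map_zero, LinearMap.zero_apply]
      add_mem' := fun {m m'} hm hm' x hx => by rw [map_add, LinearMap.add_apply, hm x hx, hm' x hx, add_zero]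
      smul_mem' := fun l m hm x hx => by rw [map_smul, LinearMap.smul_apply, hm x hx, smul_zero] }
  let S : Set M := {m | ∃ κ m', m = α κ m' - m'}
  set T : Submodule F M := Submodule.span F S ⊔ Np with hT
  -- the predicate
  let p : M → Prop := fun m => ∀ x ∈ WW V (R i), q x = m → x ∈ Ψ
  have p0 : p 0 := fun x hx hq => h0 x hx fun m _ => by rw [hq, map_zero, LinearMap.zero_apply]
  have padd : ∀ m m', p m → p m' → p (m + m') := by
    intro m m' hm hm' x hx hq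
    obtain ⟨x1, hx1, e1⟩ := h.fr.surj m
    have h2 := hm x1 hx1 e1
    have h3 := hm' (x1⁻¹ * x) (mul_mem (inv_mem hx1) hx) (by
      rw [h.fr.mul _ (inv_mem hx1) _ hx, h.fr.q_inv hx1, e1, hq, neg_add_cancel_left])
    have := mul_mem h2 h3
    rwa [mul_inv_cancel_left] at this
  have pS : ∀ m ∈ Submodule.span F S, ∀ l : F, p (l • m) := by
    intro m hm
    refine Submodule.span_induction (p := fun m _ => ∀ l : F, p (l • m)) ?_ ?_ ?_ ?_ hm
    · rintro _ ⟨κ, m', rfl⟩ l x hx hq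
      obtain ⟨u, hu, hu1, hu2⟩ := y.surj 0 κ
      have huU : u ∈ UU V R j := (y.mem_U2 u hu).2 hu1
      obtain ⟨w, hw, e1⟩ := h.fr.surj (l • m')
      have hw' : u * w * u⁻¹ ∈ WW V (R i) := BTwo.conj_mem_of_normalizer (b.cen_le_NW i (UU_le_cen j huU)) hw
      have h2 : q (u * w * u⁻¹ * w⁻¹) = l • (α κ m' - m') := by
        rw [h.fr.mul _ hw' _ (inv_mem hw), h.fr.q_inv hw, h.act u huU w hw, e1, hu2, map_smul, smul_sub,
          sub_eq_add_neg]
      have h3 := h1 u huU w hw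
      have h4 := p0 ((u * w * u⁻¹ * w⁻¹)⁻¹ * x) (mul_mem (inv_mem (mul_mem hw' (inv_mem hw))) hx) (by
        rw [h.fr.mul _ (inv_mem (mul_mem hw' (inv_mem hw))) _ hx, h.fr.q_inv (mul_mem hw' (inv_mem hw)), h2, hq,
          neg_add_cancel])
      have := mul_mem h3 h4
      rwa [mul_inv_cancel_left] at this
    · intro l
      rw [smul_zero]
      exact p0
    · intro m m' _ _ hm hm' l
      rw [smul_add]
      exact padd _ _ (hm l) (hm' l)
    · intro a m _ hm l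
      rw [smul_smul]
      exact hm _
  have pT : ∀ m ∈ T, p m := by
    intro m hm
    obtain ⟨m1, hm1, m2, hm2, rfl⟩ := Submodule.mem_sup.1 hm
    refine padd _ _ ?_ ?_
    · have := pS m1 hm1 1
      rwa [one_smul] at this
    · intro x hx hq
      exact h0 x hx fun m hm => by rw [hq]; exact hm2 m hm
  intro x hx
  have hxW := UU_le_WW i hx
  refine pT (q x) (h.lin.perp_perp T _ fun m' hm' => ?_) x hxW rfl
  -- `m' ∈ T^⊥`
  have k1 : m' ∈ N := h.lin.perp_perp N _ fun m'' hm'' => hm' m'' (Submodule.mem_sup_right hm'')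
  have k2 : ∀ κ, α κ m' = m' := by
    intro κ
    rw [← sub_eq_zero]
    apply h.lin.nd
    intro m2
    obtain ⟨m3, rfl⟩ := h.α_surj b y κ m2
    have k3 := hm' (α κ m3 - m3) (Submodule.mem_sup_left (Submodule.subset_span ⟨κ, m3, rfl⟩))
    rw [map_sub, sub_eq_zero] at k3
    rw [map_sub, LinearMap.sub_apply, h.α_f, ← k3, sub_self]
  obtain ⟨c, rfl⟩ := hN m' k1 k2
  rw [map_smul, h.f_U hx, smul_zero]

/-- `C_N(A) = e` for `N = N_k` -/
theorem GFr.fixed_Ng {k : E} (he : e ≠ 0) (hne : ∃ κ, s k κ ≠ 0 ∨ sh κ k ≠ 0) {m : M} (hm : m ∈ Ng e n s k)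
    (hfix : ∀ κ, α κ m = m) : ∃ c : F, m = c • e := by
  obtain ⟨c, z, hz, r, rfl⟩ := mem_Ng.1 hm
  have hz0 := h.lin.Zg_le hz
  have key : ∀ κ, (f z (n κ) + r * sh κ k) • e + r • s k κ = 0 := by
    intro κ
    have h1 := hfix κ
    rw [map_add, map_add, map_smul, map_smul, h.α_e, h.α_M0 κ z hz0, h.α_n] at h1
    have h2 : (f z (n κ) + r * sh κ k) • e + r • s k κ =
        (c • e + (z + f z (n κ) • e) + r • (n k + s k κ + sh κ k • e)) - (c • e + z + r • n k) := by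
      rw [smul_add, smul_add, smul_smul, add_smul]
      abel
    rw [h2, h1, sub_self]
  -- independence of `e` and `M0`
  have hind : ∀ (a : F) (d : M), d ∈ M0 → a • e + d = 0 → a • e = 0 ∧ d = 0 := by
    intro a d hd h1
    have h2 : d = 0 := by
      apply h.lin.inj d hd
      intro g
      have h3 := congrArg (fun m => f m (n g)) h1
      simpa only [map_add, LinearMap.add_apply, map_smul, LinearMap.smul_apply, h.lin.f_e_n, smul_zero, zero_add,
        map_zero, LinearMap.zero_apply] using h3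
    rw [h2, add_zero] at h1
    exact ⟨h1, h2⟩
  have k1 : ∀ κ, f z (n κ) + r * sh κ k = 0 ∧ r • s k κ = 0 := by
    intro κ
    obtain ⟨h1, h2⟩ := hind _ _ (M0.smul_mem r (h.lin.s_mem k κ)) (key κ)
    exact ⟨(smul_eq_zero.1 h1).resolve_right he, h2⟩
  have hr : r = 0 := by
    by_contra hr
    have h2 : ∀ κ, s k κ = 0 := fun κ => (smul_eq_zero.1 (k1 κ).2).resolve_left hr
    have h3 : z = 0 := by
      refine Submodule.span_induction (p := fun z _ => z = 0) ?_ rfl ?_ ?_ hz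
      · rintro _ ⟨κ, rfl⟩
        exact h2 κ
      · rintro x y _ _ rfl rfl
        rw [add_zero]
      · rintro a x _ rfl
        rw [smul_zero]
    obtain ⟨κ, hκ | hκ⟩ := hne
    · exact hκ (h2 κ)
    · have h4 := (k1 κ).1
      rw [h3, map_zero, LinearMap.zero_apply, zero_add] at h4
      exact hκ ((mul_eq_zero.1 h4).resolve_left hr)
  have hz' : z = 0 := by
    apply h.lin.inj z hz0
    intro g
    have := (k1 g).1
    rwa [hr, zero_mul, add_zero] at this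
  exact ⟨c, by rw [hz', hr, zero_smul, add_zero, add_zero]⟩

end dual

/-- `U_i ≤ [W_i, U_j] D` -/
theorem U_le_D [Finite G] (b : BT V R) {w1 w2 : F → G} (c : Coord V R i j v w1 w2) {Ψ : Subgroup G}
    (h1 : ∀ w ∈ WW V (R i), ∀ u ∈ UU V R j, w * u * w⁻¹ * u⁻¹ ∈ Ψ) :
    ∀ x ∈ UU V R i, ∃ k ∈ Ψ, ∃ d ∈ DD V R, x = k * d := by
  intro x hx
  have hw : w1 1 ∉ UU V R i := by
    intro hw
    have h2 := mem_centralizer_iff.1 (UU_le_cen i hw) _ (c.v_mem 0 1)
    have h3 := c.w1_act 1 0 1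
    rw [← h2, mul_inv_cancel_right] at h3
    have h4 := (c.v_inj h3).1
    rw [zero_add, mul_one] at h4
    exact zero_ne_one h4
  obtain ⟨u, hu, h2⟩ := b.surj c.ne.symm (c.w1_mem 1) hw hx
  exact ⟨_, h1 _ (c.w1_mem 1) u hu, _, h2, by rw [mul_inv_cancel_left]⟩

section sigma

variable (h : GFr V R i j v P1 P2 q f e M0 n s sh α) (b : BTC V R)
    {w1 w2 : F → G} (y : YPair V R i j w1 w2 E P1 P2) [CharP F 2] (c : Coord V R i j v w1 w2)
    [Finite G] [Finite F]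
include h b y c

/-- `Σ ∩ W_i = SG k` -/
theorem GFr.sigma_inf_W {k : E} (hk : Key e n s α k) :
    (h.SG k ⊔ cj (nn w1 w2 1) (h.SG k)) ⊓ WW V (R i) = h.SG k := by
  apply le_antisymm
  · intro x hx
    obtain ⟨hx, hxW⟩ := mem_inf.1 hx
    have hn : cj (nn w1 w2 1) (h.SG k) ≤ normalizer (h.SG k : Set G) := by
      refine le_normalizer_of fun x hx z hz => ?_
      rw [← h.SG_comm_cj b y c hk z hz x hx, mul_inv_cancel_right]
      exact hz
    have h1 : x ∈ ((h.SG k ⊔ cj (nn w1 w2 1) (h.SG k) : Subgroup G) : Set G) := hx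
    rw [coe_mul_of_right_le_normalizer_left _ _ hn] at h1
    obtain ⟨s1, hs1, s2, hs2, rfl⟩ := h1
    have hs1' : s1 ∈ h.SG k := hs1
    have hs2' : s2 ∈ cj (nn w1 w2 1) (h.SG k) := hs2
    have h2 : s2 ∈ WW V (R i) := by
      have := mul_mem (inv_mem (h.SG_le_W k hs1')) hxW
      rwa [inv_mul_cancel_left] at this
    have hU := (h.mem_cj_SG b.toBT y c hs2').1
    have hD : s2 ∈ DD V R := by
      rw [b.D_eq' c.ne]
      exact mem_inf.2 ⟨h2, UU_le_WW j hU⟩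
    have hnD : nn w1 w2 1 ∈ normalizer (DD V R : Set G) := b.NV_le_ND (b.X_le_NV (c.nn_mem_X b.toBT 1))
    set z := (nn w1 w2 1)⁻¹ * s2 * nn w1 w2 1 with hz
    have hzS : z ∈ h.SG k := mem_cj.1 hs2'
    have hzD : z ∈ DD V R := conj_inv_mem_of_normalizer hnD hD
    have hzZ : z ∈ h.DZ k := by
      refine ⟨hzS.1, ?_⟩
      obtain ⟨c1, d, hd, e1⟩ := h.q_D b.toBT y hzD
      obtain ⟨c2, z', hz', r, e2⟩ := mem_Ng.1 hzS.2
      have h3 : (0 : E) = r • k := by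
        refine h.n_unique (c := c1) (c' := c2) hd (h.lin.Zg_le hz') ?_
        rw [map_zero, add_zero, ← e1, e2, map_smul]
      rw [e2, ← map_smul, ← h3, map_zero, add_zero]
      exact mem_eZ.2 ⟨c2, z', hz', rfl⟩
    have h3 := BTwo.conj_mem_of_normalizer (h.X_norm_DZ b.toBT c.mem_V y k (c.nn_mem_X b.toBT 1)) hzZ
    have e3 : nn w1 w2 1 * z * (nn w1 w2 1)⁻¹ = s2 := by rw [hz]; group
    rw [e3] at h3
    exact mul_mem hs1' (h.DZ_le_SG k h3)
  · exact le_inf le_sup_left (h.SG_le_W k)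

/-- an element of `N(Σ) ∩ N(R i)` normalises `SG k` -/
theorem GFr.norm_SG {k : E} (hk : Key e n s α k) {g : G}
    (h1 : g ∈ normalizer ((h.SG k ⊔ cj (nn w1 w2 1) (h.SG k) : Subgroup G) : Set G))
    (h2 : g ∈ normalizer (R i : Set G)) : g ∈ normalizer (h.SG k : Set G) := by
  rw [← cj_eq_self_iff] at h1
  have h3 := cj_eq_self_iff.2 (normalizer_le_WW V (R i) h2)
  rw [← cj_eq_self_iff, ← h.sigma_inf_W b y c hk, cj_inf, h1, h3]

/-- **`C_W(SG k) ≤ [τ, C_W(SG k)] C_W(Σ)`**, `τ = h(a)`. -/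
theorem GFr.tau_step {k : E} (hk : Key e n s α k) (hs0 : sh 0 k = 0) {a : F} (ha : a ≠ 0) (ha1 : a ≠ 1)
    {x : G} (hx : x ∈ WW V (R i)) (hxC : ∀ z ∈ h.SG k, x * z = z * x) :
    ∃ x' ∈ WW V (R i), (∀ z ∈ h.SG k, x' * z = z * x') ∧
      (hh w1 w2 a * x' * (hh w1 w2 a)⁻¹ * x'⁻¹)⁻¹ * x ∈ WW V (R i) ∧
      ∀ z ∈ h.SG k ⊔ cj (nn w1 w2 1) (h.SG k), (hh w1 w2 a * x' * (hh w1 w2 a)⁻¹ * x'⁻¹)⁻¹ * x * z =
        z * ((hh w1 w2 a * x' * (hh w1 w2 a)⁻¹ * x'⁻¹)⁻¹ * x) := by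
  set τ := hh w1 w2 a with hτ
  have hτX : τ ∈ XX V R := c.hh_mem_X b.toBT a
  have hτR : τ ∈ normalizer (R i : Set G) := cj_eq_self_iff.1 (c.hh_R1 b.toBT ha)
  have hτS : τ ∈ normalizer (h.SG k : Set G) := h.norm_SG b y c hk (h.X_norm_sigma b y c hk hτX) hτR
  have hτW : τ ∈ normalizer (WW V (R i) : Set G) := normalizer_le_WW V (R i) hτR
  have ha1' : a - 1 ≠ 0 := sub_ne_zero.2 ha1
  -- `C_W(SG k)`
  have hC : ∀ {x : G}, x ∈ WW V (R i) → (∀ z ∈ h.SG k, x * z = z * x) → ∀ m ∈ Ng e n s k, f (q x) m = 0 := by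
    intro x hx hxC m hm
    obtain ⟨z', hz', rfl⟩ := h.fr.surj m
    exact (h.fr.comm_iff hx hz').1 (hxC z' ⟨hz', hm⟩)
  have hCU : ∀ {x : G}, x ∈ WW V (R i) → (∀ z ∈ h.SG k, x * z = z * x) → x ∈ UU V R i := by
    intro x hx hxC
    apply h.mem_U x hx
    rw [h.lin.skew, hC hx hxC e e_mem_Ng, neg_zero]
  obtain ⟨x', hx', e1⟩ := h.fr.surj ((a - 1)⁻¹ • q x)
  have hx'C : ∀ z ∈ h.SG k, x' * z = z * x' := by
    intro z hz
    rw [h.fr.comm_iff hx' (h.SG_le_W k hz), e1, map_smul, LinearMap.smul_apply, hC hx hxC _ hz.2, smul_zero]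
  have hxU := hCU hx hxC
  have hx'U := hCU hx' hx'C
  have hP1 : P1 x' = (a - 1)⁻¹ • P1 x := by
    obtain ⟨c1, d1, hd1, e2⟩ := h.q_U x hxU
    obtain ⟨c2, d2, hd2, e3⟩ := h.q_U x' hx'U
    refine h.n_unique (c := c2) (c' := (a - 1)⁻¹ * c1) (d := d2) (d' := (a - 1)⁻¹ • d1) hd2 (M0.smul_mem _ hd1) ?_
    rw [← e3, e1, e2, smul_add, smul_add, smul_smul, map_smul]
  -- the commutator
  set g := τ * x' * τ⁻¹ * x'⁻¹ with hg
  have hcx' : τ * x' * τ⁻¹ ∈ WW V (R i) := BTwo.conj_mem_of_normalizer hτW hx'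
  have hgW : g ∈ WW V (R i) := mul_mem hcx' (inv_mem hx')
  have hcC : ∀ z ∈ h.SG k, τ * x' * τ⁻¹ * z = z * (τ * x' * τ⁻¹) := by
    intro z hz
    have h1 := hx'C (τ⁻¹ * z * τ) (conj_inv_mem_of_normalizer hτS hz)
    calc τ * x' * τ⁻¹ * z = τ * (x' * (τ⁻¹ * z * τ)) * τ⁻¹ := by group
      _ = τ * (τ⁻¹ * z * τ * x') * τ⁻¹ := by rw [h1]
      _ = z * (τ * x' * τ⁻¹) := by group
  have hCsub : ∀ {p r : G}, (∀ z ∈ h.SG k, p * z = z * p) → (∀ z ∈ h.SG k, r * z = z * r) →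
      ∀ z ∈ h.SG k, p * r⁻¹ * z = z * (p * r⁻¹) := by
    intro p r hp hr z hz
    have h1 : r⁻¹ * z = z * r⁻¹ := by
      have := hr z hz
      calc r⁻¹ * z = r⁻¹ * (z * r) * r⁻¹ := by group
        _ = r⁻¹ * (r * z) * r⁻¹ := by rw [this]
        _ = z * r⁻¹ := by group
    rw [mul_assoc, h1, ← mul_assoc, hp z hz, mul_assoc]
  have hgC : ∀ z ∈ h.SG k, g * z = z * g := hCsub hcC hx'C
  have hgxC : ∀ z ∈ h.SG k, g⁻¹ * x * z = z * (g⁻¹ * x) := by
    have h1 : ∀ z ∈ h.SG k, x⁻¹ * g * z = z * (x⁻¹ * g) := by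
      intro z hz
      have h2 := hCsub (p := 1) (r := x) (fun z _ => by rw [one_mul, mul_one]) hxC z hz
      rw [one_mul] at h2
      rw [mul_assoc, hgC z hz, ← mul_assoc, h2, mul_assoc]
    intro z hz
    have h2 := hCsub (p := 1) (r := x⁻¹ * g) (fun z _ => by rw [one_mul, mul_one]) h1 z hz
    rw [one_mul, mul_inv_rev, inv_inv] at h2
    exact h2
  have hgx : g⁻¹ * x ∈ WW V (R i) := mul_mem (inv_mem hgW) hx
  -- `P1 (g⁻¹ x) = 0`
  have hcU := hCU hcx' hcC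
  have hY : ∀ {x}, x ∈ UU V R i → x ∈ YY V R := fun hx => UU_le_YY i hx
  have hP : P1 (g⁻¹ * x) = 0 := by
    have h1 : P1 (τ * x' * τ⁻¹) = a • P1 x' := (y.hh1 b.toBT c ha (hY hx'U)).1
    have hgU : g ∈ UU V R i := hCU hgW hgC
    have h2 : P1 g = P1 x := by
      rw [hg, y.mul1 _ (hY hcU) _ (inv_mem (hY hx'U)), y.inv1 (hY hx'U), h1, hP1, smul_smul, ← sub_eq_add_neg,
        ← sub_smul]
      have e4 : a * (a - 1)⁻¹ - (a - 1)⁻¹ = 1 := by
        rw [← sub_one_mul, mul_inv_cancel₀ ha1']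
      rw [e4, one_smul]
    rw [y.mul1 _ (inv_mem (hY hgU)) _ (hY hxU), y.inv1 (hY hgU), h2, neg_add_cancel]
  refine ⟨x', hx', hx'C, hgx, ?_⟩
  -- `g⁻¹ x` centralises `(SG k)^n`
  have hnc : nco e M0 n (q (g⁻¹ * x)) = 0 := by
    obtain ⟨c1, d1, hd1, e2⟩ := h.q_U _ (hCU hgx hgxC)
    rw [e2, h.lin.nco_eq hd1, hP]
  have hcj : ∀ z ∈ cj (nn w1 w2 1) (h.SG k), g⁻¹ * x * z = z * (g⁻¹ * x) := by
    intro z hz
    have h1 := h.comm_formula b y c hk hz hgx hgxC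
    rw [hnc, hs0, mul_zero, c.v_zero, mul_inv_eq_one, mul_inv_eq_iff_eq_mul] at h1
    exact h1
  have hle : h.SG k ⊔ cj (nn w1 w2 1) (h.SG k) ≤ centralizer {g⁻¹ * x} :=
    sup_le (fun z hz => mem_centralizer_singleton_iff.2 (hgxC z hz).symm)
      (fun z hz => mem_centralizer_singleton_iff.2 (hcj z hz).symm)
  exact fun z hz => (mem_centralizer_singleton_iff.1 (hle hz)).symm

end sigma

/-! ### The residue -/

/-- Data of the node `x`: `P x` normalises `R i`, `W_x` (the subgroup `S`), and its chambers are the conjugates of `V`. -/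
structure NodeX (V : Subgroup G) (R : ι → Subgroup G) (i : ι) (B U Px : Subgroup G) : Prop where
  norm : B ≤ normalizer (U : Set G)
  isP : IsPGroup 2 U
  index : Nat.Coprime 2 (U.relIndex B)
  YU : YY V R ≤ U
  le : B ≤ Px
  PR : Px ≤ normalizer (R i : Set G)
  PV : Px ⊓ normalizer (V : Set G) ≤ B
  reg : ∀ u ∈ U, ∀ g ∈ Px, g ∉ B → g⁻¹ * u * g ∈ B → u ∈ Qk B Px

section res

variable {B U : Subgroup G} {I : Type*} {P : I → Subgroup G} {o x : I}

/-- `C_U(Σ)` is in the kernel of the residue -/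
theorem cen_le_Qk_res [Finite G] (b : BT V R) (D : Zero.Dat V R i B U) (hPo : P o = Zero.P0 V R B) (X : NodeX V R i B U (P x))
    {Sig : Subgroup G} (hVS : V ≤ Sig) (hX : XX V R ≤ normalizer (Sig : Set G)) (hP : P x ≤ normalizer (Sig : Set G))
    {z : G} (hz : z ∈ U) (hzS : z ∈ centralizer (Sig : Set G)) : z ∈ Qk B (P o ⊔ P x) := by
  have hp := mem_U_of_conj (p := 2) X.norm X.isP X.index
  have key : ∀ g ∈ P o ⊔ P x, ∀ z ∈ U ⊓ centralizer (Sig : Set G), g⁻¹ * z * g ∈ U ⊓ centralizer (Sig : Set G) := by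
    have h0 : ∀ g ∈ P o, ∀ z ∈ U ⊓ centralizer (Sig : Set G), g⁻¹ * z * g ∈ U ⊓ centralizer (Sig : Set G) := by
      rintro g hg z hz
      obtain ⟨hz1, hz2⟩ := mem_inf.1 hz
      rw [hPo] at hg
      have hgN : g ∈ normalizer (Sig : Set G) := (sup_le hX (X.le.trans hP)) hg
      refine mem_inf.2 ⟨hp z hz1 g ?_, BTwo.conj_inv_mem_of_normalizer (normalizer_le_normalizer_centralizer _ hgN) hz2⟩
      exact Zero.cen_le_Qk b D ((le_sup_right : B ≤ Zero.P0 V R B) (D.UB hz1)) (centralizer_le hVS hz2) g hg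
    have h1 : ∀ g ∈ P x, ∀ z ∈ U ⊓ centralizer (Sig : Set G), g⁻¹ * z * g ∈ U ⊓ centralizer (Sig : Set G) := by
      rintro g hg z hz
      obtain ⟨hz1, hz2⟩ := mem_inf.1 hz
      have h2 := BTwo.conj_inv_mem_of_normalizer (normalizer_le_normalizer_centralizer _ (hP hg)) hz2
      refine mem_inf.2 ⟨hp z hz1 g (X.PV (mem_inf.2 ⟨?_, ?_⟩)), h2⟩
      · exact mul_mem (mul_mem (inv_mem hg) (X.le (D.UB hz1))) hg
      · exact (cen_le_NV V) (centralizer_le hVS h2)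
    let T : Subgroup G :=
      { carrier := {g | (∀ z ∈ U ⊓ centralizer (Sig : Set G), g⁻¹ * z * g ∈ U ⊓ centralizer (Sig : Set G)) ∧
          ∀ z ∈ U ⊓ centralizer (Sig : Set G), g * z * g⁻¹ ∈ U ⊓ centralizer (Sig : Set G)}
        one_mem' := ⟨fun z hz => by simpa using hz, fun z hz => by simpa using hz⟩
        mul_mem' := by
          rintro g g' ⟨h1, h1'⟩ ⟨h2, h2'⟩
          refine ⟨fun z hz => ?_, fun z hz => ?_⟩
          · have := h2 _ (h1 z hz)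
            rwa [show g'⁻¹ * (g⁻¹ * z * g) * g' = (g * g')⁻¹ * z * (g * g') by group] at this
          · have := h1' _ (h2' z hz)
            rwa [show g * (g' * z * g'⁻¹) * g⁻¹ = (g * g') * z * (g * g')⁻¹ by group] at this
        inv_mem' := by
          rintro g ⟨h1, h1'⟩
          exact ⟨fun z hz => by rw [inv_inv]; exact h1' z hz, fun z hz => by rw [inv_inv]; exact h1 z hz⟩ }
    have hT : P o ⊔ P x ≤ T := sup_le
      (fun g hg => ⟨h0 g hg, fun z hz => by have := h0 _ (inv_mem hg) z hz; rwa [inv_inv] at this⟩)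
      (fun g hg => ⟨h1 g hg, fun z hz => by have := h1 _ (inv_mem hg) z hz; rwa [inv_inv] at this⟩)
    exact fun g hg => (hT hg).1
  exact le_Qk_of (inf_le_left.trans D.UB) key (mem_inf.2 ⟨hz, hzS⟩)

/-- `W_i` is in the kernel of the panel of `x` -/
theorem W_le_Qx (D : Zero.Dat V R i B U) (X : NodeX V R i B U (P x)) : WW V (R i) ≤ Qk B (P x) :=
  le_Qk_of (D.WU.trans D.UB) fun _ hg _ hz =>
    BTwo.conj_inv_mem_of_normalizer (normalizer_le_WW V (R i) (X.PR hg)) hz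

variable {w1 w2 : F → G} [CharP F 2] [Finite G] [Finite F]

theorem nn_mem_P0 (b : BT V R) (c : Coord V R i j v w1 w2) : nn w1 w2 1 ∈ Zero.P0 V R B :=
  (le_sup_left : XX V R ≤ _) (c.nn_mem_X b 1)

theorem nn_notMem (b : BT V R) (c : Coord V R i j v w1 w2) (D : Zero.Dat V R i B U) : nn w1 w2 1 ∉ B := by
  rw [Zero.not_mem_B_iff b D (nn_mem_P0 b c)]
  exact ⟨j, c.ne.symm, c.nn_R1 b one_ne_zero⟩

/-- `n U_j n⁻¹ = U_i` -/
theorem nn_U (b : BT V R) (c : Coord V R i j v w1 w2) {u : G} (hu : u ∈ UU V R j) :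
    nn w1 w2 1 * u * (nn w1 w2 1)⁻¹ ∈ UU V R i := by
  rw [← b.cj_UU (b.X_le_NV (c.nn_mem_X b 1)) (c.nn_R2 b one_ne_zero)]
  exact conj_mem_cj hu

/-- **The field `frat` for a plane** (type `(alpha)`): `Σ = W_N` is centralised by `C_W(N)`. -/
theorem GFr.frat_three (h : GFr V R i j v P1 P2 q f e M0 n s sh α) (b : BTC V R)
    (y : YPair V R i j w1 w2 E P1 P2) (c : Coord V R i j v w1 w2) (D : Zero.Dat V R i B U)
    (hPo : P o = Zero.P0 V R B) (X : NodeX V R i B U (P x)) (poly : Polygon B P o x 3)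
    (N : Submodule F M) (hN : ∀ m ∈ N, (∀ κ, α κ m = m) → ∃ c : F, m = c • e) (heN : e ∈ N)
    (hX : XX V R ≤ normalizer (pre h.fr N : Set G)) (hP : P x ≤ normalizer (pre h.fr N : Set G))
    {y0 : G} (hy0 : y0 ∈ P x) (hy0B : y0 ∉ B)
    (tr1 : ∀ y' ∈ P x, y' ∉ B → ∃ u ∈ UU V R j, (u * y0)⁻¹ * y' ∈ B) :
    ∀ Z ≤ U, (∀ u ∈ U, ∃ z ∈ Z, z⁻¹ * u ∈ Qk B (P o) ∧ z⁻¹ * u ∈ Qk B (P x)) →
      ∀ u ∈ U, ∃ z ∈ Z, z⁻¹ * u ∈ Qk B (P o ⊔ P x) := by
  have hUjU : UU V R j ≤ U := (UU_le_YY j).trans X.YU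
  have hUiU : UU V R i ≤ U := (UU_le_YY i).trans X.YU
  have hVS : V ≤ pre h.fr N := by
    intro z hz
    obtain ⟨a, a', rfl⟩ := (c.mem_V z).1 hz
    refine ⟨V_le_WW V (R i) hz, ?_⟩
    rw [h.q_V]
    exact N.smul_mem _ heN
  refine frat_of_cover (p := 2) (O := UU V R i) (by rw [hPo]; exact le_sup_right) D.UB X.isP hUiU ?_ ?_
  · refine poly.cover_three (U2 := UU V R j) (n := nn w1 w2 1) (y := y0) (by rw [hPo]; exact le_sup_right) X.le D.UB
      (mem_U_of_conj (p := 2) X.norm X.isP X.index) (by rw [hPo]; exact Zero.reg b.toBT D) X.reg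
      (by rw [hPo]; exact nn_mem_P0 b.toBT c) (nn_notMem b.toBT c D) hy0 hy0B hUiU
      ((UU_le_WW i).trans (W_le_Qx D X)) (fun u hu => nn_U b.toBT c hu) tr1
  · refine h.U_le_of b.toBT y N hN (fun u hu w hw => ?_) fun w hw h0 => ?_
    · exact Subgroup.mem_sup_left (commutator_mem_commutator (hUjU hu) (D.WU hw))
    · refine Subgroup.mem_sup_right (mem_inf.2 ⟨D.WU hw, ?_⟩)
      refine cen_le_Qk_res b.toBT D hPo X hVS hX hP (D.WU hw) ?_
      rw [mem_centralizer_iff]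
      intro z hz
      exact ((h.fr.comm_iff hw hz.1).2 (h0 _ hz.2)).symm

/-- the groups `y₀⁻¹ D y₀` is transitive on the points `≠ R i` of `V` -/
theorem GFr.exists_D (h : GFr V R i j v P1 P2 q f e M0 n s sh α) (b : BTC V R)
    (y : YPair V R i j w1 w2 E P1 P2) (c : Coord V R i j v w1 w2) {y0 : G} (hy0 : y0 ∈ normalizer (R i : Set G))
    (hDV : ∃ d ∈ DD V R, ∃ z ∈ V, d * (y0 * z * y0⁻¹) ≠ y0 * z * y0⁻¹ * d) {k : ι} (hk : k ≠ i) :
    ∃ u ∈ DD V R, cj (y0⁻¹ * u * y0) (R j) = R k := by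
  have hcV : ∀ β γ, y0 * v β γ * y0⁻¹ ∈ WW V (R i) := fun β γ =>
    BTwo.conj_mem_of_normalizer (normalizer_le_WW V (R i) hy0) (V_le_WW V (R i) (c.v_mem β γ))
  set ℓ := q (y0 * v 0 1 * y0⁻¹) with hℓ
  -- `f(D, ℓ) ≠ 0`
  have h1 : ∃ d ∈ DD V R, f (q d) ℓ ≠ 0 := by
    obtain ⟨d, hd, z, hz, hne⟩ := hDV
    refine ⟨d, hd, fun h0 => hne ?_⟩
    obtain ⟨β, γ, rfl⟩ := (c.mem_V z).1 hz
    have hdW := D_le_W V R i hd
    -- `d` centralises `y0 v(0,1) y0⁻¹`; it acts on `V` (moved back) as `up a`, hence `a = 0`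
    set w := y0⁻¹ * d * y0 with hw
    have hwW : w ∈ WW V (R i) := BTwo.conj_inv_mem_of_normalizer (normalizer_le_WW V (R i) hy0) hdW
    obtain ⟨a, ha⟩ := c.exists_up hwW
    have h2 := (h.fr.comm_iff hdW (hcV 0 1)).2 h0
    have h3 : w * v 0 1 * w⁻¹ = v 0 1 := by
      rw [hw]
      calc y0⁻¹ * d * y0 * v 0 1 * (y0⁻¹ * d * y0)⁻¹ = y0⁻¹ * (d * (y0 * v 0 1 * y0⁻¹)) * d⁻¹ * y0 := by group
        _ = y0⁻¹ * (y0 * v 0 1 * y0⁻¹ * d) * d⁻¹ * y0 := by rw [h2]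
        _ = v 0 1 := by group
    have h4 := ha 0 1
    rw [h3, Lib.SL2Mat.up_00, Lib.SL2Mat.up_01, Lib.SL2Mat.up_10, Lib.SL2Mat.up_11] at h4
    have h5 := (c.v_inj h4).1
    have ha0 : a = 0 := by
      rw [mul_zero, mul_one, zero_add] at h5
      exact h5.symm
    have h6 := ha β γ
    rw [ha0, Lib.SL2Mat.up_00, Lib.SL2Mat.up_01, Lib.SL2Mat.up_10, Lib.SL2Mat.up_11, one_mul, zero_mul, add_zero,
      zero_mul, one_mul, zero_add] at h6
    have h7 : w * v β γ = v β γ * w := mul_inv_eq_iff_eq_mul.1 h6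
    calc d * (y0 * v β γ * y0⁻¹) = y0 * (w * v β γ) * y0⁻¹ := by rw [hw]; group
      _ = y0 * (v β γ * w) * y0⁻¹ := by rw [h7]
      _ = y0 * v β γ * y0⁻¹ * d := by rw [hw]; group
  obtain ⟨d0, hd0, hne⟩ := h1
  -- every value is taken
  have h2 : ∀ β : F, ∃ d ∈ DD V R, f (q d) ℓ = β := by
    intro β
    obtain ⟨c1, m1, hm1, e1⟩ := h.q_D b.toBT y hd0
    obtain ⟨d, hd, e2⟩ := h.fr.surj ((β * (f (q d0) ℓ)⁻¹) • q d0)
    refine ⟨d, ?_, ?_⟩
    · refine h.mem_D_of b.toBT y hd (c := β * (f (q d0) ℓ)⁻¹ * c1) (d := (β * (f (q d0) ℓ)⁻¹) • m1)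
        (M0.smul_mem _ hm1) ?_
      rw [e2, e1, smul_add, smul_smul]
    · rw [e2, map_smul, LinearMap.smul_apply, smul_eq_mul, mul_assoc, inv_mul_cancel₀ hne, mul_one]
  obtain ⟨w', hw', ew'⟩ := b.trans i c.ne.symm hk
  obtain ⟨a, ha⟩ := c.exists_up hw'
  -- the element of `R i` corresponding to `v a 0`
  have h3 : y0 * v a 0 * y0⁻¹ ∈ R i := BTwo.conj_mem_of_normalizer hy0 ((c.mem_R1 _).2 ⟨a, rfl⟩)
  obtain ⟨β, hβ⟩ := (c.mem_R1 _).1 h3
  obtain ⟨d, hd, hdβ⟩ := h2 β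
  refine ⟨d, hd, ?_⟩
  have hdW := D_le_W V R i hd
  set w := y0⁻¹ * d * y0 with hw
  have hwW : w ∈ WW V (R i) := BTwo.conj_inv_mem_of_normalizer (normalizer_le_WW V (R i) hy0) hdW
  obtain ⟨a', ha'⟩ := c.exists_up hwW
  have h4 : w * v 0 1 * w⁻¹ = v a 0 * v 0 1 := by
    have h5 := h.fr.comm d hdW _ (hcV 0 1)
    rw [← hℓ, hdβ] at h5
    have h5' : d * (y0 * v 0 1 * y0⁻¹) * d⁻¹ * (y0 * v 0 1 * y0⁻¹)⁻¹ = v β 0 := h5
    rw [hβ] at h5'
    calc w * v 0 1 * w⁻¹ = y0⁻¹ * (d * (y0 * v 0 1 * y0⁻¹) * d⁻¹ * (y0 * v 0 1 * y0⁻¹)⁻¹) * y0 * v 0 1 := by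
          rw [hw]; group
      _ = y0⁻¹ * (y0 * v a 0 * y0⁻¹) * y0 * v 0 1 := by rw [h5']
      _ = v a 0 * v 0 1 := by group
  have h5 := ha' 0 1
  rw [h4, ← c.v_add, Lib.SL2Mat.up_00, Lib.SL2Mat.up_01, Lib.SL2Mat.up_10, Lib.SL2Mat.up_11] at h5
  have h6 := (c.v_inj h5).1
  have haa : a' = a := by
    rw [add_zero, mul_zero, mul_one, zero_add] at h6
    exact h6.symm
  subst haa
  rw [← ew']
  -- the same action on `V`
  ext z
  rw [mem_cj, mem_cj]
  have key : ∀ z ∈ V, w * z * w⁻¹ = w' * z * w'⁻¹ := by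
    intro z hz
    obtain ⟨β', γ', rfl⟩ := (c.mem_V z).1 hz
    rw [ha', ha]
  have hwV := b.W_le_NV i hwW
  have hwV' := b.W_le_NV i hw'
  constructor
  · intro hz
    have h7 := b.R_le j hz
    have h8 := key _ h7
    have e9 : w * (w⁻¹ * z * w) * w⁻¹ = z := by group
    rw [e9] at h8
    rw [h8]
    have e10 : w'⁻¹ * (w' * (w⁻¹ * z * w) * w'⁻¹) * w' = w⁻¹ * z * w := by group
    rw [e10]
    exact hz
  · intro hz
    have h7 := b.R_le j hz
    have h8 := key _ h7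
    have e9 : w' * (w'⁻¹ * z * w') * w'⁻¹ = z := by group
    rw [e9] at h8
    rw [← h8]
    have e10 : w⁻¹ * (w * (w'⁻¹ * z * w') * w⁻¹) * w = w'⁻¹ * z * w' := by group
    rw [e10]
    exact hz

/-- **The field `frat` for a quadrangle** (types `(sigma)` and `(beta)`). -/
theorem GFr.frat_four (h : GFr V R i j v P1 P2 q f e M0 n s sh α) (b : BTC V R)
    (y : YPair V R i j w1 w2 E P1 P2) (c : Coord V R i j v w1 w2) (D : Zero.Dat V R i B U)
    (hPo : P o = Zero.P0 V R B) (X : NodeX V R i B U (P x)) (poly : Polygon B P o x 4)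
    (hF : ∃ a : F, a ≠ 0 ∧ a ≠ 1) {k : E} (hk : Key e n s α k) (hs0 : sh 0 k = 0) (he : e ≠ 0)
    (hne : ∃ κ, s k κ ≠ 0 ∨ sh κ k ≠ 0)
    (hP : P x ≤ normalizer ((h.SG k ⊔ cj (nn w1 w2 1) (h.SG k) : Subgroup G) : Set G))
    {y0 : G} (hy0 : y0 ∈ P x) (hy0B : y0 ∉ B)
    (hDV : ∃ d ∈ DD V R, ∃ z ∈ V, d * (y0 * z * y0⁻¹) ≠ y0 * z * y0⁻¹ * d)
    (tr1 : ∀ y' ∈ P x, y' ∉ B → ∃ u ∈ UU V R j, (u * y0)⁻¹ * y' ∈ B) :
    ∀ Z ≤ U, (∀ u ∈ U, ∃ z ∈ Z, z⁻¹ * u ∈ Qk B (P o) ∧ z⁻¹ * u ∈ Qk B (P x)) →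
      ∀ u ∈ U, ∃ z ∈ Z, z⁻¹ * u ∈ Qk B (P o ⊔ P x) := by
  obtain ⟨a, ha, ha1⟩ := hF
  have hUjU : UU V R j ≤ U := (UU_le_YY j).trans X.YU
  have hUiU : UU V R i ≤ U := (UU_le_YY i).trans X.YU
  have hBo : B ≤ P o := by rw [hPo]; exact le_sup_right
  have hXo : XX V R ≤ P o := by rw [hPo]; exact le_sup_left
  have hVS : V ≤ h.SG k := h.V_le_SG b.toBT c.mem_V k
  have hVT : V ≤ h.SG k ⊔ cj (nn w1 w2 1) (h.SG k) := hVS.trans le_sup_left
  have hX := h.X_norm_sigma b y c hk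
  have hcomm := h.sigma_comm b y c hk
  have hnP0 : nn w1 w2 1 ∈ P o := by rw [hPo]; exact nn_mem_P0 b.toBT c
  refine frat_of_cover (p := 2) (O := UU V R i) hBo D.UB X.isP hUiU ?_ ?_
  · refine poly.cover_four (U2 := UU V R j) (n := nn w1 w2 1) (y := y0) (z := nn w1 w2 1) hBo X.le D.UB
      (mem_U_of_conj (p := 2) X.norm X.isP X.index) (by rw [hPo]; exact Zero.reg b.toBT D) X.reg
      hnP0 (nn_notMem b.toBT c D) hy0 hy0B hnP0 (nn_notMem b.toBT c D) hUiU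
      ((UU_le_WW i).trans (W_le_Qx D X)) (fun u hu => nn_U b.toBT c hu) tr1 ?_
    intro z' hz' hz'B
    rw [hPo] at hz'
    obtain ⟨k', hk', ek'⟩ := (Zero.not_mem_B_iff b.toBT D hz').1 hz'B
    obtain ⟨d, hd, ed⟩ := h.exists_D b y c (X.PR hy0) hDV hk'
    refine ⟨d, b.D_le_U j hd, ?_⟩
    have e1 : (d * y0 * nn w1 w2 1)⁻¹ * (y0 * z') = (nn w1 w2 1)⁻¹ * (y0⁻¹ * d * y0)⁻¹ * z' := by group
    rw [e1]
    have hw : y0⁻¹ * d * y0 ∈ WW V (R i) :=
      BTwo.conj_inv_mem_of_normalizer (normalizer_le_WW V (R i) (X.PR hy0)) (D_le_W V R i hd)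
    refine Zero.mem_B b.toBT D (mul_mem (mul_mem (inv_mem (nn_mem_P0 b.toBT c))
      (inv_mem ((le_sup_left : XX V R ≤ _) (W_le_X V R i hw)))) hz') ?_
    rw [← cj_eq_self_iff, cj_mul, cj_mul, ek', ← ed, cj_inv_cj, ← c.nn_R1 b.toBT one_ne_zero, cj_inv_cj]
  · -- `U_i ≤ [U, U] (U ∩ K)`
    set Φ : Subgroup G := ⁅U, U⁆ ⊔ (U ⊓ Qk B (P o ⊔ P x)) with hΦ
    have hcΦ : ∀ u ∈ U, ∀ w ∈ U, u * w * u⁻¹ * w⁻¹ ∈ Φ := fun u hu w hw =>
      Subgroup.mem_sup_left (commutator_mem_commutator hu hw)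
    have hKΦ : ∀ z ∈ U, z ∈ centralizer ((h.SG k ⊔ cj (nn w1 w2 1) (h.SG k) : Subgroup G) : Set G) → z ∈ Φ :=
      fun z hz hzS => Subgroup.mem_sup_right (mem_inf.2 ⟨hz, cen_le_Qk_res b.toBT D hPo X hVT hX hP hz hzS⟩)
    have hVΦ : V ≤ Φ := by
      intro z hz
      refine hKΦ z (D.WU (V_le_WW V (R i) hz)) ?_
      rw [mem_centralizer_iff]
      exact fun t ht => hcomm t ht z (hVT hz)
    have hτX : hh w1 w2 a ∈ XX V R := c.hh_mem_X b.toBT a
    have hτR : hh w1 w2 a ∈ normalizer (R i : Set G) := cj_eq_self_iff.1 (c.hh_R1 b.toBT ha)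
    have hτB : hh w1 w2 a ∈ B := D.XB (mem_inf.2 ⟨hτX, hτR⟩)
    have hτU := X.norm hτB
    have hτΦ : ∀ z ∈ Φ, hh w1 w2 a * z * (hh w1 w2 a)⁻¹ ∈ Φ := by
      have h1 : Φ ≤ Φ.comap (MulAut.conj (hh w1 w2 a)).toMonoidHom := by
        refine sup_le ?_ fun z hz => ?_
        · rw [commutator_le]
          intro u hu w hw
          show hh w1 w2 a * ⁅u, w⁆ * (hh w1 w2 a)⁻¹ ∈ Φ
          have e1 : hh w1 w2 a * ⁅u, w⁆ * (hh w1 w2 a)⁻¹ =
              ⁅hh w1 w2 a * u * (hh w1 w2 a)⁻¹, hh w1 w2 a * w * (hh w1 w2 a)⁻¹⁆ := by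
            rw [commutatorElement_def, commutatorElement_def]; group
          rw [e1]
          exact Subgroup.mem_sup_left (commutator_mem_commutator (BTwo.conj_mem_of_normalizer hτU hu)
            (BTwo.conj_mem_of_normalizer hτU hw))
        · show hh w1 w2 a * z * (hh w1 w2 a)⁻¹ ∈ Φ
          obtain ⟨hz1, hz2⟩ := mem_inf.1 hz
          exact Subgroup.mem_sup_right (mem_inf.2 ⟨BTwo.conj_mem_of_normalizer hτU hz1,
            Qk_conj' hz2 ((le_sup_left : P o ≤ _) (hBo hτB))⟩)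
      exact fun z hz => h1 hz
    -- `W₀ = C_W(SG k)`
    let W0 : Subgroup G := WW V (R i) ⊓ centralizer (h.SG k : Set G)
    have hW0 : ∀ {z : G}, z ∈ W0 ↔ z ∈ WW V (R i) ∧ ∀ t ∈ h.SG k, z * t = t * z := by
      intro z
      rw [mem_inf, mem_centralizer_iff]
      exact ⟨fun h1 => ⟨h1.1, fun t ht => (h1.2 t ht).symm⟩, fun h1 => ⟨h1.1, fun t ht => (h1.2 t ht).symm⟩⟩
    have hW0U : W0 ≤ UU V R i := by
      intro z hz
      obtain ⟨hz1, hz2⟩ := hW0.1 hz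
      exact mem_inf.2 ⟨hz1, mem_centralizer_iff.2 fun t ht => (hz2 t (hVS ht)).symm⟩
    have hNorm : ∀ u ∈ U, ∀ z ∈ Φ, u * z * u⁻¹ ∈ Φ := fun u hu z hz => by
      have hzU : z ∈ U := by
        have h1 : Φ ≤ U := sup_le (commutator_le.2 fun p hp r hr =>
          mul_mem (mul_mem (mul_mem hp hr) (inv_mem hp)) (inv_mem hr)) inf_le_left
        exact h1 hz
      have h2 := mul_mem (hcΦ u hu z hzU) hz
      rwa [inv_mul_cancel_right] at h2
    refine le_of_tau (W0 := W0) (D := DD V R) (t := hh w1 w2 a) hτΦ ?_ ?_ hW0U ?_ ?_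
    · -- duality
      have h1 : UU V R i ≤ Φ ⊔ W0 := by
        refine h.U_le_of b.toBT y (Ng e n s k) (fun m hm hf => h.fixed_Ng he hne hm hf) (fun u hu w hw => ?_)
          fun w hw h0 => ?_
        · exact Subgroup.mem_sup_left (hcΦ u (hUjU hu) w (D.WU hw))
        · exact Subgroup.mem_sup_right (hW0.2 ⟨hw, fun t ht => (h.fr.comm_iff hw ht.1).2 (h0 _ ht.2)⟩)
      have hn : W0 ≤ normalizer (Φ : Set G) := le_normalizer_of fun z hz t ht => hNorm z (hUiU (hW0U hz)) t ht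
      intro z hz
      have h2 : z ∈ ((Φ ⊔ W0 : Subgroup G) : Set G) := h1 hz
      rw [coe_mul_of_right_le_normalizer_left _ _ hn] at h2
      obtain ⟨p, hp, r, hr, e1⟩ := h2
      exact ⟨p, hp, r, hr, e1.symm⟩
    · exact U_le_D b.toBT c fun w hw u hu => hcΦ w (D.WU hw) u (hUjU hu)
    · exact fun d hd => hVΦ (b.XD hτX hd)
    · intro w hw
      obtain ⟨hw1, hw2⟩ := hW0.1 hw
      obtain ⟨w', hw'1, hw'2, h3, h4⟩ := h.tau_step b y c hk hs0 ha ha1 hw1 hw2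
      refine ⟨w', hW0.2 ⟨hw'1, hw'2⟩, hKΦ _ (D.WU h3) ?_⟩
      rw [mem_centralizer_iff]
      exact fun t ht => (h4 t ht).symm

end res

/-! ### Type `(alpha)`: `N = e + ⟨d⟩`, `d ∈ M0` -/

section alpha

variable (h : GFr V R i j v P1 P2 q f e M0 n s sh α)
include h

/-- `C_N(A) = e` for `N = e + ⟨d⟩` -/
theorem GFr.fixed_alpha (he : e ≠ 0) {d : M} (hd : d ∈ M0) {m : M}
    (hm : m ∈ Submodule.span F {e} ⊔ Submodule.span F {d}) (hfix : ∀ κ, α κ m = m) : ∃ c : F, m = c • e := by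
  obtain ⟨m1, hm1, m2, hm2, rfl⟩ := Submodule.mem_sup.1 hm
  obtain ⟨c, rfl⟩ := Submodule.mem_span_singleton.1 hm1
  obtain ⟨r, rfl⟩ := Submodule.mem_span_singleton.1 hm2
  have h1 : ∀ κ, r * f d (n κ) = 0 := by
    intro κ
    have h2 := hfix κ
    rw [map_add, map_smul, map_smul, h.α_e, h.α_M0 κ d hd, smul_add, smul_smul] at h2
    have h3 : (r * f d (n κ)) • e = 0 := by
      have h4 : (r * f d (n κ)) • e = (c • e + (r • d + (r * f d (n κ)) • e)) - (c • e + r • d) := by abel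
      rw [h4, h2, sub_self]
    exact (smul_eq_zero.1 h3).resolve_right he
  by_cases hr : r = 0
  · exact ⟨c, by rw [hr, zero_smul, add_zero]⟩
  · have h2 : d = 0 := h.lin.inj d hd fun g => (mul_eq_zero.1 (h1 g)).resolve_left hr
    exact ⟨c, by rw [h2, smul_zero, add_zero]⟩

/-- `X` normalises the preimage of `N`, `e ∈ N ≤ e + M0` -/
theorem GFr.X_norm_pre (b : BT V R) {w1 w2 : F → G} (y : YPair V R i j w1 w2 E P1 P2)
    (c : Coord V R i j v w1 w2) {N : Submodule F M} (he : e ∈ N) (hN : N ≤ Submodule.span F {e} ⊔ M0) :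
    XX V R ≤ normalizer (pre h.fr N : Set G) := by
  have hV : V ≤ pre h.fr N := by
    intro z hz
    obtain ⟨a, a', rfl⟩ := (c.mem_V z).1 hz
    refine ⟨V_le_WW V (R i) hz, ?_⟩
    rw [h.q_V]
    exact N.smul_mem _ he
  have hD : pre h.fr N ≤ DD V R := by
    intro z hz
    obtain ⟨m1, hm1, m2, hm2, e1⟩ := Submodule.mem_sup.1 (hN hz.2)
    obtain ⟨c, rfl⟩ := Submodule.mem_span_singleton.1 hm1
    exact h.mem_D_of b y hz.1 hm2 e1.symm
  refine le_normalizer_of fun x hx d hd => ?_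
  have h2 := mul_mem (hV (b.XD hx (hD hd))) hd
  rwa [inv_mul_cancel_right] at h2

end alpha

/-! ### `D` moves `V' = y₀ V y₀⁻¹` -/

/-- if the image of `y₀ v(0,1) y₀⁻¹` in `M` is `a e + z + r n_k` with `z ∈ M0`, `r ≠ 0`, `k ≠ 0`, then `D` moves `y₀ V y₀⁻¹` -/
theorem GFr.exists_D_ne (h : GFr V R i j v P1 P2 q f e M0 n s sh α) (b : BT V R)
    {w1 w2 : F → G} (y : YPair V R i j w1 w2 E P1 P2) (c : Coord V R i j v w1 w2) [Finite G] [Finite F] {k : E}
    (hk0 : k ≠ 0) {y0 : G} (hy0 : y0 ∈ normalizer (R i : Set G)) {a r : F} {z : M} (hz : z ∈ M0) (hr : r ≠ 0)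
    (hq : q (y0 * v 0 1 * y0⁻¹) = a • e + z + r • n k) :
    ∃ d ∈ DD V R, ∃ z ∈ V, d * (y0 * z * y0⁻¹) ≠ y0 * z * y0⁻¹ * d := by
  have : Finite M := Finite.of_surjective (fun x : WW V (R i) => q x) fun m => by
    obtain ⟨x, hx, e1⟩ := h.fr.surj m
    exact ⟨⟨x, hx⟩, e1⟩
  -- `f(M0, n k) ≠ 0`
  have h1 : ∃ d ∈ M0, f d (n k) ≠ 0 := by
    by_contra hno
    push Not at hno
    have h2 : n k ∈ Submodule.span F {e} := by
      refine h.lin.perp_perp _ _ fun m' hm' => ?_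
      have h3 : f e m' = 0 := by
        rw [h.lin.skew, hm' e (Submodule.mem_span_singleton_self e), neg_zero]
      obtain ⟨c1, d, hd, g, rfl⟩ := h.lin.perp m' h3
      rw [map_add, map_add, map_smul, h.lin.f_n_e, h.lin.f_n, h.lin.skew (n k) d, hno d hd, smul_zero, neg_zero,
        add_zero, add_zero]
    obtain ⟨c1, hc1⟩ := Submodule.mem_span_singleton.1 h2
    have h3 := h.lin.indep (-c1) 0 M0.zero_mem k (by rw [add_zero, ← hc1, neg_smul, neg_add_cancel])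
    exact hk0 h3
  obtain ⟨d, hd, hne⟩ := h1
  obtain ⟨x, hx, e1⟩ := h.fr.surj d
  have hxD : x ∈ DD V R := h.mem_D_of b y hx (c := 0) hd (by rw [e1, zero_smul, zero_add])
  refine ⟨x, hxD, v 0 1, c.v_mem 0 1, fun h2 => hne ?_⟩
  have hc : y0 * v 0 1 * y0⁻¹ ∈ WW V (R i) :=
    BTwo.conj_mem_of_normalizer (normalizer_le_WW V (R i) hy0) (V_le_WW V (R i) (c.v_mem 0 1))
  have h3 := (h.fr.comm_iff hx hc).1 h2
  rw [e1, hq, map_add, map_add, map_smul, map_smul, h.lin.f_M0_e hd, h.lin.f_M0 d hd z hz, smul_zero, zero_add,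
    zero_add, smul_eq_mul] at h3
  exact (mul_eq_zero.1 h3).resolve_left hr

end Cfsg.Agent.Omega.Lie.Nodes

end

section


/-!
# NODE LIE, TEXT NODES (#14331) (N): the types of the nodes (abstract part)

`M` an `F`-space, `e` a vector, `om` a linear form (`om x = f(x, e)`), `e^⊥ = e ⊕ M0 ⊕ n(N)` (weights `-1, 0, 1` of the
torus `T`), `A = {α a}` with `[e^⊥, A] ≤ e + M0`, `[M0, A] ≤ e`, `C_{M0}(A) = 0`, `P ≥ A` acting linearly, normalised by
`T`, `Om` = the vectors in the points of the orbit `⟨e⟩^P`, `A` transitive on `Om - ⟨e⟩`, at least three points.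

`NodeFr.node`: one of the four cases alpha, beta, sigma, gamma.
-/

set_option autoImplicit false

namespace Cfsg.Agent.Omega.Lie.Nodes

open Submodule

universe u v w x y

section

variable {F : Type v} [Field F] {M : Type u} [AddCommGroup M] [Module F M] {N : Type w} [AddCommGroup N] [Module F N]
  {A : Type x} [AddCommGroup A] [Module F A] {H : Type y} [Group H] [DistribMulAction H M]

/-- the vectors of the points in the orbit of the point `⟨e⟩` -/
def Om (F : Type v) [Field F] {M : Type u} [AddCommGroup M] [Module F M] {H : Type y} [Group H]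
    [DistribMulAction H M] (P : Subgroup H) (e x : M) : Prop :=
  ∃ p ∈ P, ∃ c : F, c ≠ 0 ∧ x = c • (p • e)

/-- the hypotheses of the node theorem -/
structure NodeFr (e : M) (om : M →ₗ[F] F) (M0 : Submodule F M) (n : N →ₗ[F] M) (T : Fˣ → H) (α : A → H)
    (l : A → M → F) (sf : N →ₗ[F] A →ₗ[F] M) (q : A → N → F) (P K : Subgroup H) : Prop where
  e_ne : e ≠ 0
  perp : ∀ x, om x = 0 → ∃ γ : F, ∃ d ∈ M0, ∃ g, x = γ • e + d + n g
  indep : ∀ (γ : F) (d : M) (g : N), d ∈ M0 → γ • e + d + n g = 0 → γ = 0 ∧ d = 0 ∧ g = 0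
  T_mul : ∀ a b (x : M), T (a * b) • x = T a • T b • x
  T_lin : ∀ a (c : F) (x : M), T a • c • x = c • T a • x
  T_e : ∀ a, T a • e = (a : F)⁻¹ • e
  T_0 : ∀ a, ∀ d ∈ M0, T a • d = d
  T_1 : ∀ a g, T a • n g = (a : F) • n g
  T_A : ∀ (c : Fˣ) b (x : M), T c • α b • x = α ((c : F)⁻¹ • b) • T c • x
  A_add : ∀ a b (x : M), α (a + b) • x = α a • α b • x
  A_e : ∀ a, α a • e = e
  A_0 : ∀ a, ∀ d ∈ M0, α a • d = d + l a d • e
  A_1 : ∀ a g, α a • n g = n g + sf g a + q a g • e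
  sf_mem : ∀ g a, sf g a ∈ M0
  l_add : ∀ a b, ∀ d ∈ M0, l (a + b) d = l a d + l b d
  l_smul : ∀ (c : F) a, ∀ d ∈ M0, l (c • a) d = c * l a d
  l_alt : ∀ g a, l a (sf g a) = 0
  inj : ∀ d ∈ M0, (∀ a, l a d = 0) → d = 0
  q_add : ∀ a b g, q (a + b) g = q a g + q b g + l a (sf g b)
  q_smul : ∀ (c : F) a g, q (c • a) g = c ^ 2 * q a g
  P_lin : ∀ p ∈ P, ∀ (c : F) (x : M), p • c • x = c • p • x
  A_mem : ∀ a, α a ∈ P
  P_le : P ≤ K
  T_mem : ∀ a, T a ∈ K
  T_norm : ∀ a, ∀ p ∈ P, T a * p * (T a)⁻¹ ∈ P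
  D_stab : ∀ g ∈ K, (∃ c : F, g • e = c • e) → ∀ d ∈ M0, ∃ γ : F, ∃ d' ∈ M0, g • d = γ • e + d'
  tr : ∀ x y, Om F P e x → Om F P e y → (∀ c : F, x ≠ c • e) → (∀ c : F, y ≠ c • e) →
    ∃ a, ∃ c : F, α a • x = c • y
  three : ∃ x y, Om F P e x ∧ Om F P e y ∧ (∀ c : F, x ≠ c • e) ∧ (∀ c : F, y ≠ c • e) ∧ ∀ c : F, y ≠ c • x

/-- `N_g = ⟨e⟩ + s(g, A) + ⟨n g⟩` -/
def NN (e : M) (n : N →ₗ[F] M) (sf : N →ₗ[F] A →ₗ[F] M) (g : N) : Submodule F M :=
  span F {e} ⊔ LinearMap.range (sf g) ⊔ span F {n g}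

theorem mem_NN {e : M} {n : N →ₗ[F] M} {sf : N →ₗ[F] A →ₗ[F] M} {g : N} {x : M} :
    x ∈ NN e n sf g ↔ ∃ (c : F) (a : A) (r : F), x = c • e + sf g a + r • n g := by
  unfold NN
  constructor
  · intro hx
    obtain ⟨y, hy, z, hz, rfl⟩ := mem_sup.1 hx
    obtain ⟨y', hy', w, ⟨a, rfl⟩, rfl⟩ := mem_sup.1 hy
    obtain ⟨c, rfl⟩ := mem_span_singleton.1 hy'
    obtain ⟨r, rfl⟩ := mem_span_singleton.1 hz
    exact ⟨c, a, r, rfl⟩
  · rintro ⟨c, a, r, rfl⟩
    exact add_mem_sup (add_mem_sup (mem_span_singleton.2 ⟨c, rfl⟩) (LinearMap.mem_range_self _ a))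
      (mem_span_singleton.2 ⟨r, rfl⟩)

namespace NodeFr

variable {e : M} {om : M →ₗ[F] F} {M0 : Submodule F M} {n : N →ₗ[F] M} {T : Fˣ → H} {α : A → H}
    {l : A → M → F} {sf : N →ₗ[F] A →ₗ[F] M} {q : A → N → F} {P K : Subgroup H}
    (h : NodeFr e om M0 n T α l sf q P K)

section basic

omit [AddCommGroup A] [Module F A] [AddCommGroup N] [Module F N] in
theorem _root_.Cfsg.Agent.Omega.Lie.Nodes.Om.self : Om F P e e :=
  ⟨1, one_mem _, 1, one_ne_zero, by rw [one_smul, one_smul]⟩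

omit [AddCommGroup A] [Module F A] [AddCommGroup N] [Module F N] in
theorem _root_.Cfsg.Agent.Omega.Lie.Nodes.Om.smul {x : M} (hx : Om F P e x) {c : F} (hc : c ≠ 0) :
    Om F P e (c • x) := by
  obtain ⟨p, hp, c', hc', rfl⟩ := hx
  exact ⟨p, hp, c * c', mul_ne_zero hc hc', by rw [mul_smul]⟩

theorem _root_.Cfsg.Agent.Omega.Lie.Nodes.Om.of_smul {x : M} {c : F} (hc : c ≠ 0) (hx : Om F P e (c • x)) :
    Om F P e x := by
  have h1 := hx.smul (inv_ne_zero hc)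
  rwa [inv_smul_smul₀ hc] at h1

include h

theorem om_ne {x : M} (hx : Om F P e x) : x ≠ 0 := by
  obtain ⟨p, hp, c, hc, rfl⟩ := hx
  intro h0
  rcases smul_eq_zero.1 h0 with h1 | h1
  · exact hc h1
  · apply h.e_ne
    rw [← inv_smul_smul p e, h1, smul_zero]

theorem om_act {p : H} (hp : p ∈ P) {x : M} (hx : Om F P e x) : Om F P e (p • x) := by
  obtain ⟨p', hp', c, hc, rfl⟩ := hx
  exact ⟨p * p', mul_mem hp hp', c, hc, by rw [h.P_lin p hp, mul_smul]⟩

theorem om_act_iff {p : H} (hp : p ∈ P) {x : M} : Om F P e (p • x) ↔ Om F P e x := by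
  refine ⟨fun hx => ?_, h.om_act hp⟩
  have h1 := h.om_act (inv_mem hp) hx
  rwa [inv_smul_smul] at h1

theorem om_T (s : Fˣ) {x : M} (hx : Om F P e x) : Om F P e (T s • x) := by
  obtain ⟨p, hp, c, hc, rfl⟩ := hx
  refine ⟨_, h.T_norm s p hp, c * (s : F)⁻¹, mul_ne_zero hc (inv_ne_zero s.ne_zero), ?_⟩
  rw [h.T_lin, mul_smul, ← h.P_lin _ (h.T_norm s p hp), ← h.T_e, ← mul_smul, ← mul_smul, inv_mul_cancel_right]

theorem A_smul_e (a : A) (c : F) : α a • (c • e) = c • e := by rw [h.P_lin _ (h.A_mem a), h.A_e]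

theorem T_smul_e (s : Fˣ) (c : F) : T s • (c • e) = (c * (s : F)⁻¹) • e := by rw [h.T_lin, h.T_e, smul_smul]

theorem smul_e_eq {c : F} (hc : c • e = 0) : c = 0 := (smul_eq_zero.1 hc).resolve_right h.e_ne

/-- the eigenvector equation on `e^⊥` -/
theorem eig {γ χ : F} {d : M} {g : N} (hd : d ∈ M0) (s : Fˣ)
    (hx : T s • (γ • e + d + n g) = χ • (γ • e + d + n g)) :
    γ * ((s : F)⁻¹ - χ) = 0 ∧ (1 - χ) • d = 0 ∧ ((s : F) - χ) • g = 0 := by
  rw [smul_add, smul_add, h.T_smul_e, h.T_0 s d hd, h.T_1] at hx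
  refine h.indep _ _ _ (M0.smul_mem _ hd) ?_
  have h1 : (γ * ((s : F)⁻¹ - χ)) • e + (1 - χ) • d + n (((s : F) - χ) • g) =
      ((γ * (s : F)⁻¹) • e + d + (s : F) • n g) - χ • (γ • e + d + n g) := by
    rw [map_smul, mul_sub, sub_smul, sub_smul, sub_smul, one_smul, smul_add, smul_add, smul_smul,
      mul_comm χ γ]
    abel
  rw [h1, hx, sub_self]

theorem exists_fixed [Finite F] (hF : ∃ a : F, a ≠ 0 ∧ a ≠ 1) :
    ∃ x, Om F P e x ∧ (∀ c : F, x ≠ c • e) ∧ ∀ s : Fˣ, ∃ χ : F, T s • x = χ • x := by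
  obtain ⟨x₀, -, hx₀, -, hx₀e, -, -⟩ := h.three
  obtain ⟨t, ht⟩ := IsCyclic.exists_generator (α := Fˣ)
  have ht1 : (t : F) ≠ 1 := by
    intro h1
    obtain ⟨a, ha0, ha1⟩ := hF
    apply ha1
    have h2 : t = 1 := Units.ext h1
    obtain ⟨k, hk⟩ := Subgroup.mem_zpowers_iff.1 (ht (Units.mk0 a ha0))
    rw [h2, one_zpow] at hk
    have h3 := congrArg (fun u : Fˣ => (u : F)) hk
    exact h3.symm
  have hti : 1 - (t : F)⁻¹ ≠ 0 := fun h1 => ht1 (by rw [← inv_inv (t : F), ← sub_eq_zero.1 h1, inv_one])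
  have hTe : ∀ c : F, T t • x₀ ≠ c • e := by
    intro c hc
    apply hx₀e (c * (t : F))
    have h1 : T t • x₀ = T t • ((c * (t : F)) • e) := by
      rw [h.T_smul_e, mul_assoc, mul_inv_cancel₀ t.ne_zero, mul_one, hc]
    exact MulAction.injective _ h1
  obtain ⟨a, c, hac⟩ := h.tr x₀ (T t • x₀) hx₀ (h.om_T t hx₀) hx₀e hTe
  have hc0 : c ≠ 0 := by
    rintro rfl
    rw [zero_smul] at hac
    exact h.om_ne (h.om_act (h.A_mem a) hx₀) hac
  set b : A := (1 - (t : F)⁻¹)⁻¹ • a with hb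
  have hb1 : (t : F)⁻¹ • b + a = b := by
    have h1 : (1 - (t : F)⁻¹) • b = a := by rw [hb, smul_inv_smul₀ hti]
    rw [sub_smul, one_smul] at h1
    rw [← h1]
    abel
  set x := α b • x₀ with hxd
  have hx : T t • x = c⁻¹ • x := by
    have h1 : T t • x₀ = c⁻¹ • α a • x₀ := by rw [hac, inv_smul_smul₀ hc0]
    rw [hxd, h.T_A, h1, h.P_lin _ (h.A_mem _), ← h.A_add, hb1]
  refine ⟨x, h.om_act (h.A_mem b) hx₀, fun c' hc' => ?_, fun s => ?_⟩
  · apply hx₀e c'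
    have h1 : α b • x₀ = α b • (c' • e) := by rw [h.A_smul_e, ← hc']
    exact MulAction.injective _ h1
  · obtain ⟨k, rfl⟩ := (mem_powers_iff_mem_zpowers (x := t)).2 (ht s)
    clear ht
    induction k with
    | zero =>
      refine ⟨1, ?_⟩
      have h1 : T (t ^ 0) • T (t ^ 0) • x = T (t ^ 0) • x := by
        rw [← h.T_mul]
        simp
      rw [one_smul]
      exact MulAction.injective _ h1
    | succ k ih =>
      obtain ⟨χ, hχ⟩ := ih
      refine ⟨c⁻¹ * χ, ?_⟩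
      simp only at hχ ⊢
      rw [pow_succ, h.T_mul, hx, h.T_lin, hχ, smul_smul]

/-- the fixed point is in `M0`, in `n(N)` or not orthogonal to `e` -/
theorem fixed_cases [Finite F] [CharP F 2] (hF : ∃ a : F, a ≠ 0 ∧ a ≠ 1) :
    (∃ x, Om F P e x ∧ om x ≠ 0 ∧ ∀ s : Fˣ, ∃ χ : F, T s • x = χ • x) ∨
      (∃ d ∈ M0, d ≠ 0 ∧ Om F P e d) ∨ ∃ g, g ≠ 0 ∧ Om F P e (n g) := by
  obtain ⟨x, hx, hxe, hxT⟩ := h.exists_fixed hF
  by_cases hom : om x = 0
  swap
  · exact Or.inl ⟨x, hx, hom, hxT⟩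
  right
  obtain ⟨γ, d, hd, g, rfl⟩ := h.perp x hom
  obtain ⟨a, ha0, ha1⟩ := hF
  obtain ⟨χ, hχ⟩ := hxT (Units.mk0 a ha0)
  obtain ⟨h1, h2, h3⟩ := h.eig hd _ hχ
  change γ * (a⁻¹ - χ) = 0 at h1
  change (a - χ) • g = 0 at h3
  by_cases hg : g = 0
  · rw [hg, map_zero, add_zero] at hx hxe
    left
    by_cases hd0 : d = 0
    · exfalso
      apply hxe γ
      rw [hd0, add_zero]
    · have h4 : 1 - χ = 0 := (smul_eq_zero.1 h2).resolve_right hd0
      have h5 : γ = 0 := by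
        refine (mul_eq_zero.1 h1).resolve_right fun h6 => ha1 ?_
        rw [← sub_eq_zero.1 h4] at h6
        rw [← inv_inv a, sub_eq_zero.1 h6, inv_one]
      rw [h5, zero_smul, zero_add] at hx
      exact ⟨d, hd, hd0, hx⟩
  · right
    have h4 : a - χ = 0 := (smul_eq_zero.1 h3).resolve_right hg
    have h5 : γ = 0 := by
      refine (mul_eq_zero.1 h1).resolve_right fun h6 => ha1 ?_
      rw [← sub_eq_zero.1 h4] at h6
      have h7 : a * a = 1 := by
        nth_rewrite 1 [← sub_eq_zero.1 h6]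
        exact inv_mul_cancel₀ ha0
      have h8 : (a - 1) * (a - 1) = 0 := by
        have h9 : (a - 1) * (a - 1) = a * a - (a + a) + 1 := by ring
        rw [h9, h7, CharTwo.add_self_eq_zero, sub_zero, CharTwo.add_self_eq_zero]
      exact sub_eq_zero.1 (mul_self_eq_zero.1 h8)
    have h6 : d = 0 := by
      refine (smul_eq_zero.1 h2).resolve_left fun h7 => ha1 ?_
      rw [sub_eq_zero.1 h4, ← sub_eq_zero.1 h7]
    rw [h5, h6, zero_smul, zero_add, zero_add] at hx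
    exact ⟨g, hg, hx⟩

/-- **case alpha** -/
theorem alpha {d : M} (hd : d ∈ M0) (hd0 : d ≠ 0) (hom : Om F P e d) (x : M) :
    Om F P e x ↔ x ≠ 0 ∧ ∃ c c' : F, x = c • e + c' • d := by
  have hde : ∀ c : F, d ≠ c • e := by
    intro c hc
    have h1 := h.indep c (-d) 0 (M0.neg_mem hd) (by rw [map_zero, add_zero, hc, add_neg_cancel])
    exact hd0 (neg_eq_zero.1 h1.2.1)
  constructor
  · intro hx
    refine ⟨h.om_ne hx, ?_⟩
    by_cases hxe : ∃ c : F, x = c • e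
    · obtain ⟨c, rfl⟩ := hxe
      exact ⟨c, 0, by rw [zero_smul, add_zero]⟩
    · push Not at hxe
      obtain ⟨a, c, hac⟩ := h.tr d x hom hx hde hxe
      have hc : c ≠ 0 := by
        rintro rfl
        rw [zero_smul] at hac
        exact h.om_ne (h.om_act (h.A_mem a) hom) hac
      rw [h.A_0 a d hd] at hac
      refine ⟨c⁻¹ * l a d, c⁻¹, ?_⟩
      rw [← inv_smul_smul₀ hc x, ← hac, smul_add, smul_smul, add_comm]
  · rintro ⟨hx0, c, c', rfl⟩
    by_cases hc' : c' = 0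
    · rw [hc', zero_smul, add_zero] at hx0 ⊢
      refine Om.self.smul fun h0 => hx0 ?_
      rw [h0, zero_smul]
    · have h1 : ∃ b, l b d ≠ 0 := by
        by_contra hcon
        push Not at hcon
        exact hd0 (h.inj d hd hcon)
      obtain ⟨b, hb⟩ := h1
      have h2 : c • e + c' • d = c' • (α ((c'⁻¹ * c * (l b d)⁻¹) • b) • d) := by
        rw [h.A_0 _ d hd, h.l_smul _ _ d hd, mul_assoc, inv_mul_cancel₀ hb, mul_one, smul_add, smul_smul,
          mul_inv_cancel_left₀ hc', add_comm]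
      rw [h2]
      exact (h.om_act (h.A_mem _) hom).smul hc'

section cn

variable {g : N}

/-- the orbit of `n g` -/
theorem om_iff (hg : g ≠ 0) (hom : Om F P e (n g)) (x : M) :
    Om F P e x ↔ (∃ c : F, c ≠ 0 ∧ x = c • e) ∨ ∃ c : F, c ≠ 0 ∧ ∃ a, x = c • (n g + sf g a + q a g • e) := by
  constructor
  · intro hx
    by_cases hxe : ∃ c : F, x = c • e
    · obtain ⟨c, rfl⟩ := hxe
      refine Or.inl ⟨c, fun h0 => ?_, rfl⟩
      rw [h0, zero_smul] at hx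
      exact h.om_ne hx rfl
    · push Not at hxe
      have hne : ∀ c : F, n g ≠ c • e := by
        intro c hc
        have h1 := h.indep (-c) 0 g (zero_mem _) (by rw [neg_smul, hc]; abel)
        exact hg h1.2.2
      obtain ⟨a, c, hac⟩ := h.tr (n g) x hom hx hne hxe
      have hc : c ≠ 0 := by
        rintro rfl
        rw [zero_smul] at hac
        exact h.om_ne (h.om_act (h.A_mem a) hom) hac
      rw [h.A_1] at hac
      refine Or.inr ⟨c⁻¹, inv_ne_zero hc, a, ?_⟩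
      rw [hac, inv_smul_smul₀ hc]
  · rintro (⟨c, hc, rfl⟩ | ⟨c, hc, a, rfl⟩)
    · exact Om.self.smul hc
    · rw [← h.A_1]
      exact (h.om_act (h.A_mem a) hom).smul hc

theorem om_n (hom : Om F P e (n g)) (a : A) : Om F P e (n g + sf g a + q a g • e) := by
  rw [← h.A_1]
  exact h.om_act (h.A_mem a) hom

/-- `e + Z` contains no points of the orbit except `e` -/
theorem not_om (hg : g ≠ 0) (hom : Om F P e (n g)) {c : F} {a : A} (ha : sf g a ≠ 0) :
    ¬ Om F P e (c • e + sf g a) := by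
  intro hx
  rcases (h.om_iff hg hom _).1 hx with ⟨c', -, h1⟩ | ⟨c', hc', a', h1⟩
  · have h2 := h.indep (c - c') (sf g a) 0 (h.sf_mem g a) (by
      rw [map_zero, add_zero, sub_smul, ← h1]; abel)
    exact ha h2.2.1
  · have h2 := h.indep (c' * q a' g - c) (sf g (c' • a') - sf g a) (c' • g)
      (M0.sub_mem (h.sf_mem _ _) (h.sf_mem _ _)) (by
        rw [map_smul, map_smul, sub_smul, mul_smul]
        have h3 : c' • (n g + sf g a' + q a' g • e) - (c • e + sf g a) = 0 := by rw [← h1, sub_self]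
        rw [← h3, smul_add, smul_add]
        abel)
    rcases smul_eq_zero.1 h2.2.2 with h3 | h3
    · exact hc' h3
    · exact hg h3

/-- `NN` is spanned by the orbit -/
theorem NN_eq (hg : g ≠ 0) (hom : Om F P e (n g)) : NN e n sf g = span F {x | Om F P e x} := by
  apply le_antisymm
  · intro x hx
    obtain ⟨c, a, r, rfl⟩ := mem_NN.1 hx
    have he : e ∈ span F {x | Om F P e x} := subset_span Om.self
    have hn : n g ∈ span F {x | Om F P e x} := subset_span hom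
    have hs : sf g a ∈ span F {x | Om F P e x} := by
      have h1 : n g + sf g a + q a g • e ∈ span F {x | Om F P e x} := subset_span (h.om_n hom a)
      have h2 : sf g a = (n g + sf g a + q a g • e) - n g - q a g • e := by abel
      rw [h2]
      exact sub_mem (sub_mem h1 hn) (smul_mem _ _ he)
    exact add_mem (add_mem (smul_mem _ _ he) hs) (smul_mem _ _ hn)
  · rw [span_le]
    intro x hx
    rcases (h.om_iff hg hom x).1 hx with ⟨c, -, rfl⟩ | ⟨c, -, a, rfl⟩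
    · exact mem_NN.2 ⟨c, 0, 0, by rw [map_zero, zero_smul, add_zero, add_zero]⟩
    · refine mem_NN.2 ⟨c * q a g, c • a, c, ?_⟩
      rw [map_smul, smul_add, smul_add, smul_smul]
      abel

theorem span_act {p : H} (hp : p ∈ P) {x : M} (hx : x ∈ span F {x | Om F P e x}) :
    p • x ∈ span F {x | Om F P e x} := by
  induction hx using span_induction with
  | mem x hx => exact subset_span (h.om_act hp hx)
  | zero => rw [smul_zero]; exact zero_mem _
  | add x y _ _ h1 h2 => rw [smul_add]; exact add_mem h1 h2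
  | smul c x _ h1 => rw [h.P_lin p hp]; exact smul_mem _ _ h1

theorem NN_act (hg : g ≠ 0) (hom : Om F P e (n g)) {p : H} (hp : p ∈ P) {x : M} (hx : x ∈ NN e n sf g) :
    p • x ∈ NN e n sf g := by
  rw [h.NN_eq hg hom] at hx ⊢
  exact h.span_act hp hx

theorem q_of_ker {k : A} (hk : sf g k = 0) (a : A) : q (a + k) g = q a g + q k g := by
  have h1 : l a 0 = 0 := by
    have h2 := h.A_0 a 0 (zero_mem _)
    rw [smul_zero, zero_add] at h2
    exact h.smul_e_eq h2.symm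
  rw [h.q_add, hk, h1, add_zero]

/-- **case sigma** : if `q(·, g)` does not vanish on the kernel of `s(g, ·)`, then `s(g, ·) = 0` -/
theorem sigma_zero [Finite F] [CharP F 2] (hg : g ≠ 0) (hom : Om F P e (n g)) {k : A} (hk : sf g k = 0)
    (hqk : q k g ≠ 0) (a : A) : sf g a = 0 := by
  by_contra hz
  -- all vectors `n g + z + c e` are in the orbit
  have hall : ∀ (a : A) (c : F), Om F P e (n g + sf g a + c • e) := by
    intro a c
    obtain ⟨r, hr⟩ : ∃ r : F, r ^ 2 = (c - q a g) * (q k g)⁻¹ := by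
      have h1 := (bijective_frobenius F 2).2 ((c - q a g) * (q k g)⁻¹)
      obtain ⟨r, hr⟩ := h1
      exact ⟨r, hr⟩
    have h1 : sf g (r • k) = 0 := by rw [map_smul, hk, smul_zero]
    have h2 := h.om_n hom (a + r • k)
    rw [h.q_of_ker h1, map_add, h1, add_zero, h.q_smul, hr, mul_assoc, inv_mul_cancel₀ hqk, mul_one,
      add_sub_cancel] at h2
    exact h2
  -- vectors of `N` outside the orbit are in `e + Z`
  have hno : ∀ x ∈ NN e n sf g, ¬ Om F P e x → ∃ (c : F) (a : A), x = c • e + sf g a := by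
    intro x hx hxo
    obtain ⟨c, a, r, rfl⟩ := mem_NN.1 hx
    by_cases hr : r = 0
    · exact ⟨c, a, by rw [hr, zero_smul, add_zero]⟩
    · exfalso
      apply hxo
      have h1 := (hall (r⁻¹ • a) (r⁻¹ * c)).smul hr
      rw [map_smul, smul_add, smul_add, smul_inv_smul₀ hr, smul_smul, mul_inv_cancel_left₀ hr] at h1
      have h2 : c • e + sf g a + r • n g = r • n g + sf g a + c • e := by abel
      rw [h2]
      exact h1
  obtain ⟨p, hp, c, hc, hpe⟩ := hom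
  have hom : Om F P e (n g) := ⟨p, hp, c, hc, hpe⟩
  have hz1 : ¬ Om F P e (p • sf g a) := by
    rw [h.om_act_iff hp]
    have h1 := h.not_om hg hom (c := 0) hz
    rwa [zero_smul, zero_add] at h1
  have hz2 : ¬ Om F P e (p • (e + sf g a)) := by
    rw [h.om_act_iff hp]
    have h1 := h.not_om hg hom (c := 1) hz
    rwa [one_smul] at h1
  obtain ⟨c1, a1, h1⟩ := hno _ (h.NN_act hg hom hp (mem_NN.2 ⟨0, a, 0, by
    rw [zero_smul, zero_smul, zero_add, add_zero]⟩)) hz1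
  obtain ⟨c2, a2, h2⟩ := hno _ (h.NN_act hg hom hp (mem_NN.2 ⟨1, a, 0, by
    rw [one_smul, zero_smul, add_zero]⟩)) hz2
  have h3 : p • e = (c2 - c1) • e + sf g (a2 - a1) := by
    have h4 : p • e = p • (e + sf g a) - p • sf g a := by rw [smul_add]; abel
    rw [h4, h1, h2, map_sub, sub_smul]
    abel
  have h4 := h.indep (-(c * (c2 - c1))) (-(c • sf g (a2 - a1))) g
    (M0.neg_mem (M0.smul_mem _ (h.sf_mem _ _))) (by
      rw [hpe, h3, smul_add, neg_smul, smul_smul]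
      abel)
  exact hg h4.2.2

theorem sigma_iff [Finite F] [CharP F 2] (hg : g ≠ 0) (hom : Om F P e (n g)) {k : A} (hk : sf g k = 0)
    (hqk : q k g ≠ 0) (x : M) : Om F P e x ↔ x ≠ 0 ∧ ∃ c c' : F, x = c • e + c' • n g := by
  have hs := h.sigma_zero hg hom hk hqk
  constructor
  · intro hx
    refine ⟨h.om_ne hx, ?_⟩
    rcases (h.om_iff hg hom x).1 hx with ⟨c, -, rfl⟩ | ⟨c, -, a, rfl⟩
    · exact ⟨c, 0, by rw [zero_smul, add_zero]⟩
    · refine ⟨c * q a g, c, ?_⟩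
      rw [hs, add_zero, smul_add, smul_smul, add_comm]
  · rintro ⟨hx0, c, c', rfl⟩
    by_cases hc' : c' = 0
    · rw [hc', zero_smul, add_zero] at hx0 ⊢
      refine Om.self.smul fun h0 => hx0 ?_
      rw [h0, zero_smul]
    · obtain ⟨r, hr⟩ : ∃ r : F, r ^ 2 = (c'⁻¹ * c) * (q k g)⁻¹ := (bijective_frobenius F 2).2 _
      have h2 := (h.om_n hom (r • k)).smul hc'
      rw [map_smul, hk, smul_zero, add_zero, h.q_smul, hr, mul_assoc, inv_mul_cancel₀ hqk, mul_one, smul_add,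
        smul_smul, mul_inv_cancel_left₀ hc', add_comm] at h2
      exact h2

/-- two equal values of `s(g, ·)` give equal values of `q(·, g)` -/
theorem q_congr (hk : ∀ k, sf g k = 0 → q k g = 0) {a a' : A} (haa : sf g a = sf g a') : q a g = q a' g := by
  have h1 : sf g (a' - a) = 0 := by rw [map_sub, haa, sub_self]
  have h2 := h.q_of_ker h1 a
  rw [add_sub_cancel, hk _ h1, add_zero] at h2
  exact h2.symm

/-- `s(g, ·) ≠ 0` in case beta -/
theorem beta_ne (hg : g ≠ 0) (hom : Om F P e (n g)) (hk : ∀ k, sf g k = 0 → q k g = 0) : ∃ a, sf g a ≠ 0 := by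
  by_contra hcon
  push Not at hcon
  obtain ⟨x, y, hx, hy, hxe, hye, hxy⟩ := h.three
  rcases (h.om_iff hg hom x).1 hx with ⟨c, -, h1⟩ | ⟨c, hc, a, h1⟩
  · exact hxe c h1
  rcases (h.om_iff hg hom y).1 hy with ⟨c', -, h2⟩ | ⟨c', hc', a', h2⟩
  · exact hye c' h2
  rw [hcon, hk _ (hcon _), zero_smul, add_zero, add_zero] at h1 h2
  apply hxy (c' * c⁻¹)
  rw [h1, h2, smul_smul, mul_assoc, inv_mul_cancel₀ hc, mul_one]

/-- **`Q` is anisotropic** -/
theorem beta_aniso [Finite F] [CharP F 2] [FiniteDimensional F M] (hF : ∃ a : F, a ≠ 0 ∧ a ≠ 1) (hg : g ≠ 0)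
    (hom : Om F P e (n g)) (hk : ∀ k, sf g k = 0 → q k g = 0) {a : A} (ha : q a g = 0) : sf g a = 0 := by
  obtain ⟨p, hp, c, hc, hpe⟩ := id hom
  -- `E = e + Z`
  let Z : Submodule F M := LinearMap.range (sf g)
  let E : Submodule F M := span F {e} ⊔ Z
  have hE : ∀ x, x ∈ E ↔ ∃ (c : F) (a : A), x = c • e + sf g a := by
    intro x
    constructor
    · intro hx
      obtain ⟨y, hy, z, ⟨a, rfl⟩, rfl⟩ := mem_sup.1 hx
      obtain ⟨c, rfl⟩ := mem_span_singleton.1 hy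
      exact ⟨c, a, rfl⟩
    · rintro ⟨c, a, rfl⟩
      exact add_mem_sup (mem_span_singleton.2 ⟨c, rfl⟩) ⟨a, rfl⟩
  have hEN : E ≤ NN e n sf g := le_sup_left
  let pl : M →ₗ[F] M :=
    { toFun := fun x => p • x
      map_add' := fun x y => smul_add _ _ _
      map_smul' := fun c x => h.P_lin p hp c x }
  have hpl : ∀ x, pl x = p • x := fun x => rfl
  have hinj : Function.Injective pl := fun x y hxy => MulAction.injective p hxy
  let Y : Submodule F M := E.map pl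
  have hYN : Y ≤ NN e n sf g := by
    rintro _ ⟨x, hx, rfl⟩
    exact h.NN_act hg hom hp (hEN hx)
  -- `Y` contains `n g` and no other point of the orbit
  have hnY : n g ∈ Y := ⟨c • e, (hE _).2 ⟨c, 0, by rw [map_zero, add_zero]⟩, by rw [hpl, h.P_lin p hp, ← hpe]⟩
  have hYo : ∀ x ∈ Y, Om F P e x → ∃ c : F, x = c • n g := by
    rintro _ ⟨x, hx, rfl⟩ hxo
    rw [hpl, h.om_act_iff hp] at hxo
    obtain ⟨c1, a1, rfl⟩ := (hE x).1 hx
    by_cases h1 : sf g a1 = 0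
    · refine ⟨c1 * c⁻¹, ?_⟩
      rw [hpe, hpl, h1, add_zero, h.P_lin p hp, smul_smul, mul_assoc, inv_mul_cancel₀ hc, mul_one]
    · exact absurd hxo (h.not_om hg hom h1)
  -- `Y` is `T`-invariant
  have hYT : ∀ s : Fˣ, ∀ x ∈ Y, T s • x ∈ Y := by
    rintro s _ ⟨x, hx, rfl⟩
    have hN : T s • (pl x) ∈ NN e n sf g := by
      obtain ⟨c1, a1, r1, h1⟩ := mem_NN.1 (hYN ⟨x, hx, rfl⟩)
      rw [h1, smul_add, smul_add, h.T_smul_e, h.T_0 s _ (h.sf_mem _ _), h.T_lin, h.T_1, smul_smul]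
      exact mem_NN.2 ⟨_, _, _, rfl⟩
    have hk0 : (p⁻¹ * T s * p) • e = (s : F) • e := by
      have h1 : p • e = c⁻¹ • n g := by rw [hpe, inv_smul_smul₀ hc]
      rw [mul_smul, mul_smul, h1, h.T_lin, h.T_1, h.P_lin _ (inv_mem hp), h.P_lin _ (inv_mem hp), hpe,
        h.P_lin _ (inv_mem hp), inv_smul_smul, smul_smul, smul_smul, mul_right_comm,
        inv_mul_cancel₀ hc, one_mul]
    obtain ⟨c1, a1, rfl⟩ := (hE x).1 hx
    obtain ⟨γ, d', hd', h2⟩ := h.D_stab _ (mul_mem (mul_mem (inv_mem (h.P_le hp)) (h.T_mem s)) (h.P_le hp))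
      ⟨_, hk0⟩ _ (h.sf_mem g a1)
    -- `T s p x = p (k x)`, `k x ∈ D̄ ∩ N`
    have h3 : ∃ (γ' : F) (d'' : M), d'' ∈ M0 ∧ T s • pl (c1 • e + sf g a1) = p • (γ' • e + d'') := by
      refine ⟨c1 * s + γ, d', hd', ?_⟩
      have h4 : T s • p • (c1 • e + sf g a1) = p • (p⁻¹ * T s * p) • (c1 • e + sf g a1) := by
        rw [← mul_smul, ← mul_smul]
        congr 1
        group
      rw [hpl, h4, smul_add, h2]
      have h5 : (p⁻¹ * T s * p) • (c1 • e) = (c1 * (s : F)) • e := by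
        rw [mul_smul, mul_smul, h.P_lin p hp, h.T_lin, h.P_lin _ (inv_mem hp), ← mul_smul (p⁻¹), ← mul_smul, hk0,
          smul_smul]
      rw [h5, add_smul]
      congr 1
      abel
    obtain ⟨γ', d'', hd'', h4⟩ := h3
    have h5 : γ' • e + d'' ∈ NN e n sf g := by
      have h6 := h.NN_act hg hom (inv_mem hp) hN
      rwa [h4, inv_smul_smul] at h6
    obtain ⟨c2, a2, r2, h6⟩ := mem_NN.1 h5
    have h7 := h.indep (γ' - c2) (d'' - sf g a2) (-(r2 • g)) (M0.sub_mem hd'' (h.sf_mem _ _)) (by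
      rw [map_neg, map_smul, sub_smul]
      have h8 : (γ' • e + d'') - (c2 • e + sf g a2 + r2 • n g) = 0 := by rw [← h6, sub_self]
      rw [← h8]
      abel)
    refine ⟨γ' • e + d'', (hE _).2 ⟨c2, a2, ?_⟩, by rw [hpl, ← h4]⟩
    rw [sub_eq_zero.1 h7.1, sub_eq_zero.1 h7.2.1]
  -- `Z ≤ Y`
  have hZY : Z ≤ Y := by
    have heY : ∀ c' : F, c' • e ∈ Y → c' = 0 := by
      intro c' hc'
      by_contra h0
      obtain ⟨c1, h1⟩ := hYo _ hc' (Om.self.smul h0)
      have h2 := h.indep c' 0 (-(c1 • g)) (zero_mem _) (by rw [map_neg, map_smul, h1]; abel)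
      exact h0 h2.1
    -- components
    have hcomp : ∀ (c1 : F) (a1 : A) (r1 : F), c1 • e + sf g a1 + r1 • n g ∈ Y → c1 = 0 ∧ sf g a1 ∈ Y := by
      intro c1 a1 r1 h1
      have h2 : c1 • e + sf g a1 ∈ Y := by
        have h3 := Y.sub_mem h1 (Y.smul_mem r1 hnY)
        rwa [add_sub_cancel_right] at h3
      obtain ⟨s, hs0, hs1⟩ := hF
      have h3 := hYT (Units.mk0 s hs0) _ h2
      rw [smul_add, h.T_smul_e, h.T_0 _ _ (h.sf_mem _ _)] at h3
      have h4 := Y.sub_mem h3 h2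
      rw [add_sub_add_right_eq_sub, ← sub_smul] at h4
      have h5 := heY _ h4
      change c1 * s⁻¹ - c1 = 0 at h5
      have h6 : c1 = 0 := by
        have h7 : c1 * (s⁻¹ - 1) = 0 := by rw [mul_sub, mul_one, h5]
        refine (mul_eq_zero.1 h7).resolve_right fun h8 => hs1 ?_
        rw [← inv_inv s, sub_eq_zero.1 h8, inv_one]
      refine ⟨h6, ?_⟩
      rwa [h6, zero_smul, zero_add] at h2
    -- dimension
    have hd1 : Module.finrank F Y = Module.finrank F E := (LinearEquiv.finrank_eq (Submodule.equivMapOfInjective pl hinj E)).symm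
    have hle : Y ≤ (Y ⊓ Z) ⊔ span F {n g} := by
      intro x hx
      obtain ⟨c1, a1, r1, rfl⟩ := mem_NN.1 (hYN hx)
      obtain ⟨h1, h2⟩ := hcomp c1 a1 r1 hx
      rw [h1, zero_smul, zero_add]
      exact add_mem_sup ⟨h2, ⟨a1, rfl⟩⟩ (mem_span_singleton.2 ⟨r1, rfl⟩)
    have hd2 : Module.finrank F Y ≤ Module.finrank F (Y ⊓ Z : Submodule F M) + 1 := by
      refine (Submodule.finrank_mono hle).trans ((Submodule.finrank_add_le_finrank_add_finrank _ _).trans ?_)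
      exact Nat.add_le_add_left (finrank_span_singleton (h.om_ne hom)).le _
    have hd3 : Module.finrank F Z + 1 ≤ Module.finrank F E := by
      have h1 := Submodule.finrank_sup_add_finrank_inf_eq (span F {e}) Z
      have h2 : span F {e} ⊓ Z = ⊥ := by
        rw [eq_bot_iff]
        rintro x ⟨hx1, hx2⟩
        obtain ⟨c1, rfl⟩ := mem_span_singleton.1 hx1
        obtain ⟨a1, h3⟩ := hx2
        have h4 := h.indep c1 (-sf g a1) 0 (M0.neg_mem (h.sf_mem _ _)) (by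
          rw [map_zero, add_zero, h3, add_neg_cancel])
        rw [h4.1, zero_smul]
        exact zero_mem _
      rw [h2, finrank_bot, add_zero, finrank_span_singleton h.e_ne] at h1
      change _ ≤ Module.finrank F (span F {e} ⊔ Z : Submodule F M)
      rw [h1]
      omega
    have h1 : Y ⊓ Z = Z := Submodule.eq_of_le_of_finrank_le inf_le_right (by omega)
    exact inf_eq_right.1 h1
  by_contra hz
  have h1 := h.om_n hom a
  rw [ha, zero_smul, add_zero] at h1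
  obtain ⟨c1, h2⟩ := hYo _ (Y.add_mem hnY (hZY ⟨a, rfl⟩)) h1
  have h3 := h.indep 0 (sf g a) (g - c1 • g) (h.sf_mem _ _) (by
    rw [map_sub, map_smul, ← h2, zero_smul]; abel)
  exact hz h3.2.1

end cn

end basic

end NodeFr

end

end Cfsg.Agent.Omega.Lie.Nodes

end

section


/-!
# NODE LIE, TEXT NODES (#14331) (N), abstract part: 2-transitivity, `dim Z = 2`, the node theorem, the number of points
-/

set_option autoImplicit false

namespace Cfsg.Agent.Omega.Lie.Nodes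

open Submodule

universe u v w x y

variable {F : Type v} [Field F] {M : Type u} [AddCommGroup M] [Module F M] {N : Type w} [AddCommGroup N] [Module F N]
  {A : Type x} [AddCommGroup A] [Module F A] {H : Type y} [Group H] [DistribMulAction H M]

namespace NodeFr

variable {e : M} {om : M →ₗ[F] F} {M0 : Submodule F M} {n : N →ₗ[F] M} {T : Fˣ → H} {α : A → H}
    {l : A → M → F} {sf : N →ₗ[F] A →ₗ[F] M} {q : A → N → F} {P K : Subgroup H}
    (h : NodeFr e om M0 n T α l sf q P K)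
include h

/-- **2-transitivity** on the points of the orbit -/
theorem two_trans {x y z w : M} (hx : Om F P e x) (hy : Om F P e y) (hz : Om F P e z) (hw : Om F P e w)
    (hxy : ∀ c : F, y ≠ c • x) (hzw : ∀ c : F, w ≠ c • z) :
    ∃ p ∈ P, (∃ c : F, c ≠ 0 ∧ p • x = c • z) ∧ ∃ c : F, c ≠ 0 ∧ p • y = c • w := by
  obtain ⟨p1, hp1, c1, hc1, hx1⟩ := id hx
  obtain ⟨p2, hp2, c2, hc2, hz1⟩ := id hz
  have key : ∀ {x y : M} {p : H} {c : F}, p ∈ P → c ≠ 0 → x = c • p • e → (∀ c : F, y ≠ c • x) →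
      ∀ c' : F, p⁻¹ • y ≠ c' • e := by
    intro x y p c hp hc hx hxy c' hc'
    apply hxy (c' * c⁻¹)
    have h1 : y = p • (c' • e) := by rw [← hc', smul_inv_smul]
    rw [h1, hx, h.P_lin p hp, smul_smul, mul_assoc, inv_mul_cancel₀ hc, mul_one]
  obtain ⟨a, c, hac⟩ := h.tr _ _ (h.om_act (inv_mem hp1) hy) (h.om_act (inv_mem hp2) hw)
    (key hp1 hc1 hx1 hxy) (key hp2 hc2 hz1 hzw)
  refine ⟨p2 * α a * p1⁻¹, mul_mem (mul_mem hp2 (h.A_mem a)) (inv_mem hp1), ⟨c1 * c2⁻¹,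
    mul_ne_zero hc1 (inv_ne_zero hc2), ?_⟩, c, ?_, ?_⟩
  · rw [hx1, hz1, mul_smul, mul_smul, h.P_lin _ (inv_mem hp1), inv_smul_smul, h.A_smul_e, h.P_lin p2 hp2,
      smul_smul, mul_assoc, inv_mul_cancel₀ hc2, mul_one]
  · rintro rfl
    rw [zero_smul] at hac
    exact h.om_ne (h.om_act (h.A_mem a) (h.om_act (inv_mem hp1) hy)) hac
  · rw [mul_smul, mul_smul, hac, h.P_lin p2 hp2, smul_inv_smul]

theorem l_sym (g : N) (a b : A) : l a (sf g b) = l b (sf g a) := by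
  have h1 := h.q_add a b g
  have h2 := h.q_add b a g
  rw [add_comm b a, h1] at h2
  linear_combination h2

section beta

variable {g : N} [Finite F] [CharP F 2]

/-- `Z` is generated by `s(g, a)`, `s(g, b)`, where `f(s(g, a), n b) ≠ 0` -/
theorem beta_two (han : ∀ a, q a g = 0 → sf g a = 0) {a : A} (ha : sf g a ≠ 0) :
    ∃ b, l b (sf g a) ≠ 0 ∧ (∀ c : F, sf g b ≠ c • sf g a) ∧
      LinearMap.range (sf g) = span F {sf g a} ⊔ span F {sf g b} := by
  have h1 : ∃ b, l b (sf g a) ≠ 0 := by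
    by_contra hcon
    push Not at hcon
    exact ha (h.inj _ (h.sf_mem g a) hcon)
  obtain ⟨b, hb⟩ := h1
  have hl0 : ∀ a, l a 0 = 0 := by
    intro a
    have h2 := h.A_0 a 0 (zero_mem _)
    rw [smul_zero, zero_add] at h2
    exact h.smul_e_eq h2.symm
  have hperp : ∀ k, l k (sf g a) = 0 → sf g k ∈ span F {sf g a} := by
    intro k hk
    have hqa : q a g ≠ 0 := fun h0 => ha (han a h0)
    obtain ⟨r, hr⟩ : ∃ r : F, r ^ 2 = q k g * (q a g)⁻¹ := (bijective_frobenius F 2).2 _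
    have h2 : q (r • a + k) g = 0 := by
      rw [h.q_add, h.q_smul, hr, mul_assoc, inv_mul_cancel₀ hqa, mul_one, CharTwo.add_self_eq_zero, zero_add,
        h.l_smul _ _ _ (h.sf_mem g k), h.l_sym, hk, mul_zero]
    have h3 := han _ h2
    rw [map_add, map_smul] at h3
    rw [mem_span_singleton]
    exact ⟨-r, by rw [neg_smul, eq_comm, ← add_eq_zero_iff_eq_neg, add_comm, h3]⟩
  refine ⟨b, hb, fun c hc => ?_, le_antisymm ?_ ?_⟩
  · have h2 := h.l_alt g b
    rw [hc, ← map_smul, h.l_sym, h.l_smul _ _ _ (h.sf_mem g b), h.l_sym] at h2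
    have h3 : c = 0 := (mul_eq_zero.1 h2).resolve_right hb
    rw [h3, zero_smul] at hc
    apply hb
    rw [h.l_sym, hc, hl0]
  · rintro _ ⟨k, rfl⟩
    have h2 : sf g (k + (-(l k (sf g a) * (l b (sf g a))⁻¹)) • b) ∈ span F {sf g a} := by
      apply hperp
      rw [h.l_add _ _ _ (h.sf_mem g a), h.l_smul _ _ _ (h.sf_mem g a), neg_mul, mul_assoc, inv_mul_cancel₀ hb,
        mul_one, add_neg_cancel]
    have h3 : sf g k = sf g (k + (-(l k (sf g a) * (l b (sf g a))⁻¹)) • b) +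
        (l k (sf g a) * (l b (sf g a))⁻¹) • sf g b := by
      rw [map_add, map_smul, neg_smul]
      abel
    rw [h3]
    exact add_mem_sup h2 (mem_span_singleton.2 ⟨_, rfl⟩)
  · rw [sup_le_iff, span_le, span_le, Set.singleton_subset_iff, Set.singleton_subset_iff]
    exact ⟨⟨a, rfl⟩, ⟨b, rfl⟩⟩

theorem beta_finrank [FiniteDimensional F M] (han : ∀ a, q a g = 0 → sf g a = 0) {a : A} (ha : sf g a ≠ 0) :
    Module.finrank F (LinearMap.range (sf g)) = 2 := by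
  obtain ⟨b, hb, hne, hr⟩ := h.beta_two han ha
  have hb0 : sf g b ≠ 0 := by
    intro h0
    apply hne 0
    rw [h0, zero_smul]
  have h1 := Submodule.finrank_sup_add_finrank_inf_eq (span F {sf g a}) (span F {sf g b})
  have h2 : span F {sf g a} ⊓ span F {sf g b} = ⊥ := by
    rw [eq_bot_iff]
    rintro x ⟨hx1, hx2⟩
    obtain ⟨c1, rfl⟩ := mem_span_singleton.1 hx1
    obtain ⟨c2, h3⟩ := mem_span_singleton.1 hx2
    by_cases hc2 : c2 = 0
    · rw [← h3, hc2, zero_smul]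
      exact zero_mem _
    · exfalso
      apply hne (c2⁻¹ * c1)
      rw [mul_smul, ← h3, inv_smul_smul₀ hc2]
  rw [hr, ← add_zero (Module.finrank F _), ← finrank_bot F M, ← h2, h1, finrank_span_singleton ha,
    finrank_span_singleton hb0]

end beta

/-- **THE NODE THEOREM** (N) -/
theorem node [Finite F] [CharP F 2] [FiniteDimensional F M] (hF : ∃ a : F, a ≠ 0 ∧ a ≠ 1) :
    (∃ d ∈ M0, d ≠ 0 ∧ Om F P e d ∧ ∀ x, Om F P e x ↔ x ≠ 0 ∧ ∃ c c' : F, x = c • e + c' • d) ∨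
    (∃ g, g ≠ 0 ∧ Om F P e (n g) ∧ (∀ a, sf g a = 0) ∧ (∃ a, q a g ≠ 0) ∧
      ∀ x, Om F P e x ↔ x ≠ 0 ∧ ∃ c c' : F, x = c • e + c' • n g) ∨
    (∃ g, g ≠ 0 ∧ Om F P e (n g) ∧ (∀ a, sf g a = 0 ↔ q a g = 0) ∧
      Module.finrank F (LinearMap.range (sf g)) = 2 ∧
      (∀ x, Om F P e x ↔ (∃ c : F, c ≠ 0 ∧ x = c • e) ∨
        ∃ c : F, c ≠ 0 ∧ ∃ a, x = c • (n g + sf g a + q a g • e))) ∨
    ∃ x, Om F P e x ∧ om x ≠ 0 ∧ ∀ s : Fˣ, ∃ χ : F, T s • x = χ • x := by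
  rcases h.fixed_cases hF with ⟨x, hx⟩ | ⟨d, hd, hd0, hom⟩ | ⟨g, hg, hom⟩
  · exact Or.inr (Or.inr (Or.inr ⟨x, hx⟩))
  · exact Or.inl ⟨d, hd, hd0, hom, h.alpha hd hd0 hom⟩
  · by_cases hs : ∀ k, sf g k = 0 → q k g = 0
    · right; right; left
      have han : ∀ a, q a g = 0 → sf g a = 0 := fun a ha => h.beta_aniso hF hg hom hs ha
      obtain ⟨a, ha⟩ := h.beta_ne hg hom hs
      exact ⟨g, hg, hom, fun a => ⟨hs a, han a⟩, h.beta_finrank han ha, h.om_iff hg hom⟩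
    · push Not at hs
      obtain ⟨k, hk, hqk⟩ := hs
      right; left
      exact ⟨g, hg, hom, h.sigma_zero hg hom hk hqk, ⟨k, hqk⟩, h.sigma_iff hg hom hk hqk⟩

/-- the stabiliser of the point `⟨e⟩` in `P` -/
def _root_.Cfsg.Agent.Omega.Lie.Nodes.stP (F : Type v) [Field F] {M : Type u} [AddCommGroup M] [Module F M]
    {H : Type y} [Group H] [DistribMulAction H M] (P : Subgroup H) (e : M)
    (hl : ∀ p ∈ P, ∀ (c : F) (x : M), p • c • x = c • p • x) : Subgroup H where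
  carrier := {p | p ∈ P ∧ ∃ c : F, c ≠ 0 ∧ p • e = c • e}
  one_mem' := ⟨one_mem _, 1, one_ne_zero, by rw [one_smul, one_smul]⟩
  mul_mem' := by
    rintro p p' ⟨hp, c, hc, h1⟩ ⟨hp', c', hc', h2⟩
    exact ⟨mul_mem hp hp', c' * c, mul_ne_zero hc' hc, by rw [mul_smul, h2, hl p hp, h1, mul_smul]⟩
  inv_mem' := by
    rintro p ⟨hp, c, hc, h1⟩
    refine ⟨inv_mem hp, c⁻¹, inv_ne_zero hc, ?_⟩
    have h2 : e = c⁻¹ • p • e := by rw [h1, inv_smul_smul₀ hc]
    nth_rewrite 1 [h2]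
    rw [hl _ (inv_mem hp), inv_smul_smul]

/-- orbit counting: `|Om| = (q - 1) |P : N_P(⟨e⟩)|` -/
theorem card_om [Finite F] [Finite H] :
    Nat.card {x : M // Om F P e x} = (Nat.card F - 1) * (stP F P e h.P_lin).relIndex P := by
  classical
  let S := stP F P e h.P_lin
  have hSP : S ≤ P := fun p hp => hp.1
  -- `P × Fˣ ≃ Om × S`
  choose px hpx cx hcx hx using fun x : {x : M // Om F P e x} => x.2
  have hc1 : ∀ s : S, ∃ c : Fˣ, (s : H) • e = (c : F) • e := by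
    rintro ⟨s, hs, c, hc, h1⟩
    exact ⟨Units.mk0 c hc, h1⟩
  choose χ hχ using hc1
  have huniq : ∀ {c c' : F}, c • e = c' • e → c = c' := by
    intro c c' hcc
    have h1 : (c - c') • e = 0 := by rw [sub_smul, hcc, sub_self]
    exact sub_eq_zero.1 (h.smul_e_eq h1)
  have hcard : Nat.card (P × Fˣ) = Nat.card ({x : M // Om F P e x} × S) := by
    refine Nat.card_congr
      { toFun := fun z => (⟨(z.2 : F) • (z.1 : H) • e, z.1, z.1.2, z.2, z.2.ne_zero, rfl⟩,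
          ⟨(px ⟨(z.2 : F) • (z.1 : H) • e, z.1, z.1.2, z.2, z.2.ne_zero, rfl⟩)⁻¹ * z.1, ?_⟩)
        invFun := fun z => (⟨px z.1 * z.2, mul_mem (hpx z.1) (hSP z.2.2)⟩,
          Units.mk0 (cx z.1) (hcx z.1) * (χ z.2)⁻¹)
        left_inv := ?_
        right_inv := ?_ }
    · set X : {x : M // Om F P e x} := ⟨(z.2 : F) • (z.1 : H) • e, z.1, z.1.2, z.2, z.2.ne_zero, rfl⟩ with hX
      refine ⟨mul_mem (inv_mem (hpx X)) z.1.2, (z.2 : F)⁻¹ * cx X, mul_ne_zero (inv_ne_zero z.2.ne_zero) (hcx X), ?_⟩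
      have h1 : (z.1 : H) • e = (z.2 : F)⁻¹ • (X : M) := by rw [hX, inv_smul_smul₀ z.2.ne_zero]
      rw [mul_smul, h1, h.P_lin _ (inv_mem (hpx X)), hx X, h.P_lin _ (inv_mem (hpx X)), inv_smul_smul, smul_smul]
    · rintro ⟨p, c⟩
      dsimp only
      set X : {x : M // Om F P e x} := ⟨(c : F) • (p : H) • e, p, p.2, c, c.ne_zero, rfl⟩ with hX
      refine Prod.ext (Subtype.ext ?_) ?_
      · exact mul_inv_cancel_left _ _
      · apply Units.ext
        rw [Units.val_mul, Units.val_mk0, Units.val_inv_eq_inv_val]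
        apply huniq
        set s : S := _
        change (cx X * ((χ s : Fˣ) : F)⁻¹) • e = _
        have h2 := hχ s
        have h3 : (s : H) • e = ((c : F)⁻¹ * cx X) • e := by
          change ((px X)⁻¹ * (p : H)) • e = _
          have h1 : (p : H) • e = (c : F)⁻¹ • (X : M) := by rw [hX, inv_smul_smul₀ c.ne_zero]
          rw [mul_smul, h1, h.P_lin _ (inv_mem (hpx X)), hx X, h.P_lin _ (inv_mem (hpx X)), inv_smul_smul, smul_smul]
        rw [h2] at h3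
        rw [huniq h3, mul_inv_rev, inv_inv, mul_inv_cancel_left₀ (hcx X)]
    · rintro ⟨X, s⟩
      have hX : ((cx X * ((χ s : Fˣ) : F)⁻¹) • (px X * (s : H)) • e : M) = (X : M) := by
        rw [mul_smul (px X), hχ s, h.P_lin _ (hpx X), smul_smul, mul_assoc, inv_mul_cancel₀ (χ s).ne_zero, mul_one,
          ← hx X]
      have hX' : (⟨((Units.mk0 (cx X) (hcx X) * (χ s)⁻¹ : Fˣ) : F) • (px X * (s : H)) • e,
          px X * s, mul_mem (hpx X) (hSP s.2), _, Units.ne_zero _, rfl⟩ : {x : M // Om F P e x}) = X := by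
        apply Subtype.ext
        dsimp only
        rw [Units.val_mul, Units.val_mk0, Units.val_inv_eq_inv_val]
        exact hX
      refine Prod.ext hX' (Subtype.ext ?_)
      dsimp only
      rw [hX']
      exact inv_mul_cancel_left _ _
  have hm : Nat.card S * S.relIndex P = Nat.card P := by
    rw [← Subgroup.relIndex_bot_left, ← Subgroup.relIndex_bot_left]
    exact Subgroup.relIndex_mul_relIndex _ _ _ bot_le hSP
  rw [Nat.card_prod, Nat.card_prod, Nat.card_units, ← hm] at hcard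
  have hS0 : Nat.card S ≠ 0 := Nat.card_pos.ne'
  apply Nat.eq_of_mul_eq_mul_right (Nat.pos_of_ne_zero hS0)
  rw [← hcard]
  ring

end NodeFr

end Cfsg.Agent.Omega.Lie.Nodes

end

section


/-!
# II.0h1, split, `q ≥ 4`: the frame `NodeFr` of the node theorem for a node `P` (`Nd`, #15939 (N))

`M = W i / Z(W i)` (helper811's `Fq`, `EigAbs.Eig`), `P` a node (`Nd`), normalised by the torus.
-/

set_option autoImplicit false
set_option linter.unusedSectionVars false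

namespace Cfsg.Agent.Omega.HOneQ.NodeQ

open Subgroup Cfsg.Agent.Omega.BTwo Cfsg.Agent.Omega.Lie Cfsg.Agent.Omega.Lie.Quot Cfsg.Agent.Omega.HOne
  Cfsg.Agent.Omega.HOne.ModZ Cfsg.Agent.Omega.Lie.Nodes

universe u v w

variable {G : Type u} [Group G] {ι : Type w} {V : Subgroup G} {R : ι → Subgroup G} {i j : ι}
  {F : Type v} [Field F] {v : F → F → G} {w1 w2 t : F → G}
  {M : Type u} [AddCommGroup M] [Module F M] [DistribMulAction (HQ (R i)) M] {p : G → M}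
  {f : M →ₗ[F] M →ₗ[F] F} {e : F →ₗ[F] M} {ω : M →ₗ[F] F} {σ : HQ (R i) →* RingAut F} {κ : HQ (R i) → F}
  [Finite G] {P : Subgroup G}

/-- the element of `H` induced by `x ∈ N(R i)` -/
abbrev π (R : ι → Subgroup G) (i : ι) {x : G} (hx : x ∈ normalizer (R i : Set G)) : HQ (R i) := pr (R i) ⟨x, hx⟩

section line

variable (q : Fq V R i v M p f e ω σ κ) (c : Coord V R i j v w1 w2)
include q c

theorem e_smul (γ : F) : e γ = γ • e 1 := by rw [← map_smul, smul_eq_mul, mul_one]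

theorem e1_ne (b : BT V R) : e 1 ≠ 0 := fun h => one_ne_zero (q.e_inj c b (h.trans (map_zero e).symm))

/-- `C(R i)` acts linearly -/
theorem cen_smul {x : G} (hx : x ∈ centralizer (R i : Set G)) (hN : x ∈ normalizer (R i : Set G)) (a : F) (m : M) :
    π R i hN • (a • m) = a • (π R i hN • m) :=
  q.H0_smul c (pr_mem_im hN hx) a m

/-- the image of the line `V^x` -/
theorem p_line {x : G} (hx : x ∈ centralizer (R i : Set G)) (hN : x ∈ normalizer (R i : Set G)) (β γ : F) :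
    p (x * v β γ * x⁻¹) = γ • (π R i hN • e 1) := by
  rw [← q.p_act x hN _ (q.hvW c β γ), q.e_eq, e_smul q c, cen_smul q c hx]

/-- lines and points, `P` a node -/
theorem line_iff (b : BTS V R) (nd : Nd V R i j P) {x x' : G} (hx : x ∈ P) (hx' : x' ∈ P) :
    cj x V = cj x' V ↔ ∃ a : F, π R i (nd.P_le_N hx) • e 1 = a • (π R i (nd.P_le_N hx') • e 1) := by
  constructor
  · intro h
    have h1 : x * v 0 1 * x⁻¹ ∈ cj x' V := by
      rw [← h]
      exact conj_mem_cj (c.v_mem 0 1)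
    obtain ⟨β, γ, h2⟩ := (c.mem_V _).1 (mem_cj.1 h1)
    have h3 : x * v 0 1 * x⁻¹ = x' * v β γ * x'⁻¹ := by rw [h2]; group
    refine ⟨γ, ?_⟩
    have h4 := p_line q c (nd.PR hx) (nd.P_le_N hx) 0 1
    rw [h3, p_line q c (nd.PR hx') (nd.P_le_N hx'), one_smul] at h4
    exact h4.symm
  · rintro ⟨a, ha⟩
    apply nd.inj b hx hx'
    intro z hz
    obtain ⟨β, γ, h2⟩ := (c.mem_V _).1 (mem_cj.1 hz)
    have h3 : z = x * v β γ * x⁻¹ := by rw [h2]; group
    have h4 : p z = p (x' * v 0 (γ * a) * x'⁻¹) := by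
      rw [h3, p_line q c (nd.PR hx) (nd.P_le_N hx), p_line q c (nd.PR hx') (nd.P_le_N hx'), ha, smul_smul]
    have hz1 : z ∈ WW V (R i) := nd.line_le hx hz
    have hz2 : x' * v 0 (γ * a) * x'⁻¹ ∈ cj x' V := conj_mem_cj (c.v_mem _ _)
    have h5 := (q.toMZ.p_eq_iff hz1 (nd.line_le hx' hz2)).1 h4
    have h6 : z = z * (x' * v 0 (γ * a) * x'⁻¹)⁻¹ * (x' * v 0 (γ * a) * x'⁻¹) := by group
    rw [h6]
    exact mul_mem ((le_sup_right : ZZ V R i ≤ _) h5) ((le_sup_left : cj x' V ≤ _) hz2)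

/-- the line `V` -/
theorem V_iff (b : BTS V R) (nd : Nd V R i j P) {x : G} (hx : x ∈ P) :
    cj x V = V ↔ ∃ a : F, π R i (nd.P_le_N hx) • e 1 = a • e 1 := by
  have h1 := line_iff q c b nd hx (one_mem P)
  rw [cj_one] at h1
  rw [h1]
  have h2 : π R i (nd.P_le_N (one_mem P)) = 1 := map_one _
  rw [h2, one_smul]

theorem om_ne_V (b : BTS V R) (nd : Nd V R i j P) {m : M} {x : G} (hx : x ∈ P) {a : F}
    (hm : m = a • (π R i (nd.P_le_N hx) • e 1)) (h : ∀ a : F, m ≠ a • e 1) : cj x V ≠ V := by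
  intro hV
  obtain ⟨a', h1⟩ := (V_iff q c b nd hx).1 hV
  exact h (a * a') (by rw [hm, h1, smul_smul])

end line

section frame

variable {N : Type u} [AddCommGroup N] [Module F N] {P1 P2 : G → N} [Finite F] [CharP F 2]
variable (q : Fq V R i v M p f e ω σ κ) (b : BTS V R) (c : Coord V R i j v w1 w2) (τ : TorD V R i j v t)
  (y : YPair V R i j w1 w2 N P1 P2) (hF : ∃ a : F, a ≠ 0 ∧ a ≠ 1)

/-- the torus element in `H` -/
def tQ (τ : TorD V R i j v t) (a : Fˣ) : HQ (R i) := π R i (τ.normR a.ne_zero)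

theorem tQ_mul (a a' : Fˣ) : tQ τ (a * a') = tQ τ a * tQ τ a' := by
  unfold tQ π
  rw [← map_mul]
  congr 1
  exact Subtype.ext (τ.mul a a' a.ne_zero a'.ne_zero)

theorem tQ_one : tQ τ 1 = 1 := by
  have h := tQ_mul τ 1 1
  rw [mul_one] at h
  exact left_eq_mul.1 h

theorem tQ_inv (a : Fˣ) : (tQ τ a)⁻¹ = tQ τ a⁻¹ := by
  rw [inv_eq_iff_mul_eq_one, ← tQ_mul, mul_inv_cancel, tQ_one]

/-- `t a` normalises the image of `P` -/
theorem tQ_conj (tP : ∀ a, a ≠ 0 → t a ∈ normalizer (P : Set G)) (a : Fˣ) {x : HQ (R i)} (hx : x ∈ im (R i) P) :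
    tQ τ a * x * (tQ τ a)⁻¹ ∈ im (R i) P := by
  obtain ⟨g, hN, hg, rfl⟩ := mem_im.1 hx
  have h1 : t a * g * (t a)⁻¹ ∈ P := conj_mem_of_normalizer (tP a a.ne_zero) hg
  have h2 : t a * g * (t a)⁻¹ ∈ normalizer (R i : Set G) :=
    mul_mem (mul_mem (τ.normR a.ne_zero) hN) (inv_mem (τ.normR a.ne_zero))
  have h3 : tQ τ a * pr (R i) ⟨g, hN⟩ * (tQ τ a)⁻¹ = pr (R i) ⟨_, h2⟩ := by
    unfold tQ π
    rw [← map_inv, ← map_mul, ← map_mul]
    rfl
  rw [h3]
  exact pr_mem_im h2 h1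

/-- the group `P T` in `H` -/
def KQ (τ : TorD V R i j v t) (P : Subgroup G) (tP : ∀ a, a ≠ 0 → t a ∈ normalizer (P : Set G)) :
    Subgroup (HQ (R i)) where
  carrier := {g | ∃ x ∈ im (R i) P, ∃ a : Fˣ, g = x * tQ τ a}
  one_mem' := ⟨1, one_mem _, 1, by rw [tQ_one, mul_one]⟩
  mul_mem' := by
    rintro _ _ ⟨x, hx, a, rfl⟩ ⟨x', hx', a', rfl⟩
    refine ⟨x * (tQ τ a * x' * (tQ τ a)⁻¹), mul_mem hx (tQ_conj τ tP a hx'), a * a', ?_⟩
    rw [tQ_mul]
    group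
  inv_mem' := by
    rintro _ ⟨x, hx, a, rfl⟩
    refine ⟨tQ τ a⁻¹ * x⁻¹ * (tQ τ a⁻¹)⁻¹, tQ_conj τ tP a⁻¹ (inv_mem hx), a⁻¹, ?_⟩
    rw [mul_inv_rev, tQ_inv]
    group

variable {π' : LinearMap.ker ω →ₗ[F] N ⧸ N0 b.toBT c y} {M0 : Submodule F M} {n : N →ₗ[F] M}
  {s : N →ₗ[F] N →ₗ[F] M} {sh : N → N →ₗ[F] F}
  (E : EigAbs.Eig f e ω (q.TL c τ) (q.DS b.toBT c τ y hF) (N0 b.toBT c y) π' (q.AL b.toBT c y) M0 n s sh)
include E

theorem s_ker {g : N} (hg : g ∈ N0 b.toBT c y) : s g = 0 := by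
  refine LinearMap.ext fun k => E.inj _ (E.s_mem g k) fun h => ?_
  rw [E.T_13, (E.n_ker g).2 hg, map_zero]

theorem sh_ker {g : N} (hg : g ∈ N0 b.toBT c y) (k : N) : sh k g = 0 := by
  have h1 := E.A_1 k g
  rw [(E.n_ker g).2 hg, map_zero, s_ker q b c τ y hF E hg, LinearMap.zero_apply, zero_add] at h1
  exact q.e_inj c b.toBT (h1.symm.trans (map_zero e).symm)

/-- `n` on `N / N₀` -/
def nQ : (N ⧸ N0 b.toBT c y) →ₗ[F] M :=
  (N0 b.toBT c y).liftQ n fun g hg => LinearMap.mem_ker.2 ((E.n_ker g).2 hg)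

/-- `s` on `N / N₀` -/
def sQ : (N ⧸ N0 b.toBT c y) →ₗ[F] N →ₗ[F] M :=
  (N0 b.toBT c y).liftQ s fun g hg => LinearMap.mem_ker.2 (s_ker q b c τ y hF E hg)

/-- `sh` on `N / N₀` -/
def shQ (k : N) : (N ⧸ N0 b.toBT c y) →ₗ[F] F :=
  (N0 b.toBT c y).liftQ (sh k) fun g hg => LinearMap.mem_ker.2 (sh_ker q b c τ y hF E hg k)

theorem nQ_mk (g : N) : nQ q b c τ y hF E ((N0 b.toBT c y).mkQ g) = n g := rfl

theorem sQ_mk (g : N) : sQ q b c τ y hF E ((N0 b.toBT c y).mkQ g) = s g := rfl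

theorem shQ_mk (k g : N) : shQ q b c τ y hF E k ((N0 b.toBT c y).mkQ g) = sh k g := rfl

/-- **the frame of the node theorem in `II.0h1`** -/
theorem nodeFr (nd : Nd V R i j P) (tP : ∀ a, a ≠ 0 → t a ∈ normalizer (P : Set G)) :
    NodeFr (e 1) ω M0 (nQ q b c τ y hF E) (tQ τ) (fun k => al b.toBT y k) (fun k d => f d (n k))
      (sQ q b c τ y hF E) (fun k g => shQ q b c τ y hF E k g) (im (R i) P) (KQ τ P tP) := by
  have hTL : ∀ (a : Fˣ) (m : M), q.TL c τ a m = tQ τ a • m := fun a m => rfl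
  have hAL : ∀ (k : N) (m : M), q.AL b.toBT c y k m = al b.toBT y k • m - m := fun k m => rfl
  have hlin : ∀ x ∈ im (R i) P, ∀ (a : F) (m : M), x • a • m = a • x • m := by
    intro x hx a m
    obtain ⟨g, hN, hg, rfl⟩ := mem_im.1 hx
    exact cen_smul q c (nd.PR hg) hN a m
  have hal : ∀ k, al b.toBT y k ∈ im (R i) P := by
    intro k
    obtain ⟨u, hN, hu, h1⟩ := mem_im.1 (al_mem b.toBT y k)
    rw [← h1]
    exact pr_mem_im hN (nd.UP hu)
  have hOm : ∀ {m : M}, Om F (im (R i) P) (e 1) m →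
      ∃ (x : G) (hx : x ∈ P), ∃ a : F, a ≠ 0 ∧ m = a • (π R i (nd.P_le_N hx) • e 1) := by
    rintro m ⟨z, hz, a, ha, rfl⟩
    obtain ⟨g, hN, hg, rfl⟩ := mem_im.1 hz
    exact ⟨g, hg, a, ha, rfl⟩
  exact
    { e_ne := e1_ne q c b.toBT
      perp := fun m hm => by
        obtain ⟨a, d, hd, g, rfl⟩ := (E.mem_P m).1 hm
        exact ⟨a, d, hd, (N0 b.toBT c y).mkQ g, by rw [nQ_mk, e_smul q c]⟩
      indep := fun a d g hd h0 => by
        obtain ⟨g, rfl⟩ := (N0 b.toBT c y).mkQ_surjective g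
        rw [nQ_mk, ← e_smul q c] at h0
        obtain ⟨h1, h2, h3⟩ := E.indep a d hd g h0
        refine ⟨h1, h2, ?_⟩
        rw [Submodule.mkQ_apply, Submodule.Quotient.mk_eq_zero]
        exact (E.n_ker g).1 h3
      T_mul := fun a a' m => by rw [tQ_mul, mul_smul]
      T_lin := fun a a' m => q.t_smul c τ a a' m
      T_e := fun a => q.t_e c τ a 1
      T_0 := fun a d hd => (E.mem_M0 d).1 hd a
      T_1 := fun a g => by
        obtain ⟨g, rfl⟩ := (N0 b.toBT c y).mkQ_surjective g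
        rw [nQ_mk]
        exact E.n_T a g
      T_A := fun a k m => by
        obtain ⟨π'', Λ, h1, -, -⟩ := q.exists_pre b c τ y hF
        have h2 := h1.AT a k m
        rw [hAL, hAL, hTL, hTL, smul_sub] at h2
        exact sub_left_inj.1 h2
      A_add := fun k k' m => by rw [al_add, mul_smul]
      A_e := fun k => by
        have h1 := E.A_e k 1
        rw [hAL, sub_eq_zero] at h1
        exact h1
      A_0 := fun k d hd => by
        have h1 := E.A_0 k d hd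
        rw [hAL, e_smul q c] at h1
        rw [← h1]
        abel
      A_1 := fun k g => by
        obtain ⟨g, rfl⟩ := (N0 b.toBT c y).mkQ_surjective g
        have h1 := E.A_1 k g
        rw [hAL, e_smul q c] at h1
        rw [nQ_mk, sQ_mk, shQ_mk, add_assoc, ← h1]
        abel
      sf_mem := fun g k => by
        obtain ⟨g, rfl⟩ := (N0 b.toBT c y).mkQ_surjective g
        exact E.s_mem g k
      l_add := fun k k' d _ => by rw [map_add, map_add]
      l_smul := fun a k d _ => by rw [map_smul, map_smul, smul_eq_mul]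
      l_alt := fun g k => by
        obtain ⟨g, rfl⟩ := (N0 b.toBT c y).mkQ_surjective g
        exact E.T_alt g k
      inj := fun d hd h => E.inj d hd h
      q_add := fun k k' g => by
        obtain ⟨g, rfl⟩ := (N0 b.toBT c y).mkQ_surjective g
        exact E.sh_add k k' g
      q_smul := fun a k g => by
        obtain ⟨g, rfl⟩ := (N0 b.toBT c y).mkQ_surjective g
        exact E.sh_smul a k g
      P_lin := hlin
      A_mem := hal
      P_le := fun x hx => ⟨x, hx, 1, by rw [tQ_one, mul_one]⟩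
      T_mem := fun a => ⟨1, one_mem _, a, by rw [one_mul]⟩
      T_norm := fun a x hx => tQ_conj τ tP a hx
      D_stab := by
        rintro _ ⟨x, hx, a, rfl⟩ ⟨a', h1⟩ d hd
        obtain ⟨g, hN, hg, rfl⟩ := mem_im.1 hx
        have h2 : tQ τ a • e 1 = (a : F)⁻¹ • e 1 := q.t_e c τ a 1
        have h3 : tQ τ a • d = d := (E.mem_M0 d).1 hd a
        rw [mul_smul, h2, hlin _ hx] at h1
        have h4 : cj g V = V := (V_iff q c b nd hg).2 ⟨(a : F) * a', by
          rw [mul_smul, ← h1, smul_inv_smul₀ a.ne_zero]⟩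
        rw [mul_smul, h3]
        have h5 : d ∈ q.toMZ.sb (DD V R) := (E.mem_D d).2 ⟨0, d, hd, by rw [map_zero, zero_add]⟩
        have h6 : pr (R i) ⟨g, hN⟩ • d ∈ q.toMZ.sb (DD V R) :=
          q.toMZ.sb_smul hN (b.toBT.NV_le_ND (cj_eq_self_iff.1 h4)) h5
        obtain ⟨γ, d', hd', h7⟩ := (E.mem_D (pr (R i) ⟨g, hN⟩ • d)).1 h6
        exact ⟨γ, d', hd', by rw [h7, e_smul q c]⟩
      tr := fun m m' hm hm' hme hme' => by
        obtain ⟨x, hx, a, ha, h1⟩ := hOm hm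
        obtain ⟨x', hx', a', ha', h2⟩ := hOm hm'
        obtain ⟨u, hu, h3⟩ := nd.trans x hx (om_ne_V q c b nd hx h1 hme) x' hx' (om_ne_V q c b nd hx' h2 hme')
        have huP := nd.UP hu
        rw [← cj_mul] at h3
        obtain ⟨a'', h4⟩ := (line_iff q c b nd (mul_mem huP hx) hx').1 h3
        refine ⟨P2 u, a * a'' * a'⁻¹, ?_⟩
        have h5 : al b.toBT y (P2 u) = π R i (nd.P_le_N huP) := (pr_U b.toBT y hu _).symm
        have h6 : π R i (nd.P_le_N (mul_mem huP hx)) = π R i (nd.P_le_N huP) * π R i (nd.P_le_N hx) := by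
          unfold π
          rw [← map_mul]
          rfl
        rw [h6, mul_smul] at h4
        rw [h1, h2, h5, cen_smul q c (nd.PR huP), h4, smul_smul, smul_smul, mul_assoc (a * a''),
          inv_mul_cancel₀ ha', mul_one]
      three := by
        obtain ⟨x, hx, x', hx', -, -, h1, h2, -, h3, -⟩ := nd.four
        refine ⟨π R i (nd.P_le_N hx) • e 1, π R i (nd.P_le_N hx') • e 1,
          ⟨_, pr_mem_im (nd.P_le_N hx) hx, 1, one_ne_zero, by rw [one_smul]⟩,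
          ⟨_, pr_mem_im (nd.P_le_N hx') hx', 1, one_ne_zero, by rw [one_smul]⟩,
          fun a ha => h1 ((V_iff q c b nd hx).2 ⟨a, ha⟩), fun a ha => h2 ((V_iff q c b nd hx').2 ⟨a, ha⟩),
          fun a ha => h3 ((line_iff q c b nd hx' hx).2 ⟨a, ha⟩).symm⟩ }

end frame

end Cfsg.Agent.Omega.HOneQ.NodeQ

end
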