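import Cfsg.Agent.Mrg.Omega.BTwo.ModG
import Cfsg.Agent.Mrg.Omega.Lie.Nodes.SigGrp
import Cfsg.Agent.Mrg.Omega.BTwo.Conj
import Cfsg.Agent.Mrg.Omega.BTwo.Str

section


/-!
# NODE LIE, residues `(0, j)`: module side of the apartment

`m ∈ C(R i)` swaps `⟨e⟩` and `⟨n k⟩` and preserves `N_k = ⟨e⟩ + Z_k + ⟨n k⟩`: then `m` preserves `Z_k`, and
`z · z^m` acts trivially on `N_k` for every torus element `z`.
-/

set_option autoImplicit false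
set_option linter.unusedSectionVars false

namespace Cfsg.Agent.Omega.Lie.Nodes

open Subgroup Cfsg.Agent.Omega.BTwo

universe u v w

variable {G : Type u} [Group G] {ι : Type w} {V : Subgroup G} {R : ι → Subgroup G} {i j : ι} {F : Type v}
  [Field F] {v : F → F → G} {w1 w2 : F → G} {M B : Type u} [AddCommGroup M] [AddCommGroup B]
  [DistribMulAction (NR R i) M] [DistribMulAction (NR R i) B] [Module F M] {p : G → M} {r : G → B}
  {f : M →+ M →+ B} {φ : M →ₗ[F] M →ₗ[F] F} {s : NR R i → (F ≃+* F)} [CharP F 2]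

section basic

variable (h : FMod V R i j v w1 w2 M B p r f φ s)
include h

theorem p_mem_V_iff {x : G} (hx : x ∈ WW V (R i)) : x ∈ V ↔ ∃ c : F, p x = c • p (v 0 1) := by
  rw [← h.fr.p_mem_iff hx (h.bt.R_le i), h.mem_V]
  exact ⟨fun ⟨c, e⟩ => ⟨c, e.symm⟩, fun ⟨c, e⟩ => ⟨c, e.symm⟩⟩

/-- an element of `N(R i)` fixing `⟨e⟩` normalises `V` -/
theorem norm_V [Finite G] {g : NR R i} {c : F} (hg : g • p (v 0 1) = c • p (v 0 1)) :
    (g : G) ∈ normalizer (V : Set G) := by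
  apply mem_normalizer_of_conj
  intro x hx
  have hxW := V_le_WW V (R i) hx
  have hx' : (g : G) * x * (g : G)⁻¹ ∈ WW V (R i) :=
    conj_mem_of_normalizer (normalizer_le_WW V (R i) g.2) hxW
  rw [p_mem_V_iff h hx']
  obtain ⟨d, hd⟩ := (p_mem_V_iff h hxW).1 hx
  refine ⟨s g d * c, ?_⟩
  rw [← h.fr.p_act g x hxW, hd, h.semi, hg, smul_smul]

theorem act_smul {g : NR R i} (hg : (g : G) ∈ centralizer (R i : Set G)) (l : F) (m : M) :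
    g • (l • m) = l • (g • m) := h.lin_cen hg l m

end basic

section Z

variable [Finite G] [Finite F] {h : FMod V R i j v w1 w2 M B p r f φ s} {t : F → G} {τ : Lie.TorD V R i j v t}
  {N : Type u} [AddCommGroup N] [Module F N] {P1 P2 : G → N} {y : YPair V R i j w1 w2 N P1 P2}
  {n : N →ₗ[F] M} {sf : N →ₗ[F] N →ₗ[F] M} {q : N → N →ₗ[F] F}

/-- `N_k` -/
abbrev NK (p : G → M) (v : F → F → G) (n : N →ₗ[F] M) (sf : N →ₗ[F] N →ₗ[F] M) (k : N) : Submodule F M :=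
  Ng (p (v 0 1)) n (fun a b => sf a b) k

/-- `Z_k` -/
abbrev ZK (sf : N →ₗ[F] N →ₗ[F] M) (k : N) : Submodule F M := Zg F (fun a b => sf a b) k

/-- the `a`-eigenvectors of `t a` -/
theorem eig_a (g : Eig h τ y n sf q) {a : Fˣ} (ha : (a : F) ≠ 1) {x : M} (hx : tT τ a • x = (a : F) • x) :
    ∃ l, x = n l := by
  have h1 := h.phi_T_e τ a x
  rw [hx, map_smul, LinearMap.smul_apply, smul_eq_mul] at h1
  have h2 : φ x (p (v 0 1)) = 0 := by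
    have h3 : ((a : F) * (1 - a)) * φ x (p (v 0 1)) = 0 := by linear_combination h1
    exact (mul_eq_zero.1 h3).resolve_left (mul_ne_zero a.ne_zero (sub_ne_zero.2 (Ne.symm ha)))
  obtain ⟨γ, d, hd, l, rfl⟩ := (g.mem_U x).1 h2
  rw [smul_add, smul_add, h.T_smul_e τ, hd a, g.n_mem l a, smul_add, smul_add, smul_smul] at hx
  have h3 : (γ * (a : F)⁻¹ - a * γ) • p (v 0 1) + (1 - (a : F)) • d + n 0 = 0 := by
    rw [map_zero, add_zero, sub_smul, sub_smul, one_smul]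
    have h4 : (γ * (a : F)⁻¹) • p (v 0 1) + d = ((a : F) * γ) • p (v 0 1) + (a : F) • d :=
      add_right_cancel hx
    have h5 : (γ * (a : F)⁻¹) • p (v 0 1) = ((a : F) * γ) • p (v 0 1) + (a : F) • d - d := by
      rw [← h4]; abel
    rw [h5]
    abel
  obtain ⟨h4, h5, -⟩ := g.indep _ _ _ ((h.M0 τ).smul_mem _ hd) h3
  have h6 : γ = 0 := by
    have h7 : γ * ((a : F) - (a : F)⁻¹) = 0 := by linear_combination -h4
    exact (mul_eq_zero.1 h7).resolve_right (h.sub_inv_ne a.ne_zero ha)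
  have h7 : d = 0 := (smul_eq_zero.1 h5).resolve_left (sub_ne_zero.2 (Ne.symm ha))
  exact ⟨l, by rw [h6, h7, zero_smul, zero_add, zero_add]⟩

theorem mem_NK {k : N} {m : M} : m ∈ NK p v n sf k ↔
    ∃ c : F, ∃ z ∈ ZK sf k, ∃ r : F, m = c • p (v 0 1) + z + r • n k := mem_Ng

theorem ZK_le (g : Eig h τ y n sf q) {k : N} : ZK sf k ≤ h.M0 τ := (nfr_of g).Zg_le

/-- the components in `N_k` are unique -/
theorem NK_uniq (g : Eig h τ y n sf q) {k : N} (hk : k ≠ 0) {c c' : F} {z z' : M} {ρ ρ' : F}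
    (hz : z ∈ ZK sf k) (hz' : z' ∈ ZK sf k)
    (e : c • p (v 0 1) + z + ρ • n k = c' • p (v 0 1) + z' + ρ' • n k) : c = c' ∧ z = z' ∧ ρ = ρ' := by
  have h1 : (c - c') • p (v 0 1) + (z - z') + n ((ρ - ρ') • k) = 0 := by
    rw [sub_smul, map_smul, sub_smul]
    have : c • p (v 0 1) - c' • p (v 0 1) + (z - z') + (ρ • n k - ρ' • n k) =
      (c • p (v 0 1) + z + ρ • n k) - (c' • p (v 0 1) + z' + ρ' • n k) := by abel
    rw [this, e, sub_self]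
  obtain ⟨h2, h3, h4⟩ := g.indep _ _ _ ((h.M0 τ).sub_mem (ZK_le g hz) (ZK_le g hz')) h1
  refine ⟨sub_eq_zero.1 h2, sub_eq_zero.1 h3, sub_eq_zero.1 ((smul_eq_zero.1 h4).resolve_right hk)⟩

theorem n_notMem_D (g : Eig h τ y n sf q) {k : N} (hk : k ≠ 0) {c : F} (hc : c • n k ∈ h.fr.sb (DD V R)) :
    c = 0 := by
  obtain ⟨γ, d, hd, e⟩ := (g.mem_D _).1 hc
  have h1 : γ • p (v 0 1) + d + n ((-c) • k) = 0 := by
    rw [map_smul, neg_smul, e]; abel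
  obtain ⟨-, -, h2⟩ := g.indep _ _ _ hd h1
  exact neg_eq_zero.1 ((smul_eq_zero.1 h2).resolve_right hk)

/-- `m` swaps `⟨e⟩` and `⟨n k⟩` and preserves `N_k` -/
structure SwapM (h : FMod V R i j v w1 w2 M B p r f φ s) (n : N →ₗ[F] M) (sf : N →ₗ[F] N →ₗ[F] M) (k : N)
    (m : NR R i) (β γ : F) : Prop where
  cen : (m : G) ∈ centralizer (R i : Set G)
  me : m • p (v 0 1) = β • n k
  mn : m • n k = γ • p (v 0 1)
  β0 : β ≠ 0
  γ0 : γ ≠ 0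
  pres : ∀ x ∈ NK p v n sf k, m • x ∈ NK p v n sf k
  pres' : ∀ x ∈ NK p v n sf k, m⁻¹ • x ∈ NK p v n sf k

namespace SwapM

variable {k : N} {m : NR R i} {β γ : F} (sw : SwapM h n sf k m β γ)
include sw

theorem cen' : ((m⁻¹ : NR R i) : G) ∈ centralizer (R i : Set G) := by
  rw [coe_inv]
  exact inv_mem sw.cen

theorem me' : m⁻¹ • n k = β⁻¹ • p (v 0 1) := by
  rw [inv_smul_eq_iff, act_smul h sw.cen, sw.me, smul_smul, inv_mul_cancel₀ sw.β0, one_smul]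

theorem mn' : m⁻¹ • p (v 0 1) = γ⁻¹ • n k := by
  rw [inv_smul_eq_iff, act_smul h sw.cen, sw.mn, smul_smul, inv_mul_cancel₀ sw.γ0, one_smul]

theorem inv : SwapM h n sf k m⁻¹ γ⁻¹ β⁻¹ where
  cen := sw.cen'
  me := sw.mn'
  mn := sw.me'
  β0 := inv_ne_zero sw.γ0
  γ0 := inv_ne_zero sw.β0
  pres := sw.pres'
  pres' := by
    rw [inv_inv]
    exact sw.pres

/-- the `e`-component of `m • d`, `d ∈ Z`, is `0` -/
theorem comp_e (g : Eig h τ y n sf q) (hk : k ≠ 0) {d : M} (hd : d ∈ ZK sf k) :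
    ∃ z ∈ ZK sf k, ∃ r : F, m • d = z + r • n k := by
  obtain ⟨a, ha⟩ := h.exists_unit
  have hdN : d ∈ NK p v n sf k := Zg_le_Ng hd
  obtain ⟨c, z, hz, r, e⟩ := mem_NK.1 (sw.pres d hdN)
  -- `z' = m⁻¹ t m` normalises `V`, hence `D`
  set x := m⁻¹ * tT τ a * m with hx
  have hxe : x • p (v 0 1) = (a : F) • p (v 0 1) := by
    rw [hx, mul_smul, mul_smul, sw.me, h.T_lin τ, g.n_mem k a, act_smul h sw.cen', act_smul h sw.cen', sw.me',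
      smul_smul, smul_smul]
    congr 1
    have := sw.β0
    field_simp
  have hxV : (x : G) ∈ normalizer (DD V R : Set G) := h.bt.NV_le_ND (norm_V h hxe)
  -- `d` and `x • d` are in `D`
  have hdD : d ∈ h.fr.sb (DD V R) := (g.mem_D _).2 ⟨0, d, ZK_le g hd, by rw [zero_smul, zero_add]⟩
  have hxd := h.fr.sb_smul hxV hdD
  have h1 := (h.fr.sb (DD V R)).sub_mem hxd hdD
  -- `m • (x • d - d) = (a⁻¹ - 1) c e + (a - 1) r n_k`
  have h2 : m • (x • d - d) = (c * (a : F)⁻¹ - c) • p (v 0 1) + ((a : F) * r - r) • n k := by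
    rw [smul_sub, ← mul_smul, hx, show m * (m⁻¹ * tT τ a * m) = tT τ a * m by group, mul_smul, e, smul_add,
      smul_add, h.T_smul_e τ, ZK_le g hz a, h.T_lin τ, g.n_mem k a, smul_smul, sub_smul, sub_smul, mul_comm r]
    abel
  have h3 : x • d - d = (c * (a : F)⁻¹ - c) • (γ⁻¹ • n k) + ((a : F) * r - r) • (β⁻¹ • p (v 0 1)) := by
    rw [← inv_smul_smul m (x • d - d), h2, smul_add, act_smul h sw.cen', act_smul h sw.cen', sw.me', sw.mn']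
  rw [h3] at h1
  have h4 : ((a : F) * r - r) • (β⁻¹ • p (v 0 1)) ∈ h.fr.sb (DD V R) := by
    rw [smul_smul]
    exact h.D_smul_e τ _
  have h5 : (c * (a : F)⁻¹ - c) • (γ⁻¹ • n k) ∈ h.fr.sb (DD V R) := by
    have := (h.fr.sb (DD V R)).sub_mem h1 h4
    rwa [add_sub_cancel_right] at this
  rw [smul_smul] at h5
  have h6 := n_notMem_D g hk h5
  have h7 : c * ((a : F)⁻¹ - 1) = 0 := by
    have h8 := (mul_eq_zero.1 h6).resolve_right (inv_ne_zero sw.γ0)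
    linear_combination h8
  have h8 : c = 0 := by
    refine (mul_eq_zero.1 h7).resolve_right fun h9 => ha ?_
    rw [← inv_inv (a : F), sub_eq_zero.1 h9, inv_one]
  exact ⟨z, hz, r, by rw [e, h8, zero_smul, zero_add]⟩

/-- **`m` preserves `Z_k`** -/
theorem pres_Z (g : Eig h τ y n sf q) (hk : k ≠ 0) {d : M} (hd : d ∈ ZK sf k) : m • d ∈ ZK sf k := by
  obtain ⟨z, hz, r, e⟩ := sw.comp_e g hk hd
  obtain ⟨z', hz', r', e'⟩ := sw.inv.comp_e g hk hz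
  have h1 : d = m⁻¹ • z + (r * β⁻¹) • p (v 0 1) := by
    rw [← inv_smul_smul m d, e, smul_add, act_smul h sw.cen', sw.me', smul_smul]
  rw [e'] at h1
  have h2 := NK_uniq g hk (c := 0) (c' := r * β⁻¹) (ρ := 0) (ρ' := r') hd hz' (by
    rw [zero_smul, zero_smul, zero_add, add_zero, h1]; abel)
  have h3 : r = 0 := (mul_eq_zero.1 h2.1.symm).resolve_right (inv_ne_zero sw.β0)
  rw [e, h3, zero_smul, add_zero]
  exact hz

/-- the conjugate torus element on `e`, `Z`, `n k` -/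
theorem conj_e (g : Eig h τ y n sf q) (a : Fˣ) :
    (m * tT τ a * m⁻¹) • p (v 0 1) = (a : F) • p (v 0 1) := by
  rw [mul_smul, mul_smul, sw.mn', h.T_lin τ, g.n_mem k a, act_smul h sw.cen, act_smul h sw.cen, sw.mn, smul_smul,
    smul_smul]
  congr 1
  have := sw.γ0
  field_simp

theorem conj_n (g : Eig h τ y n sf q) (a : Fˣ) : (m * tT τ a * m⁻¹) • n k = (a : F)⁻¹ • n k := by
  have _ := g
  rw [mul_smul, mul_smul, sw.me', h.T_lin τ, h.T_e τ, act_smul h sw.cen, act_smul h sw.cen, sw.me, smul_smul,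
    smul_smul]
  congr 1
  have := sw.β0
  field_simp

theorem conj_Z (g : Eig h τ y n sf q) (hk : k ≠ 0) (a : Fˣ) {d : M} (hd : d ∈ ZK sf k) :
    (m * tT τ a * m⁻¹) • d = d := by
  rw [mul_smul, mul_smul, ZK_le g (sw.inv.pres_Z g hk hd) a, smul_inv_smul]

end SwapM

end Z

end Cfsg.Agent.Omega.Lie.Nodes

end

section


/-!
# NODE LIE, residues `(0, j)`: the apartment of the quadrangle closes

`p₀ p₁ p₂ p₃` points, `W₀ .. W₃` with `[Wᵢ, Wᵢ] ≤ pᵢ`, lines `pᵢ pᵢ₊₁ ≤ Wᵢ ⊓ Wᵢ₊₁`.  `Λ = ⟨W₃ ⊓ W₀, W₁ ⊓ W₂⟩` and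
`Λ' = ⟨W₀ ⊓ W₁, W₂ ⊓ W₃⟩` commute modulo `p₀ p₁ p₂ p₃`.  If `m` fixes `p₀, p₂` and swaps `p₁, p₃` and `n ∈ Λ` maps `p₀`
to `p₁` then `(nmnm)⁻¹ mnmn ∈ ⟨Λ, p₀ p₁ p₂ p₃⟩` fixes `p₀`.
-/

set_option autoImplicit false

namespace Cfsg.Agent.Omega.Lie.Nodes

open Subgroup Cfsg.Agent.Omega.BTwo

universe u

variable {G : Type u} [Group G]

/-- `{a ∈ N(S) | [a, B] ≤ S}` -/
def cmod (S B : Subgroup G) : Subgroup G where
  carrier := {a | a ∈ normalizer (S : Set G) ∧ ∀ b ∈ B, a * b * a⁻¹ * b⁻¹ ∈ S}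
  one_mem' := ⟨one_mem _, fun b _ => by
    rw [one_mul, inv_one, mul_one, mul_inv_cancel]; exact one_mem _⟩
  mul_mem' := by
    rintro a a' ⟨h1, h2⟩ ⟨h3, h4⟩
    refine ⟨mul_mem h1 h3, fun b hb => ?_⟩
    have e : a * a' * b * (a * a')⁻¹ * b⁻¹ = (a * (a' * b * a'⁻¹ * b⁻¹) * a⁻¹) * (a * b * a⁻¹ * b⁻¹) := by group
    rw [e]
    exact mul_mem (conj_mem_of_normalizer h1 (h4 b hb)) (h2 b hb)
  inv_mem' := by
    rintro a ⟨h1, h2⟩
    refine ⟨inv_mem h1, fun b hb => ?_⟩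
    have e : a⁻¹ * b * a⁻¹⁻¹ * b⁻¹ = a⁻¹ * (a * b * a⁻¹ * b⁻¹)⁻¹ * a := by group
    rw [e]
    exact conj_inv_mem_of_normalizer h1 (inv_mem (h2 b hb))

theorem le_cmod {S B A : Subgroup G} (h : A ≤ normalizer (S : Set G))
    (h' : ∀ a ∈ A, ∀ b ∈ B, a * b * a⁻¹ * b⁻¹ ∈ S) : A ≤ cmod S B := fun a ha => ⟨h ha, h' a ha⟩

/-- `A₁ ⊔ A₂` and `B₁ ⊔ B₂` commute modulo `S` -/
theorem comm_sup_sup {S A1 A2 B1 B2 : Subgroup G} (hA1 : A1 ≤ normalizer (S : Set G))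
    (hA2 : A2 ≤ normalizer (S : Set G)) (hB1 : B1 ≤ normalizer (S : Set G)) (hB2 : B2 ≤ normalizer (S : Set G))
    (h11 : ∀ a ∈ A1, ∀ b ∈ B1, a * b * a⁻¹ * b⁻¹ ∈ S) (h12 : ∀ a ∈ A1, ∀ b ∈ B2, a * b * a⁻¹ * b⁻¹ ∈ S)
    (h21 : ∀ a ∈ A2, ∀ b ∈ B1, a * b * a⁻¹ * b⁻¹ ∈ S) (h22 : ∀ a ∈ A2, ∀ b ∈ B2, a * b * a⁻¹ * b⁻¹ ∈ S) :
    ∀ a ∈ A1 ⊔ A2, ∀ b ∈ B1 ⊔ B2, a * b * a⁻¹ * b⁻¹ ∈ S := by
  have sym : ∀ {a b : G}, a * b * a⁻¹ * b⁻¹ ∈ S → b * a * b⁻¹ * a⁻¹ ∈ S := by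
    intro a b h
    have e : b * a * b⁻¹ * a⁻¹ = (a * b * a⁻¹ * b⁻¹)⁻¹ := by group
    rw [e]; exact inv_mem h
  have h1 : A1 ⊔ A2 ≤ cmod S B1 := sup_le (le_cmod hA1 h11) (le_cmod hA2 h21)
  have h2 : A1 ⊔ A2 ≤ cmod S B2 := sup_le (le_cmod hA1 h12) (le_cmod hA2 h22)
  have h3 : B1 ⊔ B2 ≤ cmod S (A1 ⊔ A2) :=
    sup_le (le_cmod hB1 fun b hb a ha => sym ((h1 ha).2 b hb)) (le_cmod hB2 fun b hb a ha => sym ((h2 ha).2 b hb))
  exact fun a ha b hb => sym ((h3 hb).2 a ha)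

/-- the four points of an apartment -/
structure Apt (p0 p1 p2 p3 W0 W1 W2 W3 : Subgroup G) : Prop where
  w0 : ∀ x ∈ W0, ∀ y ∈ W0, x * y * x⁻¹ * y⁻¹ ∈ p0
  w1 : ∀ x ∈ W1, ∀ y ∈ W1, x * y * x⁻¹ * y⁻¹ ∈ p1
  w2 : ∀ x ∈ W2, ∀ y ∈ W2, x * y * x⁻¹ * y⁻¹ ∈ p2
  w3 : ∀ x ∈ W3, ∀ y ∈ W3, x * y * x⁻¹ * y⁻¹ ∈ p3
  p00 : p0 ≤ W0
  p01 : p0 ≤ W1
  p03 : p0 ≤ W3
  p11 : p1 ≤ W1
  p10 : p1 ≤ W0
  p12 : p1 ≤ W2
  p22 : p2 ≤ W2
  p21 : p2 ≤ W1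
  p23 : p2 ≤ W3
  p33 : p3 ≤ W3
  p32 : p3 ≤ W2
  p30 : p3 ≤ W0
  comm : ∀ x ∈ p0 ⊔ p1 ⊔ p2 ⊔ p3, ∀ y ∈ p0 ⊔ p1 ⊔ p2 ⊔ p3, x * y = y * x

theorem le_normalizer_of' {K S : Subgroup G} (h : ∀ k ∈ K, ∀ s ∈ S, k * s * k⁻¹ ∈ S) :
    K ≤ normalizer (S : Set G) := by
  intro k hk
  rw [mem_normalizer_iff]
  intro x
  refine ⟨fun hx => h k hk x hx, fun hx => ?_⟩
  have := h k⁻¹ (inv_mem hk) _ hx
  rwa [inv_inv, show k⁻¹ * (k * x * k⁻¹) * k = x by group] at this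

/-- the general step: `W ⊓ W'` normalises `S` -/
theorem norm_aux {W W' p p' S A A' : Subgroup G} (hw : ∀ x ∈ W, ∀ y ∈ W, x * y * x⁻¹ * y⁻¹ ∈ p)
    (hw' : ∀ x ∈ W', ∀ y ∈ W', x * y * x⁻¹ * y⁻¹ ∈ p') (hp : p ≤ S) (hp' : p' ≤ S) (hA : A ≤ W) (hA' : A' ≤ W')
    (hS : S = A ⊔ A') : W ⊓ W' ≤ normalizer (S : Set G) := by
  refine le_normalizer_of' fun d hd => ?_
  have h : A ⊔ A' ≤ S.comap (MulAut.conj d).toMonoidHom := by
    refine sup_le (fun a ha => ?_) fun a ha => ?_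
    · show d * a * d⁻¹ ∈ S
      have h1 := mul_mem (hp (hw d hd.1 a (hA ha))) (hS.ge ((le_sup_left : A ≤ _) ha))
      rwa [inv_mul_cancel_right] at h1
    · show d * a * d⁻¹ ∈ S
      have h1 := mul_mem (hp' (hw' d hd.2 a (hA' ha))) (hS.ge ((le_sup_right : A' ≤ _) ha))
      rwa [inv_mul_cancel_right] at h1
  intro s hs
  exact h (hS.le hs)

namespace Apt

variable {p0 p1 p2 p3 W0 W1 W2 W3 : Subgroup G} (h : Apt p0 p1 p2 p3 W0 W1 W2 W3)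
include h

theorem n0 : W0 ⊓ W1 ≤ normalizer ((p0 ⊔ p1 ⊔ p2 ⊔ p3 : Subgroup G) : Set G) := by
  refine norm_aux (A := p0 ⊔ p3) (A' := p1 ⊔ p2) h.w0 h.w1
    (le_sup_left.trans (le_sup_left.trans le_sup_left)) (le_sup_right.trans (le_sup_left.trans le_sup_left))
    (sup_le h.p00 h.p30) (sup_le h.p11 h.p21) ?_
  ac_rfl

theorem n1 : W1 ⊓ W2 ≤ normalizer ((p0 ⊔ p1 ⊔ p2 ⊔ p3 : Subgroup G) : Set G) := by
  refine norm_aux (A := p1 ⊔ p0) (A' := p2 ⊔ p3) h.w1 h.w2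
    (le_sup_right.trans (le_sup_left.trans le_sup_left)) (le_sup_right.trans le_sup_left)
    (sup_le h.p11 h.p01) (sup_le h.p22 h.p32) ?_
  ac_rfl

theorem n2 : W2 ⊓ W3 ≤ normalizer ((p0 ⊔ p1 ⊔ p2 ⊔ p3 : Subgroup G) : Set G) := by
  refine norm_aux (A := p2 ⊔ p1) (A' := p3 ⊔ p0) h.w2 h.w3
    (le_sup_right.trans le_sup_left) le_sup_right (sup_le h.p22 h.p12) (sup_le h.p33 h.p03) ?_
  ac_rfl

theorem n3 : W3 ⊓ W0 ≤ normalizer ((p0 ⊔ p1 ⊔ p2 ⊔ p3 : Subgroup G) : Set G) := by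
  refine norm_aux (A := p3 ⊔ p2) (A' := p0 ⊔ p1) h.w3 h.w0
    le_sup_right (le_sup_left.trans (le_sup_left.trans le_sup_left)) (sup_le h.p33 h.p23) (sup_le h.p00 h.p10) ?_
  ac_rfl

theorem s0 : p0 ≤ p0 ⊔ p1 ⊔ p2 ⊔ p3 := by
  have _ := h
  exact le_sup_left.trans (le_sup_left.trans le_sup_left)
theorem s1 : p1 ≤ p0 ⊔ p1 ⊔ p2 ⊔ p3 := by
  have _ := h
  exact le_sup_right.trans (le_sup_left.trans le_sup_left)
theorem s2 : p2 ≤ p0 ⊔ p1 ⊔ p2 ⊔ p3 := by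
  have _ := h
  exact le_sup_right.trans le_sup_left
theorem s3 : p3 ≤ p0 ⊔ p1 ⊔ p2 ⊔ p3 := by
  have _ := h
  exact le_sup_right

/-- `Λ` and `Λ'` commute modulo `p₀ p₁ p₂ p₃` -/
theorem comm_mod : ∀ a ∈ (W3 ⊓ W0) ⊔ (W1 ⊓ W2), ∀ b ∈ (W0 ⊓ W1) ⊔ (W2 ⊓ W3),
    a * b * a⁻¹ * b⁻¹ ∈ p0 ⊔ p1 ⊔ p2 ⊔ p3 :=
  comm_sup_sup h.n3 h.n1 h.n0 h.n2 (fun a ha b hb => h.s0 (h.w0 a ha.2 b hb.1))
    (fun a ha b hb => h.s3 (h.w3 a ha.1 b hb.2)) (fun a ha b hb => h.s1 (h.w1 a ha.1 b hb.2))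
    (fun a ha b hb => h.s2 (h.w2 a ha.2 b hb.1))

/-- **the apartment closes** -/
theorem swap {m n : G} (m0 : cj m W0 = W0) (m1 : cj m W1 = W3) (m2 : cj m W2 = W2) (m3 : cj m W3 = W1)
    (q0 : cj m p0 = p0) (q1 : cj m p1 = p3) (q2 : cj m p2 = p2) (q3 : cj m p3 = p1)
    (hn : n ∈ (W3 ⊓ W0) ⊔ (W1 ⊓ W2)) (hn0 : cj n p0 = p1) :
    (n * m * n * m)⁻¹ * (m * n * m * n) ∈ ((W3 ⊓ W0) ⊔ (W1 ⊓ W2)) ⊔ (p0 ⊔ p1 ⊔ p2 ⊔ p3) ∧
      cj ((n * m * n * m)⁻¹ * (m * n * m * n)) p0 = p0 := by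
  set A := (W3 ⊓ W0) ⊔ (W1 ⊓ W2) with hA
  set A' := (W0 ⊓ W1) ⊔ (W2 ⊓ W3) with hA'
  set S := p0 ⊔ p1 ⊔ p2 ⊔ p3 with hS
  have hmA : cj m A = A' := by
    rw [hA, cj_sup, cj_inf, cj_inf, m0, m1, m2, m3, inf_comm W1 W0, inf_comm W3 W2]
  have hmA' : cj m A' = A := by
    rw [hA', cj_sup, cj_inf, cj_inf, m0, m1, m2, m3, inf_comm W0 W3, inf_comm W2 W1]
  have hmS : cj m S = S := by
    rw [hS, cj_sup, cj_sup, cj_sup, q0, q1, q2, q3]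
    ac_rfl
  have hmm : cj (m * m) A = A := by rw [cj_mul, hmA, hmA']
  have hmmS : cj (m * m) S = S := by rw [cj_mul, hmS, hmS]
  have hmm' : (m * m)⁻¹ ∈ normalizer (A : Set G) := inv_mem (cj_eq_self_iff.1 hmm)
  have hmmS' : (m * m)⁻¹ ∈ normalizer (S : Set G) := inv_mem (cj_eq_self_iff.1 hmmS)
  set n' := m * n * m⁻¹ with hn'
  have hn'A : n' ∈ A' := by rw [← hmA]; exact conj_mem_cj hn
  set s := n'⁻¹ * n⁻¹ * n' * n with hs
  have hsS : s ∈ S := by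
    have h1 := h.comm_mod n⁻¹ (inv_mem hn) n'⁻¹ (inv_mem hn'A)
    have e : s = (n⁻¹ * n'⁻¹ * n⁻¹⁻¹ * n'⁻¹⁻¹)⁻¹ := by rw [hs]; group
    rw [e]
    exact inv_mem h1
  have key : (n * m * n * m)⁻¹ * (m * n * m * n) =
      ((m * m)⁻¹ * s * (m * m)⁻¹⁻¹) * ((m * m)⁻¹ * n⁻¹ * (m * m)⁻¹⁻¹) * n := by
    rw [hs, hn']; group
  constructor
  · rw [key]
    refine mul_mem (mul_mem ?_ ?_) ((le_sup_left : A ≤ _) hn)
    · exact (le_sup_right : S ≤ _) (conj_mem_of_normalizer hmmS' hsS)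
    · exact (le_sup_left : A ≤ _) (conj_mem_of_normalizer hmm' (inv_mem hn))
  · have e : (n * m * n * m)⁻¹ * (m * n * m * n) = (m * m)⁻¹ * (s * (n⁻¹ * (m * m * n))) := by
      rw [hs, hn']; group
    have hm0 : cj (m * m) p0 = p0 := by rw [cj_mul, q0, q0]
    have hm1 : cj (m * m) p1 = p1 := by rw [cj_mul, q1, q3]
    have hs0 : cj s p0 = p0 := by
      rw [cj_eq_self_iff, mem_normalizer_iff]
      intro x
      constructor
      · intro hx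
        rw [h.comm s hsS x (h.s0 hx), mul_inv_cancel_right]
        exact hx
      · intro hx
        have h1 := h.comm s hsS _ (h.s0 hx)
        have h2 : s * x * s⁻¹ = x := by
          have h3 : s * (s * x * s⁻¹) = s * x := by rw [h1]; group
          exact mul_left_cancel h3
        rwa [h2] at hx
    have e3 : cj (n⁻¹ * (m * m * n)) p0 = p0 := by
      rw [cj_mul n⁻¹ (m * m * n), cj_mul (m * m) n, hn0, hm1, ← hn0, cj_inv_cj]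
    rw [e, cj_mul (m * m)⁻¹ (s * (n⁻¹ * (m * m * n))), cj_mul s (n⁻¹ * (m * m * n)), e3, hs0]
    rw [cj_eq_iff, inv_inv, hm0]

/-- the point opposite to `p₀` -/
theorem opp [Finite G] {l : Subgroup G} {x : G} (hx0 : cj x W0 = W1) (hxl : cj x l = l) (h3l : p3 ≤ l)
    (h2l : p2 ≤ l) (hl2 : l ≤ W3) (h03 : p0 ⊓ p3 = ⊥) (hcard : Nat.card p2 = Nat.card p3)
    (hd : ∀ v ∈ l, (∀ d ∈ W3 ⊓ W0, d * v = v * d) → v ∈ p3) : cj x p3 = p2 := by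
  have h1 : l ⊓ W0 = p3 := by
    apply le_antisymm
    · rintro v ⟨hv, hv0⟩
      refine hd v hv fun d hd' => ?_
      have h1 : d * v * d⁻¹ * v⁻¹ ∈ p0 ⊓ p3 := ⟨h.w0 d hd'.2 v hv0, h.w3 d hd'.1 v (hl2 hv)⟩
      rw [h03, mem_bot, mul_inv_eq_one, mul_inv_eq_iff_eq_mul] at h1
      exact h1
    · exact le_inf h3l h.p30
  have h2 : p2 ≤ cj x p3 := by
    rw [← h1, cj_inf, hxl, hx0]
    exact le_inf h2l h.p21
  symm
  refine eq_of_le_of_card_ge h2 ?_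
  rw [card_cj, hcard]

end Apt

end Cfsg.Agent.Omega.Lie.Nodes

end

section


/-!
# NODE LIE, residues `(0, j)`: the apartment, from `m` and the opposite point

`BT V R`; `r ∈ X` swaps `R i, R j`; `m` fixes `R i`, `m² ` fixes `V` and `R j`; `p₂ = (R k)^{r m}` is fixed by `m`.
-/

set_option autoImplicit false
set_option linter.unusedSectionVars false

namespace Cfsg.Agent.Omega.Lie.Nodes

open Subgroup Cfsg.Agent.Omega.BTwo

universe u w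

variable {G : Type u} [Group G] {ι : Type w} {V : Subgroup G} {R : ι → Subgroup G} (b : BT V R) {i j : ι}

section

include b

/-- `W` of a point is well defined -/
theorem cj_WW_uniq {g g' : G} {k k' : ι} (h : cj g (R k) = cj g' (R k')) :
    cj g (WW V (R k)) = cj g' (WW V (R k')) := by
  have h1 : cj (g'⁻¹ * g) (R k) = R k' := by rw [cj_mul, h, cj_inv_cj]
  have h2 := b.cj_WW h1
  rw [cj_mul] at h2
  rw [← h2, cj_cj_inv]

theorem WW_cj_comm {g : G} {k : ι} : ∀ x ∈ cj g (WW V (R k)), ∀ y ∈ cj g (WW V (R k)),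
    x * y * x⁻¹ * y⁻¹ ∈ cj g (R k) := by
  rintro _ ⟨x, hx, rfl⟩ _ ⟨y, hy, rfl⟩
  have h := conj_mem_cj (g := g) (b.WW_comm k hx hy)
  have e : g * (x * y * x⁻¹ * y⁻¹) * g⁻¹ =
      g * x * g⁻¹ * (g * y * g⁻¹) * (g * x * g⁻¹)⁻¹ * (g * y * g⁻¹)⁻¹ := by group
  rw [e] at h
  exact h

theorem R_le_WW (k l : ι) : R k ≤ WW V (R l) := (b.R_le k).trans (V_le_WW V (R l))

theorem cj_DD {g : G} (hg : g ∈ normalizer (V : Set G)) : cj g (DD V R) = DD V R :=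
  cj_eq_self_iff.2 (b.NV_le_ND hg)

end

/-- the data of an apartment -/
structure AptData (V : Subgroup G) (R : ι → Subgroup G) (i j k : ι) (r m : G) (S : Subgroup G) : Prop where
  ne : i ≠ j
  r_mem : r ∈ XX V R
  ri : cj r (R i) = R j
  rj : cj r (R j) = R i
  mi : cj m (R i) = R i
  mV : cj m (cj m V) = V
  mj : cj m (cj m (R j)) = R j
  ki : k ≠ i
  m2 : cj m (cj (r * m) (R k)) = cj (r * m) (R k)
  comm : ∀ x ∈ S, ∀ y ∈ S, x * y = y * x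
  VS : V ≤ S
  VS' : cj m V ≤ S
  pS : cj (r * m) (R k) ≤ S
  /-- `D` is transitive on the points `≠ R i` of the line `V^m` -/
  tr : ∀ l, l ≠ i → ∃ d ∈ DD V R, cj d (cj m (R j)) = cj m (R l)
  fix : ∀ x ∈ cj m V, (∀ d ∈ DD V R, d * x = x * d) → x ∈ R i

namespace AptData

variable {k : ι} {r m : G} {S : Subgroup G} (a : AptData V R i j k r m S)
include a b

theorem rm : cj (r * m) (R i) = R j := by
  have _ := b
  rw [cj_mul, a.mi, a.ri]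

theorem mWi : cj m (WW V (R i)) = WW V (R i) := b.cj_WW a.mi

theorem l1 : cj (r * m) V ≤ WW V (R j) := by
  rw [← b.cj_WW a.ri, cj_mul]
  apply cj_mono
  rw [← a.mWi b]
  exact cj_mono (V_le_WW V (R i))

theorem l1' : cj (r * m) V ≤ cj (r * m) (WW V (R k)) := by
  have _ := b
  exact cj_mono (V_le_WW V (R k))

theorem m2W : cj m (cj (r * m) (WW V (R k))) = cj (r * m) (WW V (R k)) := by
  have h1 : cj (m * (r * m)) (R k) = cj (r * m) (R k) := by rw [cj_mul, a.m2]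
  have h2 := cj_WW_uniq b h1
  rwa [cj_mul] at h2

theorem mWj : cj m (cj m (WW V (R j))) = WW V (R j) := by
  have h1 : cj (m * m) (R j) = R j := by rw [cj_mul, a.mj]
  have h2 := b.cj_WW h1
  rwa [cj_mul] at h2

theorem apt : Apt (R i) (R j) (cj (r * m) (R k)) (cj m (R j)) (WW V (R i)) (WW V (R j))
    (cj (r * m) (WW V (R k))) (cj m (WW V (R j))) where
  w0 := fun _ hx _ hy => b.WW_comm i hx hy
  w1 := fun _ hx _ hy => b.WW_comm j hx hy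
  w2 := WW_cj_comm b
  w3 := WW_cj_comm b
  p00 := R_le_WW b i i
  p01 := R_le_WW b i j
  p03 := by
    conv_lhs => rw [← a.mi]
    exact cj_mono (R_le_WW b i j)
  p11 := R_le_WW b j j
  p10 := R_le_WW b j i
  p12 := by
    rw [← a.rm b]
    exact cj_mono (R_le_WW b i k)
  p22 := cj_mono (R_le_WW b k k)
  p21 := (cj_mono (b.R_le k)).trans (a.l1 b)
  p23 := by
    conv_lhs => rw [← a.m2]
    exact cj_mono ((cj_mono (b.R_le k)).trans (a.l1 b))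
  p33 := cj_mono (R_le_WW b j j)
  p32 := by
    conv_rhs => rw [← a.m2W b]
    apply cj_mono
    rw [← a.rm b]
    exact cj_mono (R_le_WW b i k)
  p30 := by
    rw [← a.mWi b]
    exact cj_mono (R_le_WW b j i)
  comm := by
    have h1 : R i ⊔ R j ⊔ cj (r * m) (R k) ⊔ cj m (R j) ≤ S :=
      sup_le (sup_le (sup_le ((b.R_le i).trans a.VS) ((b.R_le j).trans a.VS)) a.pS)
        ((cj_mono (b.R_le j)).trans a.VS')
    exact fun x hx y hy => a.comm x (h1 hx) y (h1 hy)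

theorem mmV : m * m ∈ normalizer (V : Set G) := by
  have _ := b
  rw [← cj_eq_self_iff, cj_mul, a.mV]

/-- `D₃ = D^m` -/
theorem D3 : cj m (WW V (R j)) ⊓ WW V (R i) = cj m (DD V R) := by
  rw [b.D_eq' a.ne.symm, cj_inf, a.mWi b]

/-- `D₁ = D^{r m}` -/
theorem D1 : WW V (R j) ⊓ cj (r * m) (WW V (R k)) = cj (r * m) (DD V R) := by
  rw [b.D_eq' a.ki.symm, cj_inf]
  congr 1
  rw [cj_mul, a.mWi b, b.cj_WW a.ri]

/-- `D₃` is transitive on the points `≠ R i` of `V` -/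
theorem tr3 {l : ι} (hl : l ≠ i) : ∃ d ∈ cj m (DD V R), cj d (R j) = R l := by
  obtain ⟨l', hl'⟩ := b.perm_inv (a.mmV b) l
  have hne : l' ≠ i := by
    rintro rfl
    rw [cj_mul, a.mi, a.mi] at hl'
    exact hl (b.R_index hl').symm
  obtain ⟨d, hd, e⟩ := a.tr l' hne
  refine ⟨m * d * m⁻¹, conj_mem_cj hd, ?_⟩
  conv_lhs => rw [← a.mj]
  rw [cj_mul, cj_mul, cj_inv_cj, e, ← cj_mul, hl']

/-- `D₁` is transitive on the points `≠ R j` of `V` -/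
theorem tr1 {l : ι} (hl : l ≠ j) : ∃ d ∈ cj (r * m) (DD V R), cj d (R i) = R l := by
  obtain ⟨l', hl'⟩ := b.perm_inv (b.X_le_NV a.r_mem) l
  have hne : l' ≠ i := by
    rintro rfl
    rw [a.ri] at hl'
    exact hl (b.R_index hl').symm
  obtain ⟨d, hd, e⟩ := a.tr3 b hne
  refine ⟨r * d * r⁻¹, ?_, ?_⟩
  · rw [cj_mul]
    exact conj_mem_cj hd
  · conv_lhs => rw [← a.rj]
    rw [cj_mul, cj_mul, cj_inv_cj, e, hl']

/-- **the apartment** -/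
theorem exists_n [Finite G] : ∃ n ∈ XX V R, cj n (R i) = R j ∧
    (n * m * n * m)⁻¹ * (m * n * m * n) ∈ XX V R ∧
    cj ((n * m * n * m)⁻¹ * (m * n * m * n)) (R i) = R i ∧ cj (n * m * n) (R i) = cj (r * m) (R k) := by
  obtain ⟨l, hl1, hl2⟩ := b.third i j
  obtain ⟨d3, hd3, e3⟩ := a.tr3 b hl1
  obtain ⟨d1, hd1, e1⟩ := a.tr1 b hl2
  have hap := a.apt b
  set n := d3⁻¹ * d1 with hn
  have hn0 : cj n (R i) = R j := by rw [hn, cj_mul, e1, ← e3, cj_inv_cj]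
  have hnm : n ∈ (cj m (WW V (R j)) ⊓ WW V (R i)) ⊔ (WW V (R j) ⊓ cj (r * m) (WW V (R k))) := by
    rw [a.D3 b, a.D1 b]
    exact mul_mem ((le_sup_left : cj m (DD V R) ≤ _) (inv_mem hd3)) ((le_sup_right : cj (r * m) (DD V R) ≤ _) hd1)
  have hle : (cj m (WW V (R j)) ⊓ WW V (R i)) ⊔ (WW V (R j) ⊓ cj (r * m) (WW V (R k))) ≤ XX V R :=
    sup_le (inf_le_right.trans (W_le_X V R i)) (inf_le_left.trans (W_le_X V R j))
  have hle2 : R i ⊔ R j ⊔ cj (r * m) (R k) ⊔ cj m (R j) ≤ XX V R :=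
    sup_le (sup_le (sup_le (hap.p00.trans (W_le_X V R i)) (hap.p10.trans (W_le_X V R i)))
      (hap.p21.trans (W_le_X V R j))) (hap.p30.trans (W_le_X V R i))
  have hsw := hap.swap (a.mWi b) rfl (a.m2W b) (a.mWj b) a.mi rfl a.m2 a.mj hnm hn0
  refine ⟨n, hle hnm, hn0, (sup_le hle hle2) hsw.1, hsw.2, ?_⟩
  -- the opposite point
  have h2V : cj m (cj (r * m) V) ≤ cj m (WW V (R j)) := cj_mono (a.l1 b)
  have h2V' : cj m (cj (r * m) V) ≤ cj (r * m) (WW V (R k)) := by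
    rw [← a.m2W b]
    exact cj_mono (a.l1' b)
  have h3l : cj m (R j) ≤ cj m (cj (r * m) V) := by
    apply cj_mono
    rw [← a.rm b]
    exact cj_mono (b.R_le i)
  have h2l : cj (r * m) (R k) ≤ cj m (cj (r * m) V) := by
    conv_lhs => rw [← a.m2]
    exact cj_mono (cj_mono (b.R_le k))
  have hstab : ∀ {W p l : Subgroup G}, (∀ x ∈ W, ∀ y ∈ W, x * y * x⁻¹ * y⁻¹ ∈ p) → p ≤ l → l ≤ W →
      W ≤ normalizer (l : Set G) := by
    intro W p l h1 h2 h3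
    refine le_normalizer_of' fun x hx y hy => ?_
    have h4 := mul_mem (h2 (h1 x hx y (h3 hy))) hy
    rwa [inv_mul_cancel_right] at h4
  have hxl : cj n (cj m (cj (r * m) V)) = cj m (cj (r * m) V) := by
    rw [cj_eq_self_iff]
    exact sup_le (inf_le_left.trans (hstab hap.w3 h3l h2V)) (inf_le_right.trans (hstab hap.w2 h2l h2V')) hnm
  have hcard : ∀ k l : ι, Nat.card (R k) = Nat.card (R l) := by
    intro k l
    obtain ⟨x, -, e⟩ := b.trans_X_one k l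
    rw [← e, card_cj]
  have h03 : R i ⊓ cj m (R j) = ⊥ := by
    conv_lhs => rw [← a.mi]
    rw [← cj_inf, b.R_inf i j a.ne, cj_bot]
  have hop := hap.opp (x := n) (l := cj m (cj (r * m) V)) (b.cj_WW hn0) hxl h3l h2l h2V h03
    (by rw [card_cj, card_cj, hcard]) (by
      intro v hv hc
      rw [a.D3 b] at hc
      -- conjugate by `m⁻¹`, then by `r⁻¹`
      rw [mem_cj]
      have hv1 : m⁻¹ * v * m ∈ cj (r * m) V := mem_cj.1 hv
      have hv2 : r⁻¹ * (m⁻¹ * v * m) * r ∈ cj m V := by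
        rw [cj_mul] at hv1
        exact mem_cj.1 hv1
      have h1 := a.fix _ hv2 fun d hd => by
        have hd' : r * d * r⁻¹ ∈ DD V R := conj_mem_of_normalizer (b.NV_le_ND (b.X_le_NV a.r_mem)) hd
        have h2 := hc _ (conj_mem_cj (g := m) hd')
        calc d * (r⁻¹ * (m⁻¹ * v * m) * r) = r⁻¹ * m⁻¹ * (m * (r * d * r⁻¹) * m⁻¹ * v) * m * r := by group
          _ = r⁻¹ * m⁻¹ * (v * (m * (r * d * r⁻¹) * m⁻¹)) * m * r := by rw [h2]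
          _ = r⁻¹ * (m⁻¹ * v * m) * r * d := by group
      have h3 := conj_mem_cj (g := r) h1
      rw [a.ri] at h3
      rwa [show r * (r⁻¹ * (m⁻¹ * v * m) * r) * r⁻¹ = m⁻¹ * v * m by group] at h3)
  rw [cj_mul, cj_mul, hn0, hop]

end AptData

end Cfsg.Agent.Omega.Lie.Nodes

end

section


/-!
# NODE LIE, residues `(0, j)`: the element `τ₁` of odd order, trivial on the node

`Diag`: elements acting diagonally on `N_k`.  `NodeDat`: the data of a node of type `x = n k`.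
-/

set_option autoImplicit false
set_option linter.unusedSectionVars false

namespace Cfsg.Agent.Omega.Lie.Nodes

open Subgroup Cfsg.Agent.Omega.BTwo

universe u v w

/-! ### groups -/

section grp

variable {G : Type u} [Group G]

theorem mem_cmod {S B : Subgroup G} {x : G} : x ∈ cmod S B ↔ x ∈ normalizer (S : Set G) ∧
    ∀ b ∈ B, x * b * x⁻¹ * b⁻¹ ∈ S := Iff.rfl

theorem norm_cmod {S B : Subgroup G} {g : G} (hS : g ∈ normalizer (S : Set G)) (hB : g ∈ normalizer (B : Set G)) :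
    g ∈ normalizer (cmod S B : Set G) := by
  have key : ∀ g : G, g ∈ normalizer (S : Set G) → g ∈ normalizer (B : Set G) → ∀ x ∈ cmod S B,
      g * x * g⁻¹ ∈ cmod S B := by
    intro g hS hB x hx
    refine ⟨mul_mem (mul_mem hS hx.1) (inv_mem hS), fun b hb => ?_⟩
    have h1 := conj_mem_of_normalizer hS (hx.2 _ (conj_inv_mem_of_normalizer hB hb))
    have e : g * (x * (g⁻¹ * b * g) * x⁻¹ * (g⁻¹ * b * g)⁻¹) * g⁻¹ =
        g * x * g⁻¹ * b * (g * x * g⁻¹)⁻¹ * b⁻¹ := by group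
    rwa [e] at h1
  rw [mem_normalizer_iff]
  intro x
  refine ⟨key g hS hB x, fun hx => ?_⟩
  have h1 := key g⁻¹ (inv_mem hS) (inv_mem hB) _ hx
  rwa [inv_inv, show g⁻¹ * (g * x * g⁻¹) * g = x by group] at h1

theorem norm_inf {A B : Subgroup G} {g : G} (hA : g ∈ normalizer (A : Set G)) (hB : g ∈ normalizer (B : Set G)) :
    g ∈ normalizer ((A ⊓ B : Subgroup G) : Set G) := by
  rw [← cj_eq_self_iff, cj_inf, cj_eq_self_iff.2 hA, cj_eq_self_iff.2 hB]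

/-- `x` acts on `T / S` as `x₀` -/
structure Qm (S T : Subgroup G) (x x0 : G) : Prop where
  nS : x ∈ normalizer (S : Set G)
  nT : x0 ∈ normalizer (T : Set G)
  eq : ∀ w ∈ T, x * w * x⁻¹ * (x0 * w * x0⁻¹)⁻¹ ∈ S

theorem Qm.mul {S T : Subgroup G} {x x0 z z0 : G} (h : Qm S T x x0) (h' : Qm S T z z0) :
    Qm S T (x * z) (x0 * z0) where
  nS := mul_mem h.nS h'.nS
  nT := mul_mem h.nT h'.nT
  eq := fun w hw => by
    have h1 := conj_mem_of_normalizer h.nS (h'.eq w hw)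
    have h2 := h.eq _ (conj_mem_of_normalizer h'.nT hw)
    have e : x * z * w * (x * z)⁻¹ * (x0 * z0 * w * (x0 * z0)⁻¹)⁻¹ =
        (x * (z * w * z⁻¹ * (z0 * w * z0⁻¹)⁻¹) * x⁻¹) *
          (x * (z0 * w * z0⁻¹) * x⁻¹ * (x0 * (z0 * w * z0⁻¹) * x0⁻¹)⁻¹) := by group
    rw [e]
    exact mul_mem h1 h2

theorem Qm.self {S T : Subgroup G} {x : G} (hS : x ∈ normalizer (S : Set G)) (hT : x ∈ normalizer (T : Set G)) :
    Qm S T x x where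
  nS := hS
  nT := hT
  eq := fun w _ => by rw [mul_inv_cancel]; exact one_mem _

theorem Qm.one {S T : Subgroup G} {x : G} (hS : x ∈ normalizer (S : Set G))
    (h : ∀ w ∈ T, x * w * x⁻¹ * w⁻¹ ∈ S) : Qm S T x 1 where
  nS := hS
  nT := one_mem _
  eq := fun w hw => by
    rw [one_mul, inv_one, mul_one]
    exact h w hw

end grp

variable {G : Type u} [Group G] {ι : Type w} {V : Subgroup G} {R : ι → Subgroup G} {i j : ι} {F : Type v}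
  [Field F] {v : F → F → G} {w1 w2 : F → G} {M B : Type u} [AddCommGroup M] [AddCommGroup B]
  [DistribMulAction (NR R i) M] [DistribMulAction (NR R i) B] [Module F M] {p : G → M} {r : G → B}
  {f : M →+ M →+ B} {φ : M →ₗ[F] M →ₗ[F] F} {s : NR R i → (F ≃+* F)} [CharP F 2]
  [Finite G] [Finite F] {h : FMod V R i j v w1 w2 M B p r f φ s} {t : F → G} {τ : Lie.TorD V R i j v t}
  {N : Type u} [AddCommGroup N] [Module F N] {P1 P2 : G → N} {y : YPair V R i j w1 w2 N P1 P2}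
  {n : N →ₗ[F] M} {sf : N →ₗ[F] N →ₗ[F] M} {q : N → N →ₗ[F] F}

/-! ### diagonal elements -/

/-- `x` acts diagonally on `N_k` -/
structure Diag (v : F → F → G) (p : G → M) (n : N →ₗ[F] M) (sf : N →ₗ[F] N →ₗ[F] M) (k : N) (x : NR R i)
    (c ρ : F) : Prop where
  lin : ∀ (l : F) (m : M), x • (l • m) = l • (x • m)
  e : x • p (v 0 1) = c • p (v 0 1)
  z : ∀ d ∈ ZK sf k, x • d = d
  n : x • n k = ρ • n k

namespace Diag

variable {k : N}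

theorem mul {x x' : NR R i} {c c' ρ ρ' : F} (a : Diag v p n sf k x c ρ) (a' : Diag v p n sf k x' c' ρ') :
    Diag v p n sf k (x * x') (c * c') (ρ * ρ') where
  lin := fun l m => by rw [mul_smul, mul_smul, a'.lin, a.lin]
  e := by rw [mul_smul, a'.e, a.lin, a.e, smul_smul, mul_comm]
  z := fun d hd => by rw [mul_smul, a'.z d hd, a.z d hd]
  n := by rw [mul_smul, a'.n, a.lin, a.n, smul_smul, mul_comm]

theorem inv {x : NR R i} {c ρ : F} (a : Diag v p n sf k x c ρ) (hc : c ≠ 0) (hρ : ρ ≠ 0) :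
    Diag v p n sf k x⁻¹ c⁻¹ ρ⁻¹ := by
  have hl : ∀ (l : F) (m : M), x⁻¹ • (l • m) = l • (x⁻¹ • m) := by
    intro l m
    rw [inv_smul_eq_iff, a.lin, smul_inv_smul]
  refine ⟨hl, ?_, fun d hd => ?_, ?_⟩
  · rw [inv_smul_eq_iff, a.lin, a.e, smul_smul, inv_mul_cancel₀ hc, one_smul]
  · rw [inv_smul_eq_iff, a.z d hd]
  · rw [inv_smul_eq_iff, a.lin, a.n, smul_smul, inv_mul_cancel₀ hρ, one_smul]

theorem act {x : NR R i} (a : Diag v p n sf k x 1 1) {m : M} (hm : m ∈ NK p v n sf k) : x • m = m := by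
  obtain ⟨c, z, hz, ρ, rfl⟩ := mem_NK.1 hm
  rw [smul_add, smul_add, a.lin, a.lin, a.e, a.z z hz, a.n, one_smul, one_smul]

end Diag

theorem mem_SG_iff (g : Eig h τ y n sf q) {k : N} {x : G} :
    x ∈ (gfr_of g).SG k ↔ x ∈ WW V (R i) ∧ p x ∈ NK p v n sf k := Iff.rfl

/-- `x ∈ cmod (R i) (SG k)` iff `x` is trivial on `N_k` -/
theorem mem_cmod_iff (g : Eig h τ y n sf q) {k : N} {x : NR R i} :
    (x : G) ∈ cmod (R i) ((gfr_of g).SG k) ↔ ∀ m ∈ NK p v n sf k, x • m = m := by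
  have hW : ∀ w ∈ WW V (R i), (x : G) * w * (x : G)⁻¹ ∈ WW V (R i) := fun w hw =>
    conj_mem_of_normalizer (normalizer_le_WW V (R i) x.2) hw
  constructor
  · rintro ⟨-, hx⟩ m hm
    obtain ⟨w, hw, rfl⟩ := h.fr.p_surj m
    rw [h.fr.p_act x w hw]
    exact (h.fr.p_eq_iff (hW w hw) hw).2 (hx w ⟨hw, hm⟩)
  · intro hx
    refine ⟨x.2, fun w hw => ?_⟩
    have h1 := hx _ hw.2
    rw [h.fr.p_act x w hw.1] at h1
    exact (h.fr.p_eq_iff (hW w hw.1) hw.1).1 h1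

theorem norm_SG (g : Eig h τ y n sf q) {k : N} {x : NR R i}
    (hx : ∀ m ∈ NK p v n sf k, x • m ∈ NK p v n sf k) : (x : G) ∈ normalizer ((gfr_of g).SG k : Set G) := by
  apply mem_normalizer_of_conj
  intro w hw
  refine ⟨conj_mem_of_normalizer (normalizer_le_WW V (R i) x.2) hw.1, ?_⟩
  show p ((x : G) * w * (x : G)⁻¹) ∈ _
  rw [← h.fr.p_act x w hw.1]
  exact hx _ hw.2

theorem Diag.pres {k : N} {x : NR R i} {c ρ : F} (a : Diag v p n sf k x c ρ) {m : M}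
    (hm : m ∈ NK p v n sf k) : x • m ∈ NK p v n sf k := by
  obtain ⟨c', z, hz, ρ', rfl⟩ := mem_NK.1 hm
  rw [smul_add, smul_add, a.lin, a.lin, a.e, a.z z hz, a.n, smul_smul, smul_smul]
  exact mem_NK.2 ⟨_, z, hz, _, rfl⟩

theorem diag_t (g : Eig h τ y n sf q) (k : N) (a : Fˣ) : Diag v p n sf k (tT τ a) (a : F)⁻¹ a where
  lin := h.T_lin τ a
  e := h.T_e τ a
  z := fun _ hd => ZK_le g hd a
  n := g.n_mem k a

theorem SwapM.diag {k : N} {m : NR R i} {β γ : F} (sw : SwapM h n sf k m β γ) (g : Eig h τ y n sf q)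
    (hk : k ≠ 0) (a : Fˣ) : Diag v p n sf k (m * tT τ a * m⁻¹) a (a : F)⁻¹ where
  lin := fun l x => by
    rw [mul_smul, mul_smul, mul_smul, mul_smul, act_smul h sw.cen', h.T_lin τ, act_smul h sw.cen]
  e := sw.conj_e g a
  z := fun _ hd => sw.conj_Z g hk a hd
  n := sw.conj_n g a

/-! ### the node data -/

/-- the data of a node of type `x = n k`; `O` is a normal 2-subgroup of `P` with `[P, c] ≤ O` for `[P, c] ≤ C(N_k)` -/
structure NodeDat (g : Eig h τ y n sf q) (k : N) (P O : Subgroup G) : Prop where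
  k0 : k ≠ 0
  PR : P ≤ centralizer (R i : Set G)
  PN : ∀ x : NR R i, (x : G) ∈ P → ∀ m ∈ NK p v n sf k, x • m ∈ NK p v n sf k
  PT : ∀ a : F, a ≠ 0 → t a ∈ normalizer (P : Set G)
  OP : O ≤ P
  OK : O ≤ cmod (R i) ((gfr_of g).SG k)
  PO : P ≤ normalizer (O : Set G)
  OT : ∀ a : F, a ≠ 0 → t a ∈ normalizer (O : Set G)
  two : IsPGroup 2 O
  perf : P ≤ ⁅P, P⁆ ⊔ O
  lift : ∀ c : G, c ∈ normalizer (P : Set G) → c ∈ normalizer (O : Set G) →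
    (∀ x ∈ P, c * x * c⁻¹ * x⁻¹ ∈ cmod (R i) ((gfr_of g).SG k)) → ∀ x ∈ P, c * x * c⁻¹ * x⁻¹ ∈ O
  XS : XX V R ≤ normalizer (((gfr_of g).SG k ⊔ cj (nn w1 w2 1) ((gfr_of g).SG k) : Subgroup G) : Set G)
  PS : P ≤ normalizer (((gfr_of g).SG k ⊔ cj (nn w1 w2 1) ((gfr_of g).SG k) : Subgroup G) : Set G)
  com : ∀ x ∈ (gfr_of g).SG k ⊔ cj (nn w1 w2 1) ((gfr_of g).SG k),
    ∀ z ∈ (gfr_of g).SG k ⊔ cj (nn w1 w2 1) ((gfr_of g).SG k), x * z = z * x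
  low : ∀ x ∈ P, ∀ z ∈ cj (nn w1 w2 1) ((gfr_of g).SG k), x * z * x⁻¹ * z⁻¹ ∈ WW V (R i)

section sg

variable (g : Eig h τ y n sf q) (k : N)

/-- `D ⊓ SG k = DZ k` -/
theorem DD_inf_SG {x : G} (hx : x ∈ DD V R) (hS : x ∈ (gfr_of g).SG k) (hk : k ≠ 0) : x ∈ (gfr_of g).DZ k := by
  refine ⟨hS.1, ?_⟩
  obtain ⟨c, z, hz, ρ, e⟩ := mem_NK.1 hS.2
  have h1 : p x ∈ h.fr.sb (DD V R) := h.fr.p_mem hS.1 hx
  obtain ⟨γ, d, hd, e'⟩ := (g.mem_D _).1 h1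
  have h2 : (c - γ) • p (v 0 1) + (z - d) + n (ρ • k) = 0 := by
    rw [sub_smul, map_smul]
    have : c • p (v 0 1) - γ • p (v 0 1) + (z - d) + ρ • n k =
      (c • p (v 0 1) + z + ρ • n k) - (γ • p (v 0 1) + d) := by abel
    rw [this, ← e, ← e', sub_self]
  obtain ⟨-, -, h3⟩ := g.indep _ _ _ ((h.M0 τ).sub_mem (ZK_le g hz) hd) h2
  have h4 : ρ = 0 := (smul_eq_zero.1 h3).resolve_right hk
  show p x ∈ eZ F (p (v 0 1)) (fun a b => sf a b) k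
  rw [e, h4, zero_smul, add_zero]
  exact mem_eZ.2 ⟨c, z, hz, rfl⟩

theorem X_DZ : XX V R ≤ normalizer ((gfr_of g).DZ k : Set G) := (gfr_of g).X_norm_DZ h.bt h.co.mem_V y k

/-- `cj n (SG k) ≤ W j` -/
theorem cj_SG_le {x : G} (hx : cj x (R i) = R j) : cj x ((gfr_of g).SG k) ≤ WW V (R j) := by
  rw [← h.bt.cj_WW hx]
  exact cj_mono ((gfr_of g).SG_le_W k)

/-- `Σ ⊓ W i ≤ SG k` -/
theorem sigma_inf (hk : k ≠ 0) {x : G} (hx : x ∈ (gfr_of g).SG k ⊔ cj (nn w1 w2 1) ((gfr_of g).SG k))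
    (hxW : x ∈ WW V (R i)) (hc : ∀ x ∈ (gfr_of g).SG k, ∀ z ∈ cj (nn w1 w2 1) ((gfr_of g).SG k), x * z = z * x) :
    x ∈ (gfr_of g).SG k := by
  have hn : cj (nn w1 w2 1) ((gfr_of g).SG k) ≤ normalizer ((gfr_of g).SG k : Set G) := by
    refine le_normalizer_of' fun a ha b hb => ?_
    rw [← hc b hb a ha, mul_inv_cancel_right]
    exact hb
  have h1 : x ∈ (((gfr_of g).SG k ⊔ cj (nn w1 w2 1) ((gfr_of g).SG k) : Subgroup G) : Set G) := hx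
  rw [coe_mul_of_right_le_normalizer_left _ _ hn] at h1
  obtain ⟨a, ha, c, hc', e⟩ := h1
  have e' : a * c = x := e
  have hcD : c ∈ DD V R := by
    rw [h.bt.D_eq' h.co.ne]
    refine ⟨?_, cj_SG_le g k (h.co.nn_R1 h.bt one_ne_zero) hc'⟩
    have : c = a⁻¹ * x := by rw [← e']; group
    rw [this]
    exact (WW V (R i)).mul_mem ((WW V (R i)).inv_mem ha.1) hxW
  have h2 : c ∈ (gfr_of g).DZ k := by
    have h3 := mem_cj.1 hc'
    have hX := h.co.nn_mem_X h.bt 1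
    have h4 : (nn w1 w2 1)⁻¹ * c * nn w1 w2 1 ∈ DD V R :=
      conj_inv_mem_of_normalizer (h.bt.NV_le_ND (h.bt.X_le_NV hX)) hcD
    have h5 := conj_mem_of_normalizer (X_DZ g k hX) (DD_inf_SG g k h4 h3 hk)
    rwa [show nn w1 w2 1 * ((nn w1 w2 1)⁻¹ * c * nn w1 w2 1) * (nn w1 w2 1)⁻¹ = c by group] at h5
  rw [← e']
  exact mul_mem ha ((gfr_of g).DZ_le_SG k h2)

end sg

namespace NodeDat

variable {g : Eig h τ y n sf q} {k : N} {P O : Subgroup G} (d : NodeDat g k P O)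
include d

theorem PNR : P ≤ normalizer (R i : Set G) := d.PR.trans (centralizer_le_normalizer _)

theorem PSG : P ≤ normalizer ((gfr_of g).SG k : Set G) := fun x hx =>
  norm_SG g (x := ⟨x, d.PNR hx⟩) (d.PN ⟨x, d.PNR hx⟩ hx)

/-- `[X, P]` is trivial on `N_k` if `X` is -/
theorem diag_comm {X : NR R i} (dX : Diag v p n sf k X 1 1) {u : G} (hu : u ∈ P) :
    (X : G) * u * (X : G)⁻¹ * u⁻¹ ∈ cmod (R i) ((gfr_of g).SG k) := by
  have h1 : ((X * ⟨u, d.PNR hu⟩ * X⁻¹ * (⟨u, d.PNR hu⟩ : NR R i)⁻¹ : NR R i) : G) ∈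
      cmod (R i) ((gfr_of g).SG k) := by
    refine (mem_cmod_iff g (k := k)).2 fun m' hm' => ?_
    have h2 : (⟨u, d.PNR hu⟩ : NR R i)⁻¹ • m' ∈ NK p v n sf k := d.PN _ (inv_mem hu) m' hm'
    have h3 : X⁻¹ • ((⟨u, d.PNR hu⟩ : NR R i)⁻¹ • m') = (⟨u, d.PNR hu⟩ : NR R i)⁻¹ • m' := by
      rw [inv_smul_eq_iff]
      exact (dX.act h2).symm
    rw [mul_smul, mul_smul, mul_smul, h3, smul_inv_smul]
    exact dX.act hm'
  exact h1

/-- `P` is trivial on `Σ / SG k` -/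
theorem triv {x : G} (hx : x ∈ P) {z : G}
    (hz : z ∈ (gfr_of g).SG k ⊔ cj (nn w1 w2 1) ((gfr_of g).SG k)) : x * z * x⁻¹ * z⁻¹ ∈ (gfr_of g).SG k := by
  set S := (gfr_of g).SG k with hS
  set T := S ⊔ cj (nn w1 w2 1) S with hT
  have hST : S ≤ T := le_sup_left
  have hx1 : x ∈ normalizer (S : Set G) := d.PSG hx
  have hx2 : x ∈ normalizer (T : Set G) := d.PS hx
  -- elements with the property
  let H : Subgroup G :=
    { carrier := {z | z ∈ T ∧ x * z * x⁻¹ * z⁻¹ ∈ S}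
      one_mem' := ⟨one_mem _, by
        rw [mul_one, mul_inv_cancel, one_mul, inv_one]; exact one_mem _⟩
      mul_mem' := by
        rintro a b ⟨ha, ha'⟩ ⟨hb, hb'⟩
        refine ⟨mul_mem ha hb, ?_⟩
        have hxa := conj_mem_of_normalizer hx2 ha
        have e : x * (a * b) * x⁻¹ * (a * b)⁻¹ = (x * a * x⁻¹) * (x * b * x⁻¹ * b⁻¹) * a⁻¹ := by group
        rw [e, d.com _ hxa _ (hST hb'), mul_assoc]
        exact mul_mem hb' ha'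
      inv_mem' := by
        rintro a ⟨ha, ha'⟩
        refine ⟨inv_mem ha, ?_⟩
        have hxa := conj_mem_of_normalizer hx2 ha
        have e : x * a⁻¹ * x⁻¹ * a⁻¹⁻¹ = (x * a * x⁻¹)⁻¹ * a := by group
        have e2 : x * a * x⁻¹ * a⁻¹ = a⁻¹ * (x * a * x⁻¹) := d.com _ hxa _ (inv_mem ha)
        rw [e]
        have h1 := inv_mem ha'
        rw [e2, mul_inv_rev, inv_inv] at h1
        exact h1 }
  have hH : T ≤ H := by
    refine sup_le (fun a ha => ⟨hST ha, mul_mem (conj_mem_of_normalizer hx1 ha) (inv_mem ha)⟩) fun a ha => ?_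
    have haT : a ∈ T := (le_sup_right : cj (nn w1 w2 1) S ≤ T) ha
    refine ⟨haT, ?_⟩
    exact sigma_inf g k d.k0 (mul_mem (conj_mem_of_normalizer hx2 haT) (inv_mem haT)) (d.low x hx a ha)
      fun a ha b hb => d.com a (hST ha) b ((le_sup_right : cj (nn w1 w2 1) S ≤ T) hb)
  exact (hH hz).2

end NodeDat

end Cfsg.Agent.Omega.Lie.Nodes

end

section


/-!
# NODE LIE, residues `(0, j)`: existence of `τ₁`

`τ₁ = z · z^{m₀} κ`: odd order, commutes with the torus element `z = t a`, trivial on `N_k`, scalar `a²` on `R i`,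
trivial on `P / K`, acts as `z²` on `Σ / SG k`.
-/

set_option autoImplicit false
set_option linter.unusedSectionVars false

namespace Cfsg.Agent.Omega.Lie.Nodes

open Subgroup Cfsg.Agent.Omega.BTwo

universe u v w

variable {G : Type u} [Group G] {ι : Type w} {V : Subgroup G} {R : ι → Subgroup G} {i j : ι} {F : Type v}
  [Field F] {v : F → F → G} {w1 w2 : F → G} {M B : Type u} [AddCommGroup M] [AddCommGroup B]
  [DistribMulAction (NR R i) M] [DistribMulAction (NR R i) B] [Module F M] {p : G → M} {r : G → B}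
  {f : M →+ M →+ B} {φ : M →ₗ[F] M →ₗ[F] F} {s : NR R i → (F ≃+* F)} [CharP F 2]
  [Finite G] [Finite F] {h : FMod V R i j v w1 w2 M B p r f φ s} {t : F → G} {τ : Lie.TorD V R i j v t}
  {N : Type u} [AddCommGroup N] [Module F N] {P1 P2 : G → N} {y : YPair V R i j w1 w2 N P1 P2}
  {n : N →ₗ[F] M} {sf : N →ₗ[F] N →ₗ[F] M} {q : N → N →ₗ[F] F}

/-- `Σ` -/
noncomputable abbrev Sig (g : Eig h τ y n sf q) (k : N) : Subgroup G :=
  (gfr_of g).SG k ⊔ cj (nn w1 w2 1) ((gfr_of g).SG k)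

/-- `z` of odd order commutes with `w` modulo `O` if `z²` does -/
theorem comm_mod_of_sq {O : Subgroup G} {z w : G} (hz : z ∈ normalizer (O : Set G)) (ho : Odd (orderOf z))
    (hc : (z * z) * w * (z * z)⁻¹ * w⁻¹ ∈ O) : z * w * z⁻¹ * w⁻¹ ∈ O := by
  let H : Subgroup G :=
    { carrier := {a | a ∈ normalizer (O : Set G) ∧ a * w * a⁻¹ * w⁻¹ ∈ O}
      one_mem' := ⟨one_mem _, by rw [one_mul, inv_one, mul_one, mul_inv_cancel]; exact one_mem _⟩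
      mul_mem' := by
        rintro a a' ⟨h1, h2⟩ ⟨h3, h4⟩
        refine ⟨mul_mem h1 h3, ?_⟩
        have e : a * a' * w * (a * a')⁻¹ * w⁻¹ = (a * (a' * w * a'⁻¹ * w⁻¹) * a⁻¹) * (a * w * a⁻¹ * w⁻¹) := by group
        rw [e]
        exact mul_mem (conj_mem_of_normalizer h1 h4) h2
      inv_mem' := by
        rintro a ⟨h1, h2⟩
        refine ⟨inv_mem h1, ?_⟩
        have e : a⁻¹ * w * a⁻¹⁻¹ * w⁻¹ = a⁻¹ * (a * w * a⁻¹ * w⁻¹)⁻¹ * a := by group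
        rw [e]
        exact conj_inv_mem_of_normalizer h1 (inv_mem h2) }
  have h1 : z * z ∈ H := ⟨mul_mem hz hz, hc⟩
  obtain ⟨m, hm⟩ := ho
  have h2 : (z * z) ^ (m + 1) = z := by
    rw [← sq, ← pow_mul, show 2 * (m + 1) = (2 * m + 1) + 1 by ring, ← hm, pow_succ, pow_orderOf_eq_one, one_mul]
  have h3 : z ∈ H := by
    have h4 := pow_mem h1 (m + 1)
    rwa [h2] at h4
  exact h3.2

/-- the properties of `τ₁` -/
structure TauDat (g : Eig h τ y n sf q) (k : N) (P O : Subgroup G) (a : Fˣ) (x : G) : Prop where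
  odd : Odd (orderOf x)
  comm : x * t a = t a * x
  Ri : ∀ β, x * v β 0 * x⁻¹ = v (a * a * β) 0
  diag : ∃ X : NR R i, (X : G) = x ∧ Diag v p n sf k X 1 1
  nP : x ∈ normalizer (P : Set G)
  nO : x ∈ normalizer (O : Set G)
  nS : x ∈ normalizer (Sig g k : Set G)
  qm : Qm ((gfr_of g).SG k) (Sig g k) x (t a * t a)

theorem cen_v {x : G} (h : FMod V R i j v w1 w2 M B p r f φ s) (hx : x ∈ centralizer (R i : Set G)) (β : F) :
    x * v β 0 * x⁻¹ = v β 0 := by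
  rw [← mem_centralizer_iff.1 hx _ ((h.co.mem_R1 _).2 ⟨β, rfl⟩), mul_inv_cancel_right]

theorem odd_conj {m z : G} (hz : Odd (orderOf z)) : Odd (orderOf (m * z * m⁻¹)) := by
  have e : m * z * m⁻¹ = MulAut.conj m z := by rw [MulAut.conj_apply]
  rw [e, (MulAut.conj m).orderOf_eq]
  exact hz

namespace NodeDat

variable {g : Eig h τ y n sf q} {k : N} {P O : Subgroup G} (d : NodeDat g k P O)
include d

theorem exists_tau {m0 : NR R i} {β γ : F} (sw : SwapM h n sf k m0 β γ) (hm0 : (m0 : G) ∈ P) (a : Fˣ) :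
    ∃ x, TauDat g k P O a x := by
  set S := (gfr_of g).SG k with hS
  -- `z`
  have hzR : t a ∈ normalizer (R i : Set G) := τ.normR a.ne_zero
  have hzS : t a ∈ normalizer (S : Set G) := norm_SG g (x := tT τ a) fun m hm => (diag_t g k a).pres hm
  have hzP : t a ∈ normalizer (P : Set G) := d.PT a a.ne_zero
  have hzO : t a ∈ normalizer (O : Set G) := d.OT a a.ne_zero
  have hzT : t a ∈ normalizer (Sig g k : Set G) := d.XS (τ.memX a a.ne_zero)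
  -- `ζ`
  have hmO : (m0 : G) ∈ normalizer (O : Set G) := d.PO hm0
  have hmP : (m0 : G) ∈ normalizer (P : Set G) := le_normalizer hm0
  set ζ := (m0 : G) * t a * (m0 : G)⁻¹ with hζ
  have hζO : ζ ∈ normalizer (O : Set G) := mul_mem (mul_mem hmO hzO) (inv_mem hmO)
  have hζP : ζ ∈ normalizer (P : Set G) := mul_mem (mul_mem hmP hzP) (inv_mem hmP)
  have hζe : ((m0 * tT τ a * m0⁻¹ : NR R i) : G) = ζ := rfl
  have dz := diag_t g k a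
  have dζ := sw.diag g d.k0 a
  -- `c = z² w` is trivial on `N_k`, `w = [m₀, z]`
  set w := (m0 : G) * t a * (m0 : G)⁻¹ * (t a)⁻¹ with hw
  have hwP : w ∈ P := by
    have h1 := mul_mem hm0 (conj_mem_of_normalizer hzP (inv_mem hm0))
    rwa [show (m0 : G) * (t a * (m0 : G)⁻¹ * (t a)⁻¹) = w by rw [hw]; group] at h1
  have hwO : w ∈ normalizer (O : Set G) := d.PO hwP
  have dc : Diag v p n sf k (tT τ a * (tT τ a * (m0 * tT τ a * m0⁻¹)) * (tT τ a)⁻¹) 1 1 := by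
    have h4 := (dz.mul (dz.mul dζ)).mul (dz.inv (inv_ne_zero a.ne_zero) a.ne_zero)
    rwa [inv_mul_cancel₀ a.ne_zero, mul_inv_cancel₀ a.ne_zero, mul_one, mul_one, inv_inv,
      inv_mul_cancel₀ a.ne_zero, mul_inv_cancel₀ a.ne_zero] at h4
  have hcw : ∀ x ∈ P, (t a * t a * w) * x * (t a * t a * w)⁻¹ * x⁻¹ ∈ O := by
    refine d.lift _ (mul_mem (mul_mem hzP hzP) (le_normalizer hwP)) (mul_mem (mul_mem hzO hzO) hwO) fun u hu => ?_
    have h4 := d.diag_comm dc hu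
    have e : ((tT τ a * (tT τ a * (m0 * tT τ a * m0⁻¹)) * (tT τ a)⁻¹ : NR R i) : G) = t a * t a * w := by
      show t a * (t a * ((m0 : G) * t a * (m0 : G)⁻¹)) * (t a)⁻¹ = _
      rw [hw]; group
    rwa [e] at h4
  have hcsq : (t a * t a) * w * (t a * t a)⁻¹ * w⁻¹ ∈ O := by
    have h4 := hcw w hwP
    rwa [show t a * t a * w * w * (t a * t a * w)⁻¹ * w⁻¹ = (t a * t a) * w * (t a * t a)⁻¹ * w⁻¹ by group] at h4
  have hc : t a * ζ * (t a)⁻¹ * ζ⁻¹ ∈ O := by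
    have h4 := comm_mod_of_sq hzO (τ.odd a a.ne_zero) hcsq
    rwa [show t a * w * (t a)⁻¹ * w⁻¹ = t a * ζ * (t a)⁻¹ * ζ⁻¹ by rw [hw, hζ]; group] at h4
  obtain ⟨x', h1, h2, h3⟩ := Apt.exists_tau d.two hzO hζO (τ.odd a a.ne_zero) (odd_conj (τ.odd a a.ne_zero)) hc
  set κ := ζ⁻¹ * x' with hκ
  have hx' : x' = ζ * κ := by rw [hκ]; group
  have hκP : κ ∈ P := d.OP h1
  have hκR : κ ∈ normalizer (R i : Set G) := d.PNR hκP
  have hκS : κ ∈ normalizer (S : Set G) := d.PSG hκP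
  -- the diagonal action
  have dκ : Diag v p n sf k (⟨κ, hκR⟩ : NR R i) 1 1 := by
    have h4 := (mem_cmod_iff g (k := k) (x := ⟨κ, hκR⟩)).1 (d.OK h1)
    refine ⟨fun l m => act_smul h (g := ⟨κ, hκR⟩) (d.PR hκP) l m, ?_, fun z hz => h4 z (Zg_le_Ng hz), ?_⟩
    · rw [one_smul]; exact h4 _ e_mem_Ng
    · rw [one_smul]; exact h4 _ n_mem_Ng
  refine ⟨t a * x', Apt.odd_mul h2.symm (τ.odd a a.ne_zero) h3, by rw [mul_assoc, h2], fun β => ?_,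
    ⟨tT τ a * ((m0 * tT τ a * m0⁻¹) * ⟨κ, hκR⟩), ?_, ?_⟩, ?_, ?_, ?_, ?_⟩
  · -- on `R i`
    have hT : ∀ β, t a * v β 0 * (t a)⁻¹ = v (a * β) 0 := fun β => h.T_aux τ a β
    have e1 : t a * x' * v β 0 * (t a * x')⁻¹ =
        t a * (m0 * (t a * ((m0 : G)⁻¹ * (κ * v β 0 * κ⁻¹) * (m0 : G)⁻¹⁻¹) * (t a)⁻¹) * (m0 : G)⁻¹) * (t a)⁻¹ := by
      rw [hx', hζ]; group
    rw [e1, cen_v h (d.PR hκP), cen_v h (inv_mem sw.cen), hT, cen_v h sw.cen, hT, mul_assoc]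
  · rw [hx']
    rfl
  · have h4 := dz.mul (dζ.mul dκ)
    rw [mul_one, mul_one, inv_mul_cancel₀ a.ne_zero, mul_inv_cancel₀ a.ne_zero] at h4
    exact h4
  · rw [hx']
    exact mul_mem hzP (mul_mem hζP (le_normalizer hκP))
  · rw [hx']
    exact mul_mem hzO (mul_mem hζO (le_normalizer h1))
  · rw [hx', hζ]
    exact mul_mem hzT (mul_mem (mul_mem (mul_mem (d.PS hm0) hzT) (inv_mem (d.PS hm0))) (d.PS hκP))
  · have q1 : ∀ x ∈ P, Qm S (Sig g k) x 1 := fun x hx => Qm.one (d.PSG hx) fun w hw => d.triv hx hw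
    have qz : Qm S (Sig g k) (t a) (t a) := Qm.self hzS hzT
    have h4 := qz.mul ((((q1 _ hm0).mul qz).mul (q1 _ (inv_mem hm0))).mul (q1 _ hκP))
    rw [one_mul, mul_one, mul_one] at h4
    rw [hx', hζ]
    exact h4

end NodeDat

end Cfsg.Agent.Omega.Lie.Nodes

end

section


/-!
# II.0h1, split, `q ≥ 4`: `z z^{m₀}` is trivial on `W_N / R_i Ψ`, abstract part

`A` elementary abelian, `S, V, V', D ≤ A`, `A = V' D`, `z` acts on `V`, `V'` mod `S` without fixed points and trivially on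
`D / V`; `m₀` interchanges `V` and `V'`.  Then `m₀ z m₀⁻¹` is trivial on `C_A(z)` mod `S`.
-/

set_option autoImplicit false
set_option linter.unusedSectionVars false

namespace Cfsg.Agent.Omega.HOneQ.KerO

open Subgroup Cfsg.Agent.Omega.BTwo

variable {G : Type*} [Group G]

/-- `[g, ·]` is a homomorphism on an abelian group normalised by `g` -/
theorem cm_mul {A : Subgroup G} (hA : ∀ x ∈ A, ∀ y ∈ A, x * y = y * x) {g : G} (hg : ∀ x ∈ A, g * x * g⁻¹ ∈ A)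
    {x y : G} (hx : x ∈ A) (hy : y ∈ A) :
    g * (x * y) * g⁻¹ * (x * y)⁻¹ = (g * x * g⁻¹ * x⁻¹) * (g * y * g⁻¹ * y⁻¹) := by
  have h1 := hA x hx (g * y * g⁻¹ * y⁻¹) (mul_mem (hg y hy) (inv_mem hy))
  calc g * (x * y) * g⁻¹ * (x * y)⁻¹ = (g * x * g⁻¹ * x⁻¹) * (x * (g * y * g⁻¹ * y⁻¹)) * x⁻¹ := by group
    _ = _ := by rw [h1]; group

theorem cm_inv {A : Subgroup G} (hA : ∀ x ∈ A, ∀ y ∈ A, x * y = y * x) {g : G} (hg : ∀ x ∈ A, g * x * g⁻¹ ∈ A)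
    {x : G} (hx : x ∈ A) : g * x⁻¹ * g⁻¹ * x⁻¹⁻¹ = (g * x * g⁻¹ * x⁻¹)⁻¹ := by
  have h1 := cm_mul hA hg (inv_mem hx) hx
  have e : g * (x⁻¹ * x) * g⁻¹ * (x⁻¹ * x)⁻¹ = 1 := by group
  rw [e] at h1
  exact eq_inv_of_mul_eq_one_left h1.symm

/-- `{x ∈ A | [g, x] ∈ S}` -/
def fx (A S : Subgroup G) (hA : ∀ x ∈ A, ∀ y ∈ A, x * y = y * x) (g : G) (hg : ∀ x ∈ A, g * x * g⁻¹ ∈ A) :
    Subgroup G where
  carrier := {x | x ∈ A ∧ g * x * g⁻¹ * x⁻¹ ∈ S}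
  one_mem' := ⟨one_mem _, by rw [show g * 1 * g⁻¹ * 1⁻¹ = 1 by group]; exact one_mem _⟩
  mul_mem' := by
    rintro x y ⟨hx, h1⟩ ⟨hy, h2⟩
    refine ⟨mul_mem hx hy, ?_⟩
    rw [cm_mul hA hg hx hy]
    exact mul_mem h1 h2
  inv_mem' := by
    rintro x ⟨hx, h1⟩
    refine ⟨inv_mem hx, ?_⟩
    rw [cm_inv hA hg hx]
    exact inv_mem h1

theorem mem_fx {A S : Subgroup G} {hA : ∀ x ∈ A, ∀ y ∈ A, x * y = y * x} {g : G} {hg : ∀ x ∈ A, g * x * g⁻¹ ∈ A}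
    {x : G} : x ∈ fx A S hA g hg ↔ x ∈ A ∧ g * x * g⁻¹ * x⁻¹ ∈ S := Iff.rfl

/-- the data -/
structure Wt (A S V V' D : Subgroup G) (z m0 : G) : Prop where
  comm : ∀ x ∈ A, ∀ y ∈ A, x * y = y * x
  SD : S ≤ D
  VD : V ≤ D
  DA : D ≤ A
  V'A : V' ≤ A
  fact : ∀ x ∈ A, ∃ l ∈ V', ∃ d ∈ D, x = l * d
  cap : ∀ x ∈ V', x ∈ D → x ∈ S
  zA : ∀ x ∈ A, z * x * z⁻¹ ∈ A
  zS : ∀ x ∈ S, z * x * z⁻¹ ∈ S
  zV' : ∀ x ∈ V', z * x * z⁻¹ ∈ V'
  zD : ∀ d ∈ D, z * d * z⁻¹ * d⁻¹ ∈ V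
  z_inj : ∀ x ∈ V, z * x * z⁻¹ * x⁻¹ ∈ S → x ∈ S
  z_inj' : ∀ x ∈ V', z * x * z⁻¹ * x⁻¹ ∈ S → x ∈ S
  z_sur : ∀ x ∈ V, ∃ y ∈ V, z * y * z⁻¹ * y⁻¹ * x ∈ S
  z_sur' : ∀ x ∈ V', ∃ y ∈ V', z * y * z⁻¹ * y⁻¹ * x ∈ S
  mA : m0 ∈ normalizer (A : Set G)
  mS : m0 ∈ normalizer (S : Set G)
  mV : ∀ x, x ∈ V ↔ m0 * x * m0⁻¹ ∈ V'
  mV' : ∀ x, x ∈ V' ↔ m0 * x * m0⁻¹ ∈ V
  /-- `m₀ z m₀⁻¹` normalises `D` -/
  mD : ∀ d ∈ D, (m0 * z * m0⁻¹) * d * (m0 * z * m0⁻¹)⁻¹ ∈ D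
  /-- `m₀⁻¹ z m₀` normalises `D` -/
  mD' : ∀ d ∈ D, (m0⁻¹ * z * m0) * d * (m0⁻¹ * z * m0)⁻¹ ∈ D

namespace Wt

variable {A S V V' D : Subgroup G} {z m0 : G} (w : Wt A S V V' D z m0)
include w

theorem SA : S ≤ A := w.SD.trans w.DA

theorem VA : V ≤ A := w.VD.trans w.DA

theorem zetaA : ∀ x ∈ A, (m0 * z * m0⁻¹) * x * (m0 * z * m0⁻¹)⁻¹ ∈ A := by
  intro x hx
  have h1 := w.zA _ (conj_inv_mem_of_normalizer w.mA hx)
  have h2 := BTwo.conj_mem_of_normalizer w.mA h1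
  have e : (m0 * z * m0⁻¹) * x * (m0 * z * m0⁻¹)⁻¹ = m0 * (z * (m0⁻¹ * x * m0) * z⁻¹) * m0⁻¹ := by group
  rw [e]; exact h2

theorem zeta_eq (x : G) : (m0 * z * m0⁻¹) * x * (m0 * z * m0⁻¹)⁻¹ * x⁻¹ =
    m0 * (z * (m0⁻¹ * x * m0) * z⁻¹ * (m0⁻¹ * x * m0)⁻¹) * m0⁻¹ := by
  have _ := w
  group

/-- `[z, A] ≤ V' V` -/
theorem z_all {x : G} (hx : x ∈ A) : ∃ l ∈ V', ∃ v ∈ V, z * x * z⁻¹ * x⁻¹ = l * v := by
  obtain ⟨l, hl, d, hd, rfl⟩ := w.fact x hx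
  rw [cm_mul w.comm w.zA (w.V'A hl) (w.DA hd)]
  exact ⟨_, mul_mem (w.zV' l hl) (inv_mem hl), _, w.zD d hd, rfl⟩

/-- (1) `C_z ≤ D` -/
theorem Cz_le {x : G} (hx : x ∈ A) (h : z * x * z⁻¹ * x⁻¹ ∈ S) : x ∈ D := by
  obtain ⟨l, hl, d, hd, rfl⟩ := w.fact x hx
  rw [cm_mul w.comm w.zA (w.V'A hl) (w.DA hd)] at h
  have h1 : z * l * z⁻¹ * l⁻¹ ∈ S := by
    refine w.cap _ (mul_mem (w.zV' l hl) (inv_mem hl)) ?_
    have h2 := mul_mem (w.SD h) (inv_mem (w.VD (w.zD d hd)))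
    rwa [mul_inv_cancel_right] at h2
  exact mul_mem (w.SD (w.z_inj' l hl h1)) hd

/-- (1') `C_ζ ≤ D^{m₀}` -/
theorem Cζ_le {x : G} (hx : x ∈ A) (h : (m0 * z * m0⁻¹) * x * (m0 * z * m0⁻¹)⁻¹ * x⁻¹ ∈ S) :
    m0⁻¹ * x * m0 ∈ D := by
  rw [w.zeta_eq] at h
  have h1 := conj_inv_mem_of_normalizer w.mS h
  rw [show m0⁻¹ * (m0 * (z * (m0⁻¹ * x * m0) * z⁻¹ * (m0⁻¹ * x * m0)⁻¹) * m0⁻¹) * m0 =
    z * (m0⁻¹ * x * m0) * z⁻¹ * (m0⁻¹ * x * m0)⁻¹ by group] at h1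
  exact w.Cz_le (conj_inv_mem_of_normalizer w.mA hx) h1

/-- `m₀⁻¹ V m₀ = V'` -/
theorem mV_inv {x : G} (hx : x ∈ V) : m0⁻¹ * x * m0 ∈ V' := by
  rw [w.mV' (m0⁻¹ * x * m0), show m0 * (m0⁻¹ * x * m0) * m0⁻¹ = x by group]
  exact hx

theorem mV'_inv {x : G} (hx : x ∈ V') : m0⁻¹ * x * m0 ∈ V := by
  rw [w.mV (m0⁻¹ * x * m0), show m0 * (m0⁻¹ * x * m0) * m0⁻¹ = x by group]
  exact hx

/-- (2) `[ζ, D] ≤ V S` -/
theorem zeta_D {d : G} (hd : d ∈ D) :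
    ∃ v ∈ V, v⁻¹ * ((m0 * z * m0⁻¹) * d * (m0 * z * m0⁻¹)⁻¹ * d⁻¹) ∈ S := by
  obtain ⟨l, hl, v, hv, e⟩ := w.z_all (conj_inv_mem_of_normalizer w.mA (w.DA hd))
  have e1 : (m0 * z * m0⁻¹) * d * (m0 * z * m0⁻¹)⁻¹ * d⁻¹ = (m0 * l * m0⁻¹) * (m0 * v * m0⁻¹) := by
    rw [w.zeta_eq, e]; group
  have h1 : m0 * l * m0⁻¹ ∈ V := (w.mV' l).1 hl
  have h2 : m0 * v * m0⁻¹ ∈ V' := (w.mV v).1 hv
  refine ⟨_, h1, ?_⟩
  have h3 : (m0 * l * m0⁻¹)⁻¹ * ((m0 * z * m0⁻¹) * d * (m0 * z * m0⁻¹)⁻¹ * d⁻¹) = m0 * v * m0⁻¹ := by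
    rw [e1, inv_mul_cancel_left]
  have h4 : m0 * v * m0⁻¹ ∈ D := by
    rw [← h3]
    exact mul_mem (inv_mem (w.VD h1)) (mul_mem (w.mD d hd) (inv_mem hd))
  rw [h3]
  exact w.cap _ h2 h4

/-- (2') `[z, D^{m₀}] ≤ V' S` -/
theorem z_D' {x : G} (hx : x ∈ A) (hd : m0⁻¹ * x * m0 ∈ D) : ∃ l ∈ V', l⁻¹ * (z * x * z⁻¹ * x⁻¹) ∈ S := by
  obtain ⟨l, hl, v, hv, e⟩ := w.z_all hx
  refine ⟨l, hl, ?_⟩
  rw [e, inv_mul_cancel_left]
  have h1 : m0⁻¹ * v * m0 ∈ V' := w.mV_inv hv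
  have h2 : m0⁻¹ * v * m0 ∈ D := by
    have e1 : v = l⁻¹ * (z * x * z⁻¹ * x⁻¹) := by rw [e, inv_mul_cancel_left]
    have e2 : m0⁻¹ * v * m0 = (m0⁻¹ * l * m0)⁻¹ *
        (((m0⁻¹ * z * m0) * (m0⁻¹ * x * m0) * (m0⁻¹ * z * m0)⁻¹) * (m0⁻¹ * x * m0)⁻¹) := by
      rw [e1]; group
    rw [e2]
    exact mul_mem (inv_mem (w.VD (w.mV'_inv hl))) (mul_mem (w.mD' _ hd) (inv_mem hd))
  have h3 := BTwo.conj_mem_of_normalizer w.mS (w.cap _ h1 h2)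
  rwa [show m0 * (m0⁻¹ * v * m0) * m0⁻¹ = v by group] at h3

/-- `ζ` is surjective on `V / S` -/
theorem zeta_sur {x : G} (hx : x ∈ V) : ∃ y ∈ V, (m0 * z * m0⁻¹) * y * (m0 * z * m0⁻¹)⁻¹ * y⁻¹ * x ∈ S := by
  obtain ⟨y, hy, h1⟩ := w.z_sur' _ (w.mV_inv hx)
  refine ⟨m0 * y * m0⁻¹, (w.mV' y).1 hy, ?_⟩
  have h2 := BTwo.conj_mem_of_normalizer w.mS h1
  have e : (m0 * z * m0⁻¹) * (m0 * y * m0⁻¹) * (m0 * z * m0⁻¹)⁻¹ * (m0 * y * m0⁻¹)⁻¹ * x =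
      m0 * (z * y * z⁻¹ * y⁻¹ * (m0⁻¹ * x * m0)) * m0⁻¹ := by group
  rw [e]; exact h2

theorem zetaS {x : G} (hx : x ∈ S) : (m0 * z * m0⁻¹) * x * (m0 * z * m0⁻¹)⁻¹ ∈ S := by
  have h1 := BTwo.conj_mem_of_normalizer w.mS (w.zS _ (conj_inv_mem_of_normalizer w.mS hx))
  have e : (m0 * z * m0⁻¹) * x * (m0 * z * m0⁻¹)⁻¹ = m0 * (z * (m0⁻¹ * x * m0) * z⁻¹) * m0⁻¹ := by group
  rw [e]; exact h1

/-- **(3) `ζ` is trivial on `C_z` mod `S`** -/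
theorem Cz_Cζ {x : G} (hx : x ∈ A) (h : z * x * z⁻¹ * x⁻¹ ∈ S) :
    (m0 * z * m0⁻¹) * x * (m0 * z * m0⁻¹)⁻¹ * x⁻¹ ∈ S := by
  have hζ := w.zetaA
  have hxD := w.Cz_le hx h
  obtain ⟨v, hv, h1⟩ := w.zeta_D hxD
  obtain ⟨v0, hv0, h2⟩ := w.zeta_sur hv
  have hv0A := w.VA hv0
  set x0 := x * v0 with hx0
  have hx0A : x0 ∈ A := mul_mem hx hv0A
  have h3 : x0 ∈ fx A S w.comm _ hζ := by
    refine ⟨hx0A, ?_⟩
    rw [hx0, cm_mul w.comm hζ hx hv0A]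
    set a := (m0 * z * m0⁻¹) * x * (m0 * z * m0⁻¹)⁻¹ * x⁻¹ with ha
    set b := (m0 * z * m0⁻¹) * v0 * (m0 * z * m0⁻¹)⁻¹ * v0⁻¹ with hb
    have haA : a ∈ A := mul_mem (hζ x hx) (inv_mem hx)
    have hbA : b ∈ A := mul_mem (hζ v0 hv0A) (inv_mem hv0A)
    have h4 := mul_mem h2 h1
    have e : a * b = b * v * (v⁻¹ * a) := by
      rw [w.comm a haA b hbA]; group
    rw [e]
    exact h4
  have h4 := w.Cζ_le hx0A h3.2
  obtain ⟨l, hl, h5⟩ := w.z_D' hx0A h4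
  obtain ⟨l0, hl0, h6⟩ := w.z_sur' l hl
  have hl0A := w.V'A hl0
  have h7 : x0 * l0 ∈ fx A S w.comm _ w.zA := by
    refine ⟨mul_mem hx0A hl0A, ?_⟩
    rw [cm_mul w.comm w.zA hx0A hl0A]
    set a := z * x0 * z⁻¹ * x0⁻¹ with ha
    set b := z * l0 * z⁻¹ * l0⁻¹ with hb
    have haA : a ∈ A := mul_mem (w.zA x0 hx0A) (inv_mem hx0A)
    have hbA : b ∈ A := mul_mem (w.zA l0 hl0A) (inv_mem hl0A)
    have e : a * b = b * l * (l⁻¹ * a) := by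
      rw [w.comm a haA b hbA]; group
    rw [e]
    exact mul_mem h6 h5
  have h8 := w.Cz_le h7.1 h7.2
  have hx0D : x0 ∈ D := mul_mem hxD (w.VD hv0)
  have h9 : l0 ∈ S := by
    refine w.cap l0 hl0 ?_
    have := mul_mem (inv_mem hx0D) h8
    rwa [inv_mul_cancel_left] at this
  have h10 : l0 ∈ fx A S w.comm _ w.zA := ⟨hl0A, mul_mem (w.zS l0 h9) (inv_mem h9)⟩
  have h11 : v0 ∈ fx A S w.comm _ w.zA := by
    have e : v0 = x⁻¹ * (x0 * l0) * l0⁻¹ := by rw [hx0]; group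
    rw [e]
    exact mul_mem (mul_mem (inv_mem (show x ∈ fx A S w.comm _ w.zA from ⟨hx, h⟩)) h7) (inv_mem h10)
  have h12 := w.z_inj v0 hv0 h11.2
  have h13 : v0 ∈ fx A S w.comm _ hζ := ⟨hv0A, mul_mem (w.zetaS h12) (inv_mem h12)⟩
  have h14 := mul_mem h3 (inv_mem h13)
  rw [hx0, mul_inv_cancel_right] at h14
  exact h14.2

/-- **(4) `z ζ` is trivial on `A / S`**, if it is trivial on `V / S` and `V' / S` -/
theorem diag (hV : ∀ x ∈ V, (z * (m0 * z * m0⁻¹)) * x * (z * (m0 * z * m0⁻¹))⁻¹ * x⁻¹ ∈ S)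
    (hV' : ∀ x ∈ V', (z * (m0 * z * m0⁻¹)) * x * (z * (m0 * z * m0⁻¹))⁻¹ * x⁻¹ ∈ S) {x : G} (hx : x ∈ A) :
    (z * (m0 * z * m0⁻¹)) * x * (z * (m0 * z * m0⁻¹))⁻¹ * x⁻¹ ∈ S := by
  have hA : ∀ x ∈ A, (z * (m0 * z * m0⁻¹)) * x * (z * (m0 * z * m0⁻¹))⁻¹ ∈ A := by
    intro x hx
    have h1 := w.zA _ (w.zetaA x hx)
    have e : (z * (m0 * z * m0⁻¹)) * x * (z * (m0 * z * m0⁻¹))⁻¹ =
        z * ((m0 * z * m0⁻¹) * x * (m0 * z * m0⁻¹)⁻¹) * z⁻¹ := by group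
    rw [e]; exact h1
  obtain ⟨l, hl, d, hd, rfl⟩ := w.fact x hx
  obtain ⟨v0, hv0, h1⟩ := w.z_sur _ (w.zD d hd)
  have hdA := w.DA hd
  have hv0A := w.VA hv0
  have h2 : z * (d * v0) * z⁻¹ * (d * v0)⁻¹ ∈ S := by
    rw [cm_mul w.comm w.zA hdA hv0A, w.comm _ (mul_mem (w.zA d hdA) (inv_mem hdA)) _
      (mul_mem (w.zA v0 hv0A) (inv_mem hv0A))]
    exact h1
  have h3 := w.Cz_Cζ (mul_mem hdA hv0A) h2
  have h4 : d * v0 ∈ fx A S w.comm _ hA := by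
    refine ⟨mul_mem hdA hv0A, ?_⟩
    set ζ := m0 * z * m0⁻¹ with hζ
    have e : (z * ζ) * (d * v0) * (z * ζ)⁻¹ * (d * v0)⁻¹ =
        (z * (ζ * (d * v0) * ζ⁻¹ * (d * v0)⁻¹) * z⁻¹) * (z * (d * v0) * z⁻¹ * (d * v0)⁻¹) := by group
    rw [e]
    exact mul_mem (w.zS _ h3) h2
  have h5 : l * d ∈ fx A S w.comm _ hA := by
    have e : l * d = l * (d * v0) * v0⁻¹ := by group
    rw [e]
    exact mul_mem (mul_mem (show l ∈ fx A S w.comm _ hA from ⟨w.V'A hl, hV' l hl⟩) h4)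
      (inv_mem (show v0 ∈ fx A S w.comm _ hA from ⟨hv0A, hV v0 hv0⟩))
  exact h5.2

end Wt

end Cfsg.Agent.Omega.HOneQ.KerO

end
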