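import Cfsg.Agent.Mrg.Omega.Lie.Nodes.AptLin
import Cfsg.Agent.Mrg.Omega.BTwo.RadQ

section


/-!
# NODE LIE, residues `(0, j)`: the swap `r ∈ X` inverting the torus element, `τ₁` on `V` and on the line `V₂'`
-/

set_option autoImplicit false
set_option linter.unusedSectionVars false

namespace Cfsg.Agent.Omega.Lie.Nodes

open Subgroup Cfsg.Agent.Omega.BTwo

universe u v w

variable {G : Type u} [Group G] {ι : Type w} {V : Subgroup G} {R : ι → Subgroup G} {i j : ι} {F : Type v}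
  [Field F] {v : F → F → G} {w1 w2 : F → G} {M B : Type u} [AddCommGroup M] [AddCommGroup B]
  [DistribMulAction (NR R i) M] [DistribMulAction (NR R i) B] [Module F M] {p : G → M} {r : G → B}
  {f : M →+ M →+ B} {φ : M →ₗ[F] M →ₗ[F] F} {s : NR R i → (F ≃+* F)} [CharP F 2]
  [Finite G] [Finite F] {h : FMod V R i j v w1 w2 M B p r f φ s} {t : F → G} {τ : Lie.TorD V R i j v t}
  {N : Type u} [AddCommGroup N] [Module F N] {P1 P2 : G → N} {y : YPair V R i j w1 w2 N P1 P2}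
  {n : N →ₗ[F] M} {sf : N →ₗ[F] N →ₗ[F] M} {q : N → N →ₗ[F] F}

/-- the preimage of `⟨n k⟩` -/
noncomputable abbrev VG (g : Eig h τ y n sf q) (k : N) : Subgroup G := pre (gfr_of g).fr (Submodule.span F {n k})

theorem mem_VG {g : Eig h τ y n sf q} {k : N} {x : G} :
    x ∈ VG g k ↔ x ∈ WW V (R i) ∧ ∃ c : F, p x = c • n k := by
  show x ∈ WW V (R i) ∧ p x ∈ Submodule.span F {n k} ↔ _
  rw [Submodule.mem_span_singleton]
  exact and_congr_right fun _ => ⟨fun ⟨c, e⟩ => ⟨c, e.symm⟩, fun ⟨c, e⟩ => ⟨c, e.symm⟩⟩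

theorem VG_le_SG (g : Eig h τ y n sf q) (k : N) : VG g k ≤ (gfr_of g).SG k := fun x hx => by
  obtain ⟨hW, c, e⟩ := mem_VG.1 hx
  refine ⟨hW, ?_⟩
  show p x ∈ NK p v n sf k
  rw [e]
  exact Submodule.smul_mem _ _ n_mem_Ng

theorem R_le_VG (g : Eig h τ y n sf q) (k : N) : R i ≤ VG g k := fun x hx => by
  have hW : x ∈ WW V (R i) := V_le_WW V (R i) (h.bt.R_le i hx)
  exact mem_VG.2 ⟨hW, 0, by rw [zero_smul]; exact (h.fr.p_ker x hW).2 hx⟩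

/-- `cj m V = VG` -/
theorem SwapM.cj_V {k : N} {m : NR R i} {β γ : F} (sw : SwapM h n sf k m β γ) (g : Eig h τ y n sf q) :
    cj (m : G) V = VG g k := by
  ext x
  rw [mem_cj, mem_VG]
  have hWn := normalizer_le_WW V (R i) m.2
  constructor
  · intro hx
    have hxW := V_le_WW V (R i) hx
    have e1 : x = m * ((m : G)⁻¹ * x * m) * (m : G)⁻¹ := by group
    have hx' : x ∈ WW V (R i) := by rw [e1]; exact conj_mem_of_normalizer hWn hxW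
    refine ⟨hx', ?_⟩
    obtain ⟨c, hc⟩ := (p_mem_V_iff h hxW).1 hx
    refine ⟨c * β, ?_⟩
    rw [e1, ← h.fr.p_act m _ hxW, hc, act_smul h sw.cen, sw.me, smul_smul]
  · rintro ⟨hx, c, hc⟩
    have hx' : (m : G)⁻¹ * x * m ∈ WW V (R i) := conj_inv_mem_of_normalizer hWn hx
    rw [p_mem_V_iff h hx']
    refine ⟨c * β⁻¹, ?_⟩
    have h1 := h.fr.p_act m⁻¹ x hx
    rw [coe_inv, inv_inv] at h1
    rw [← h1, hc, act_smul h sw.cen', sw.me', smul_smul]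

theorem SwapM.cj_VG {k : N} {m : NR R i} {β γ : F} (sw : SwapM h n sf k m β γ) (g : Eig h τ y n sf q) :
    cj (m : G) (VG g k) = V := by
  rw [cj_eq_iff, ← sw.inv.cj_V g, coe_inv]

/-- **`r ∈ X` swaps `R i`, `R j` and inverts `t a`** -/
theorem exists_r (h : FMod V R i j v w1 w2 M B p r f φ s) (τ : Lie.TorD V R i j v t)
    (y : YPair V R i j w1 w2 N P1 P2) (a : Fˣ) : ∃ x, (∃ y0 ∈ YY V R, x = nn w1 w2 1 * y0) ∧ x ∈ XX V R ∧
      cj x (R i) = R j ∧ cj x (R j) = R i ∧ x⁻¹ * t a * x = (t a)⁻¹ ∧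
      (∀ b c, x * v b c * x⁻¹ = v c b) ∧ cj x V = V := by
  set n0 := nn w1 w2 1 with hn0
  have hX : n0 ∈ XX V R := h.co.nn_mem_X h.bt 1
  have hzX : t a ∈ XX V R := τ.memX a a.ne_zero
  have hact : ∀ b c, n0 * v b c * n0⁻¹ = v c b := by
    intro b c
    have h1 := h.co.nn_act one_ne_zero b c
    rw [inv_one, one_mul, one_mul] at h1
    exact h1
  have hact' : ∀ b c, n0⁻¹ * v b c * n0 = v c b := by
    intro b c
    rw [← hact c b]; group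
  have hYC := y.cen_X_V h.co h.btc
  have hzY : t a ∈ normalizer (YY V R : Set G) := h.bt.NV_le_NY (h.bt.X_le_NV hzX)
  have hYp : IsPGroup 2 (YY V R) := by
    rw [← hYC]
    exact y.cen_X_V_isPGroup h.co h.btc
  have h1 : (t a)⁻¹ * (n0⁻¹ * (t a)⁻¹ * n0) ∈ YY V R := by
    rw [← hYC]
    refine mem_inf.2 ⟨mul_mem (inv_mem hzX) (mul_mem (mul_mem (inv_mem hX) (inv_mem hzX)) hX), ?_⟩
    rw [mem_centralizer_iff]
    intro x hx
    obtain ⟨b, c, rfl⟩ := (h.co.mem_V x).1 hx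
    have hinv : ∀ b c, (t a)⁻¹ * v b c * t a = v ((a : F)⁻¹ * b) (a * c) := by
      intro b c
      have h2 := τ.act (a : F)⁻¹ b c (inv_ne_zero a.ne_zero)
      rw [τ.inv a.ne_zero, inv_inv, inv_inv] at h2
      exact h2
    have e : (t a)⁻¹ * (n0⁻¹ * (t a)⁻¹ * n0) * v b c * ((t a)⁻¹ * (n0⁻¹ * (t a)⁻¹ * n0))⁻¹ =
        (t a)⁻¹ * (n0⁻¹ * ((t a)⁻¹ * (n0 * v b c * n0⁻¹) * t a) * n0) * t a := by group
    rw [hact, hinv, hact', hinv] at e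
    rw [← mul_assoc (a : F)⁻¹, ← mul_assoc (a : F), inv_mul_cancel₀ a.ne_zero, mul_inv_cancel₀ a.ne_zero, one_mul,
      one_mul, mul_inv_eq_iff_eq_mul] at e
    exact e.symm
  have ho : Odd (orderOf (n0⁻¹ * (t a)⁻¹ * n0)) := by
    have h2 := odd_conj (m := n0⁻¹) (z := (t a)⁻¹) (by rw [orderOf_inv]; exact τ.odd a a.ne_zero)
    rwa [inv_inv] at h2
  obtain ⟨y0, hy0, e1⟩ := Apt.conj_of_coset hYp hzY (τ.odd a a.ne_zero) h1 ho
  have hyX : y0⁻¹ ∈ XX V R := YY_le_XX (inv_mem hy0)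
  have hyR : ∀ l, cj y0⁻¹ (R l) = R l := fun l =>
    cj_eq_self_iff.2 (h.bt.cen_le_N l (YY_le_cen (inv_mem hy0)))
  have hyv : ∀ b c, y0⁻¹ * v b c * y0⁻¹⁻¹ = v b c := by
    intro b c
    rw [← mem_centralizer_iff.1 (YY_le_cen (inv_mem hy0)) _ (h.co.v_mem b c), mul_inv_cancel_right]
  refine ⟨n0 * y0⁻¹, ⟨y0⁻¹, inv_mem hy0, rfl⟩, mul_mem hX hyX, ?_, ?_, ?_, fun b c => ?_, ?_⟩
  · rw [cj_mul, hyR, h.co.nn_R1 h.bt one_ne_zero]
  · rw [cj_mul, hyR, h.co.nn_R2 h.bt one_ne_zero]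
  · have e2 : (n0 * y0⁻¹)⁻¹ * t a * (n0 * y0⁻¹) = (y0 * (n0⁻¹ * (t a)⁻¹ * n0) * y0⁻¹)⁻¹ := by group
    rw [e2, e1]
  · have e2 : n0 * y0⁻¹ * v b c * (n0 * y0⁻¹)⁻¹ = n0 * (y0⁻¹ * v b c * y0⁻¹⁻¹) * n0⁻¹ := by group
    rw [e2, hyv, hact]
  · exact cj_eq_self_iff.2 (h.bt.X_le_NV (mul_mem hX hyX))

/-- the torus element fixes only the points `R i`, `R j` -/
theorem tor_fix (h : FMod V R i j v w1 w2 M B p r f φ s) (τ : Lie.TorD V R i j v t) {a : Fˣ} (ha : (a : F) ≠ 1)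
    {l : ι} (hl : l ≠ i) (hfix : cj (t a) (R l) = R l) : l = j := by
  by_contra hlj
  obtain ⟨w, hw, e⟩ := h.bt.trans i h.co.ne.symm hl
  obtain ⟨x, hx⟩ := h.co.W1_act w hw
  have hR : ∀ g, g ∈ R l ↔ ∃ c, v (x * c) c = g := by
    intro g
    rw [← e, mem_cj, h.co.mem_R2]
    constructor
    · rintro ⟨c, hc⟩
      refine ⟨c, ?_⟩
      have h1 := hx 0 c
      rw [zero_add] at h1
      rw [← h1, hc]; group
    · rintro ⟨c, rfl⟩
      refine ⟨c, ?_⟩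
      have h1 := hx 0 c
      rw [zero_add] at h1
      rw [← h1]; group
  have h1 : v x 1 ∈ R l := (hR _).2 ⟨1, by rw [mul_one]⟩
  have h2 : t a * v x 1 * (t a)⁻¹ ∈ R l := by
    rw [← hfix]
    exact conj_mem_cj h1
  rw [τ.act a x 1 a.ne_zero, mul_one, hR] at h2
  obtain ⟨c, hc⟩ := h2
  obtain ⟨h3, h4⟩ := h.co.v_inj hc
  rw [h4] at h3
  have h5 : x * ((a : F) - (a : F)⁻¹) = 0 := by linear_combination -h3
  have h6 : x = 0 := (mul_eq_zero.1 h5).resolve_right (h.sub_inv_ne a.ne_zero ha)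
  rw [h6] at h1
  have h7 : v 0 1 ∈ R j := (h.co.mem_R2 _).2 ⟨1, rfl⟩
  have h8 := h.bt.eq_one hlj h1 h7
  exact one_ne_zero (h.co.v_one 0 1 h8).2

namespace TauDat

variable {g : Eig h τ y n sf q} {k : N} {P O : Subgroup G} {a : Fˣ} {x : G} (D : TauDat g k P O a x)
include D

theorem NRi : x ∈ normalizer (R i : Set G) := by
  obtain ⟨X, rfl, -⟩ := D.diag
  exact X.2

theorem NV : x ∈ normalizer (V : Set G) := by
  obtain ⟨X, rfl, dX⟩ := D.diag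
  exact norm_V h dX.e

/-- `τ₁` centralises `R j` -/
theorem Rj (ha : (a : F) ≠ 1) : cj x (R j) = R j ∧ ∀ β, x * v 0 β * x⁻¹ = v 0 β := by
  obtain ⟨l, hl⟩ := h.bt.perm x D.NV j
  have hli : l ≠ i := by
    rintro rfl
    have h1 : cj x (R j) = cj x (R l) := by rw [hl, cj_eq_self_iff.2 D.NRi]
    exact h.co.ne.symm (h.bt.R_index (cj_injective h1))
  have hzj : cj (t a) (R j) = R j := cj_eq_self_iff.2 (τ.normR' a.ne_zero)
  have hlj : l = j := by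
    refine tor_fix h τ ha hli ?_
    rw [← hl, ← cj_mul, ← D.comm, cj_mul, hzj]
  rw [hlj] at hl
  refine ⟨hl, fun β => ?_⟩
  obtain ⟨X, hX, dX⟩ := D.diag
  -- `τ₁ v 0 β τ₁⁻¹ ∈ R j` and `≡ v 0 β` modulo `R i`
  have h1 : x * v 0 β * x⁻¹ ∈ R j := by
    rw [← hl]
    exact conj_mem_cj ((h.co.mem_R2 _).2 ⟨β, rfl⟩)
  obtain ⟨c, hc⟩ := (h.co.mem_R2 _).1 h1
  have hvW : ∀ b c, v b c ∈ WW V (R i) := fun b c => V_le_WW V (R i) (h.co.v_mem b c)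
  have h2 := h.fr.p_act X _ (hvW 0 β)
  rw [hX, ← hc, h.p_v 0 β, h.p_v 0 c, dX.lin, dX.e, one_smul] at h2
  have h3 : (β - c) • p (v 0 1) = 0 := by rw [sub_smul, h2, sub_self]
  rw [← hc, sub_eq_zero.1 (h.e_smul_eq_zero h3)]

/-- the fixed points of `τ₁` on `V` -/
theorem cenV (ha : (a : F) ≠ 1) {u : G} (hu : u ∈ V) : x * u * x⁻¹ = u ↔ u ∈ R j := by
  obtain ⟨b, c, rfl⟩ := (h.co.mem_V u).1 hu
  have e : x * v b c * x⁻¹ = v (a * a * b) c := by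
    have e1 : v b c = v b 0 * v 0 c := by rw [← h.co.v_add, add_zero, zero_add]
    have e2 : x * (v b 0 * v 0 c) * x⁻¹ = (x * v b 0 * x⁻¹) * (x * v 0 c * x⁻¹) := by group
    rw [e1, e2, D.Ri, (D.Rj ha).2, ← h.co.v_add, add_zero, zero_add]
  rw [e, h.co.mem_R2]
  constructor
  · intro h1
    have h2 := (h.co.v_inj h1).1
    have h3 : ((a : F) * (a - (a : F)⁻¹)) * b = 0 := by
      rw [mul_sub, mul_inv_cancel₀ a.ne_zero]
      linear_combination h2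
    have h4 : b = 0 := (mul_eq_zero.1 h3).resolve_left (mul_ne_zero a.ne_zero (h.sub_inv_ne a.ne_zero ha))
    exact ⟨c, by rw [h4]⟩
  · rintro ⟨c', hc'⟩
    obtain ⟨h2, h3⟩ := h.co.v_inj hc'
    rw [← h2, mul_zero]

end TauDat

end Cfsg.Agent.Omega.Lie.Nodes

end

section


/-!
# NODE LIE, residues `(0, j)`: the opposite point and the apartment

`NodeDat.exists_apt`: the apartment data `AptData` from a node of type `x = n k`.
-/

set_option autoImplicit false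
set_option linter.unusedSectionVars false

namespace Cfsg.Agent.Omega.Lie.Nodes

open Subgroup Cfsg.Agent.Omega.BTwo

universe u v w

variable {G : Type u} [Group G] {ι : Type w} {V : Subgroup G} {R : ι → Subgroup G} {i j : ι} {F : Type v}
  [Field F] {v : F → F → G} {w1 w2 : F → G} {M B : Type u} [AddCommGroup M] [AddCommGroup B]
  [DistribMulAction (NR R i) M] [DistribMulAction (NR R i) B] [Module F M] {p : G → M} {r : G → B}
  {f : M →+ M →+ B} {φ : M →ₗ[F] M →ₗ[F] F} {s : NR R i → (F ≃+* F)} [CharP F 2]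
  [Finite G] [Finite F] {h : FMod V R i j v w1 w2 M B p r f φ s} {t : F → G} {τ : Lie.TorD V R i j v t}
  {N : Type u} [AddCommGroup N] [Module F N] {P1 P2 : G → N} {y : YPair V R i j w1 w2 N P1 P2}
  {n : N →ₗ[F] M} {sf : N →ₗ[F] N →ₗ[F] M} {q : N → N →ₗ[F] F}

/-- the properties of the swap -/
structure RDat (V : Subgroup G) (R : ι → Subgroup G) (i j : ι) (v : F → F → G) (w1 w2 t : F → G) (a : Fˣ)
    (x : G) : Prop where
  y0 : ∃ y0 ∈ YY V R, x = nn w1 w2 1 * y0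
  X : x ∈ XX V R
  ri : cj x (R i) = R j
  rj : cj x (R j) = R i
  inv : x⁻¹ * t a * x = (t a)⁻¹
  act : ∀ b c, x * v b c * x⁻¹ = v c b
  V : cj x V = V

section D

/-- `D` does not centralise `n k` -/
theorem exists_d0 (g : Eig h τ y n sf q) {k : N} (hk : k ≠ 0) : ∃ d ∈ h.M0 τ, φ d (n k) ≠ 0 := by
  by_contra hcon
  push Not at hcon
  have h1 : n k ∈ Submodule.span F {p (v 0 1)} := by
    have : Finite M := Finite.of_surjective (fun x : WW V (R i) => p x) fun m => by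
      obtain ⟨x, hx, e1⟩ := h.fr.p_surj m
      exact ⟨⟨x, hx⟩, e1⟩
    refine (nfr_of g).perp_perp _ _ fun m' hm' => ?_
    have h2 := hm' _ (Submodule.mem_span_singleton_self _)
    obtain ⟨γ, d, hd, l, rfl⟩ := (g.mem_U m').1 h2
    rw [map_add, map_add, map_smul, g.phi_e1, g.phi_11, h.phi_symm, hcon d hd, smul_zero, add_zero, add_zero]
  obtain ⟨c, hc⟩ := Submodule.mem_span_singleton.1 h1
  have h2 : (-c) • p (v 0 1) + 0 + n k = 0 := by rw [← hc, neg_smul]; abel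
  exact hk (g.indep _ _ _ (h.M0 τ).zero_mem h2).2.2

theorem exists_d (g : Eig h τ y n sf q) {k : N} (hk : k ≠ 0) (c : F) : ∃ d ∈ DD V R, φ (p d) (n k) = c := by
  obtain ⟨d0, hd0, hne⟩ := exists_d0 g hk
  have h1 : (c * (φ d0 (n k))⁻¹) • d0 ∈ h.M0 τ := (h.M0 τ).smul_mem _ hd0
  obtain ⟨d, hd, hdW, e⟩ := h.M0_le τ y h1
  refine ⟨d, hd, ?_⟩
  rw [e, map_smul, LinearMap.smul_apply, smul_eq_mul, mul_assoc, inv_mul_cancel₀ hne, mul_one]

/-- conjugation of `V'` by elements of `W i` -/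
theorem conj_VG {g : Eig h τ y n sf q} {k : N} {d d' : G} (hd : d ∈ WW V (R i)) (hd' : d' ∈ WW V (R i))
    (he : φ (p d) (n k) = φ (p d') (n k)) {x : G} (hx : x ∈ VG g k) : d * x * d⁻¹ = d' * x * d'⁻¹ := by
  obtain ⟨hW, c, hc⟩ := mem_VG.1 hx
  have h1 := h.comm_eq hd hW
  have h2 := h.comm_eq hd' hW
  rw [hc, map_smul, he, ← map_smul, ← hc, ← h2] at h1
  exact mul_right_cancel h1

/-- `D` is transitive on the points `≠ R i` of `V'` -/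
theorem trD (g : Eig h τ y n sf q) {k : N} (hk : k ≠ 0) {m : G} (hm : m ∈ centralizer (R i : Set G))
    (hmV : cj m V = VG g k) {l l' : ι} (hl : l ≠ i) (hl' : l' ≠ i) :
    ∃ d ∈ DD V R, cj d (cj m (R l)) = cj m (R l') := by
  obtain ⟨w, hw, e⟩ := h.bt.trans i hl hl'
  have hw' : m * w * m⁻¹ ∈ WW V (R i) :=
    conj_mem_of_normalizer (normalizer_le_WW V (R i) (centralizer_le_normalizer _ hm)) hw
  obtain ⟨d, hd, e1⟩ := exists_d g hk (φ (p (m * w * m⁻¹)) (n k))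
  refine ⟨d, hd, ?_⟩
  have h1 : cj (m * w * m⁻¹) (cj m (R l)) = cj m (R l') := by
    rw [← cj_mul, inv_mul_cancel_right, cj_mul, e]
  rw [← h1]
  ext x
  have hle : cj m (R l) ≤ VG g k := by
    rw [← hmV]
    exact cj_mono (h.bt.R_le l)
  have hdW := D_le_W V R i hd
  have key : ∀ u ∈ cj m (R l), d * u * d⁻¹ = m * w * m⁻¹ * u * (m * w * m⁻¹)⁻¹ := fun u hu =>
    conj_VG hdW hw' e1 (hle hu)
  constructor
  · rintro ⟨u, hu, rfl⟩
    exact ⟨u, hu, (key u hu).symm⟩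
  · rintro ⟨u, hu, rfl⟩
    exact ⟨u, hu, key u hu⟩

/-- `C_{V'}(D) = R i` -/
theorem fixD (g : Eig h τ y n sf q) {k : N} (hk : k ≠ 0) {x : G} (hx : x ∈ VG g k)
    (hc : ∀ d ∈ DD V R, d * x = x * d) : x ∈ R i := by
  obtain ⟨hW, c, e⟩ := mem_VG.1 hx
  obtain ⟨d, hd, e1⟩ := exists_d g hk 1
  have h1 := h.comm_eq (D_le_W V R i hd) hW
  rw [e, map_smul, e1, hc d hd] at h1
  have h2 : x * d * d⁻¹ * x⁻¹ = 1 := by group
  rw [h2, smul_eq_mul, mul_one] at h1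
  have h3 := (h.co.v_one _ _ h1.symm).1
  rw [← h.fr.p_ker x hW, e, h3, zero_smul]

end D

namespace TauDat

variable {g : Eig h τ y n sf q} {k : N} {P O : Subgroup G} {a : Fˣ} {x : G} (D : TauDat g k P O a x)
  {ρ : G} (E : RDat V R i j v w1 w2 t a ρ)
include D E

theorem conj_cen (ha : (a : F) ≠ 1) : ρ⁻¹ * x * ρ ∈ centralizer (R i : Set G) := by
  rw [mem_centralizer_iff]
  intro u hu
  obtain ⟨β, rfl⟩ := (h.co.mem_R1 u).1 hu
  have h1 : ρ⁻¹ * x * ρ * v β 0 * (ρ⁻¹ * x * ρ)⁻¹ = ρ⁻¹ * (x * (ρ * v β 0 * ρ⁻¹) * x⁻¹) * ρ := by group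
  rw [E.act, (D.Rj ha).2, ← E.act β 0] at h1
  have h2 : ρ⁻¹ * (ρ * v β 0 * ρ⁻¹) * ρ = v β 0 := by group
  rw [h2, mul_inv_eq_iff_eq_mul] at h1
  exact h1.symm

/-- **`τ₁` on the line `V₂' = (V')^ρ`** -/
theorem act_VG (ha : (a : F) ≠ 1) (hk : k ≠ 0) {w : G} (hw : w ∈ VG g k) :
    p (ρ⁻¹ * x * ρ * w * (ρ⁻¹ * x * ρ)⁻¹) = ((a : F)⁻¹ * (a : F)⁻¹) • p w := by
  set S := (gfr_of g).SG k with hS
  obtain ⟨hwW, c, hc⟩ := mem_VG.1 hw
  set T := ρ⁻¹ * x * ρ with hT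
  have hTC : T ∈ centralizer (R i : Set G) := D.conj_cen E ha
  have hTR : T ∈ normalizer (R i : Set G) := centralizer_le_normalizer _ hTC
  have hTW : T * w * T⁻¹ ∈ WW V (R i) := conj_mem_of_normalizer (normalizer_le_WW V (R i) hTR) hwW
  -- `T` commutes with `t a`
  have hTt : T * t a = t a * T := by
    have e1 : t a = ρ⁻¹ * (t a)⁻¹ * ρ := by
      have e2 : ρ⁻¹ * (t a)⁻¹ * ρ = (ρ⁻¹ * t a * ρ)⁻¹ := by group
      rw [e2, E.inv, inv_inv]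
    have e3 : x * (t a)⁻¹ = (t a)⁻¹ * x := by
      have := D.comm
      calc x * (t a)⁻¹ = (t a)⁻¹ * (t a * x) * (t a)⁻¹ := by group
        _ = (t a)⁻¹ * (x * t a) * (t a)⁻¹ := by rw [this]
        _ = (t a)⁻¹ * x := by group
    calc T * t a = ρ⁻¹ * x * ρ * (ρ⁻¹ * (t a)⁻¹ * ρ) := by rw [← e1]
      _ = ρ⁻¹ * (x * (t a)⁻¹) * ρ := by group
      _ = ρ⁻¹ * ((t a)⁻¹ * x) * ρ := by rw [e3]
      _ = (ρ⁻¹ * (t a)⁻¹ * ρ) * T := by rw [hT]; group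
      _ = t a * T := by rw [← e1]
  -- `y = w^ρ ∈ Σ`
  set u := ρ * w * ρ⁻¹ with hu
  have hcjS : cj ρ S = cj (nn w1 w2 1) S := by
    obtain ⟨y0, hy0, e⟩ := E.y0
    rw [e, cj_mul, cj_eq_self_iff.2 ((gfr_of g).Y_norm_SG h.bt h.co.ne k hy0)]
  have huS : u ∈ cj (nn w1 w2 1) S := by
    rw [← hcjS]
    exact conj_mem_cj (VG_le_SG g k hw)
  have huT : u ∈ Sig g k := (le_sup_right : cj (nn w1 w2 1) S ≤ _) huS
  have huW : u ∈ WW V (R j) := cj_SG_le g k (h.co.nn_R1 h.bt one_ne_zero) huS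
  have hxj : x ∈ normalizer (WW V (R j) : Set G) :=
    normalizer_le_WW V (R j) (cj_eq_self_iff.1 (D.Rj ha).1)
  have htj : t a * t a ∈ normalizer (WW V (R j) : Set G) :=
    mul_mem (normalizer_le_WW V (R j) (τ.normR' a.ne_zero)) (normalizer_le_WW V (R j) (τ.normR' a.ne_zero))
  -- the difference
  set z := x * u * x⁻¹ * (t a * t a * u * (t a * t a)⁻¹)⁻¹ with hz
  have hzS : z ∈ S := D.qm.eq u huT
  have hzD : z ∈ DD V R := by
    rw [h.bt.D_eq' h.co.ne]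
    exact mem_inf.2 ⟨hzS.1, mul_mem (conj_mem_of_normalizer hxj huW) (inv_mem (conj_mem_of_normalizer htj huW))⟩
  have hzZ : ρ⁻¹ * z * ρ ∈ (gfr_of g).DZ k :=
    conj_inv_mem_of_normalizer (X_DZ g k E.X) (DD_inf_SG g k hzD hzS hk)
  -- `t a` inverse action
  have htt : ρ⁻¹ * (t a * t a * u * (t a * t a)⁻¹) * ρ = (t a)⁻¹ * ((t a)⁻¹ * w * (t a)⁻¹⁻¹) * (t a)⁻¹⁻¹ := by
    rw [← E.inv, hu]; group
  have e1 : T * w * T⁻¹ = (ρ⁻¹ * z * ρ) * ((t a)⁻¹ * ((t a)⁻¹ * w * (t a)⁻¹⁻¹) * (t a)⁻¹⁻¹) := by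
    rw [← htt, hz, hT, hu]; group
  have htiR : (t a)⁻¹ ∈ normalizer (WW V (R i) : Set G) :=
    inv_mem (normalizer_le_WW V (R i) (τ.normR a.ne_zero))
  have hw1 : (t a)⁻¹ * w * (t a)⁻¹⁻¹ ∈ WW V (R i) := conj_mem_of_normalizer htiR hwW
  have hw2 : (t a)⁻¹ * ((t a)⁻¹ * w * (t a)⁻¹⁻¹) * (t a)⁻¹⁻¹ ∈ WW V (R i) := conj_mem_of_normalizer htiR hw1
  have hp1 : ∀ c' : F, ∀ w' ∈ WW V (R i), p w' = c' • n k → p ((t a)⁻¹ * w' * (t a)⁻¹⁻¹) = (c' * (a : F)⁻¹) • n k := by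
    intro c' w' hw' e
    have h1 := h.fr.p_act (tT τ a)⁻¹ w' hw'
    have h2 : (((tT τ a)⁻¹ : NR R i) : G) = (t a)⁻¹ := rfl
    rw [h2] at h1
    rw [← h1, e, inv_smul_eq_iff, h.T_lin τ, g.n_mem k a, smul_smul, mul_assoc, inv_mul_cancel₀ a.ne_zero,
      mul_one]
  have hp2 := hp1 _ _ hw1 (hp1 _ _ hwW hc)
  have e2 : p (T * w * T⁻¹) = p (ρ⁻¹ * z * ρ) + (c * (a : F)⁻¹ * (a : F)⁻¹) • n k := by
    rw [e1, h.fr.p_mul _ hzZ.1 _ hw2, hp2]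
  obtain ⟨γ, d, hd, e3⟩ := mem_eZ.1 hzZ.2
  have e4 : p (ρ⁻¹ * z * ρ) = γ • p (v 0 1) + d := e3
  -- eigenvector
  have e5 : p (T * w * T⁻¹) = (⟨T, hTR⟩ : NR R i) • p w := (h.fr.p_act ⟨T, hTR⟩ w hwW).symm
  have hcm : (⟨T, hTR⟩ : NR R i) * tT τ a = tT τ a * ⟨T, hTR⟩ := Subtype.ext hTt
  have e6 : tT τ a • p (T * w * T⁻¹) = (a : F) • p (T * w * T⁻¹) := by
    rw [e5, ← mul_smul, ← hcm, mul_smul, hc, h.T_lin τ, g.n_mem k a]
    rw [act_smul h (g := ⟨T, hTR⟩) hTC, act_smul h (g := ⟨T, hTR⟩) hTC, act_smul h (g := ⟨T, hTR⟩) hTC,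
      smul_comm]
  obtain ⟨l, hl⟩ := eig_a g ha e6
  rw [e4] at e2
  have h5 : γ • p (v 0 1) + d + n ((c * (a : F)⁻¹ * (a : F)⁻¹) • k - l) = 0 := by
    rw [map_sub, map_smul, ← hl, e2]; abel
  obtain ⟨h6, h7, -⟩ := g.indep _ _ _ (ZK_le g hd) h5
  rw [e2, h6, h7, zero_smul, zero_add, zero_add, hc, smul_smul]
  congr 1
  ring

/-- `τ₁` normalises `V₂'` -/
theorem norm_VG (ha : (a : F) ≠ 1) (hk : k ≠ 0) : ρ⁻¹ * x * ρ ∈ normalizer (VG g k : Set G) := by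
  apply mem_normalizer_of_conj
  intro w hw
  obtain ⟨hwW, c, hc⟩ := mem_VG.1 hw
  refine mem_VG.2 ⟨conj_mem_of_normalizer (normalizer_le_WW V (R i)
    (centralizer_le_normalizer _ (D.conj_cen E ha))) hwW, ((a : F)⁻¹ * (a : F)⁻¹) * c, ?_⟩
  rw [D.act_VG E ha hk hw, hc, smul_smul]

/-- no fixed points outside `R j` on `V₂'` -/
theorem fix_VG (ha : (a : F) ≠ 1) (hk : k ≠ 0) {u : G} (hu : u ∈ cj ρ (VG g k)) (hx : x * u * x⁻¹ = u) :
    u ∈ R j := by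
  have hw := mem_cj.1 hu
  set w := ρ⁻¹ * u * ρ with hw'
  obtain ⟨hwW, c, hc⟩ := mem_VG.1 hw
  have h1 := D.act_VG E ha hk hw
  have e1 : ρ⁻¹ * x * ρ * w * (ρ⁻¹ * x * ρ)⁻¹ = w := by
    calc ρ⁻¹ * x * ρ * w * (ρ⁻¹ * x * ρ)⁻¹ = ρ⁻¹ * (x * u * x⁻¹) * ρ := by rw [hw']; group
      _ = w := by rw [hx]
  rw [e1, hc, smul_smul] at h1
  have h2 : ((1 - (a : F)⁻¹ * (a : F)⁻¹) * c) • n k = 0 := by
    rw [sub_mul, one_mul, sub_smul, ← h1, sub_self]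
  have h3 : n (((1 - (a : F)⁻¹ * (a : F)⁻¹) * c) • k) = 0 := by rw [map_smul, h2]
  have h4 : (0 : F) • p (v 0 1) + 0 + n (((1 - (a : F)⁻¹ * (a : F)⁻¹) * c) • k) = 0 := by
    rw [h3, zero_smul, add_zero, add_zero]
  have h5 := (smul_eq_zero.1 (g.indep _ _ _ (h.M0 τ).zero_mem h4).2.2).resolve_right hk
  have h6 : 1 - (a : F)⁻¹ * (a : F)⁻¹ ≠ 0 := by
    intro h7
    apply h.sub_inv_ne a.ne_zero ha
    have h8 : (a : F) * (1 - (a : F)⁻¹ * (a : F)⁻¹) = a - (a : F)⁻¹ := by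
      rw [mul_sub, mul_one, ← mul_assoc, mul_inv_cancel₀ a.ne_zero, one_mul]
    rw [← h8, h7, mul_zero]
  have h7 : c = 0 := (mul_eq_zero.1 h5).resolve_left h6
  have h8 : w ∈ R i := by rw [← h.fr.p_ker w hwW, hc, h7, zero_smul]
  have h9 := conj_mem_cj (g := ρ) h8
  rw [E.ri] at h9
  rwa [hw', show ρ * (ρ⁻¹ * u * ρ) * ρ⁻¹ = u by group] at h9

end TauDat

end Cfsg.Agent.Omega.Lie.Nodes

end

section


/-!
# NODE LIE, residues `(0, j)`: existence of the apartment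

`NodeDat.exists_apt`: `m ∈ P` and `AptData V R i j l ρ m Σ`.
-/

set_option autoImplicit false
set_option linter.unusedSectionVars false

namespace Cfsg.Agent.Omega.Lie.Nodes

open Subgroup Cfsg.Agent.Omega.BTwo

universe u v w

section grp

variable {G : Type u} [Group G]

/-- the derived group of `C` centralises `Q` if `C` acts on `Q` modulo the central abelian group `A` -/
theorem derived_cen {C A Q : Subgroup G} (hA : ∀ x ∈ A, ∀ z ∈ A, x * z = z * x) (hCA : C ≤ centralizer (A : Set G))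
    (hC : ∀ c ∈ C, ∀ u ∈ Q, c * u * c⁻¹ * u⁻¹ ∈ A) : ⁅C, C⁆ ≤ centralizer (Q : Set G) := by
  have hcA : ∀ c ∈ C, ∀ x ∈ A, c * x * c⁻¹ = x := by
    intro c hc x hx
    rw [← mem_centralizer_iff.1 (hCA hc) x hx, mul_inv_cancel_right]
  -- conjugation of `x u` with `x ∈ A`, `u ∈ Q`
  have key : ∀ c ∈ C, ∀ x ∈ A, ∀ u ∈ Q, c * (x * u) * c⁻¹ = (c * u * c⁻¹ * u⁻¹) * x * u := by
    intro c hc x hx u hu
    have e : c * (x * u) * c⁻¹ = (c * x * c⁻¹) * (c * u * c⁻¹ * u⁻¹) * u := by group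
    rw [e, hcA c hc x hx, hA x hx _ (hC c hc u hu)]
  have hinv : ∀ c ∈ C, ∀ u ∈ Q, (c⁻¹ * u * c⁻¹⁻¹ * u⁻¹) * (c * u * c⁻¹ * u⁻¹) = 1 := by
    intro c hc u hu
    have hθ := hC c⁻¹ (inv_mem hc) u hu
    have h1 := key c hc _ hθ u hu
    have e : c * (c⁻¹ * u * c⁻¹⁻¹ * u⁻¹ * u) * c⁻¹ = u := by group
    rw [e] at h1
    have h2 := hA _ hθ _ (hC c hc u hu)
    rw [h2]
    exact (mul_eq_right.1 h1.symm)
  rw [commutator_le]
  intro c hc c' hc'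
  rw [commutatorElement_def, mem_centralizer_iff]
  intro u hu
  have h1 := hC c'⁻¹ (inv_mem hc') u hu
  have h2 := hC c⁻¹ (inv_mem hc) u hu
  have h3 := hC c' hc' u hu
  have h4 := hC c hc u hu
  set θ1 := c'⁻¹ * u * c'⁻¹⁻¹ * u⁻¹ with e1
  set θ2 := c⁻¹ * u * c⁻¹⁻¹ * u⁻¹ with e2
  set θ3 := c' * u * c'⁻¹ * u⁻¹ with e3
  set θ4 := c * u * c⁻¹ * u⁻¹ with e4
  have s1 : c'⁻¹ * u * c'⁻¹⁻¹ = θ1 * u := by rw [e1]; group
  have s2 : c⁻¹ * (θ1 * u) * c⁻¹⁻¹ = θ2 * θ1 * u := key c⁻¹ (inv_mem hc) θ1 h1 u hu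
  have s3 : c' * (θ2 * θ1 * u) * c'⁻¹ = θ3 * (θ2 * θ1) * u := key c' hc' _ (mul_mem h2 h1) u hu
  have s4 : c * (θ3 * (θ2 * θ1) * u) * c⁻¹ = θ4 * (θ3 * (θ2 * θ1)) * u :=
    key c hc _ (mul_mem h3 (mul_mem h2 h1)) u hu
  have i1 : θ1 * θ3 = 1 := hinv c' hc' u hu
  have i2 : θ2 * θ4 = 1 := hinv c hc u hu
  have e5 : θ4 * (θ3 * (θ2 * θ1)) = 1 := by
    calc θ4 * (θ3 * (θ2 * θ1)) = θ4 * ((θ2 * θ1) * θ3) := by rw [hA _ h3 _ (mul_mem h2 h1)]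
      _ = θ4 * θ2 * (θ1 * θ3) := by group
      _ = θ2 * θ4 := by rw [i1, mul_one, hA _ h4 _ h2]
      _ = 1 := i2
  have e6 : c * c' * c⁻¹ * c'⁻¹ * u * (c * c' * c⁻¹ * c'⁻¹)⁻¹ = u := by
    have e7 : c * c' * c⁻¹ * c'⁻¹ * u * (c * c' * c⁻¹ * c'⁻¹)⁻¹ =
        c * (c' * (c⁻¹ * (c'⁻¹ * u * c'⁻¹⁻¹) * c⁻¹⁻¹) * c'⁻¹) * c⁻¹ := by group
    rw [e7, s1, s2, s3, s4, e5, one_mul]
  exact (mul_inv_eq_iff_eq_mul.1 e6).symm

/-- a fixed-point-free element on a finite group: every element is a commutator -/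
theorem exists_comm_of_fpf [Finite G] {Q : Subgroup G} {x : G} (hx : x ∈ normalizer (Q : Set G))
    (h : ∀ u ∈ Q, x * u * x⁻¹ = u → u = 1) {u : G} (hu : u ∈ Q) : ∃ u' ∈ Q, x * u' * x⁻¹ * u'⁻¹ = u := by
  let f : Q → Q := fun u => ⟨x * u * x⁻¹ * (u : G)⁻¹, mul_mem (conj_mem_of_normalizer hx u.2) (inv_mem u.2)⟩
  have hf : Function.Injective f := by
    intro a b e
    have e1 : x * (a : G) * x⁻¹ * (a : G)⁻¹ = x * b * x⁻¹ * (b : G)⁻¹ := congrArg Subtype.val e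
    have e2 : x * ((b : G)⁻¹ * a) * x⁻¹ = (b : G)⁻¹ * a := by
      calc x * ((b : G)⁻¹ * a) * x⁻¹ = (x * b * x⁻¹)⁻¹ * (x * (a : G) * x⁻¹ * (a : G)⁻¹) * a := by group
        _ = (x * b * x⁻¹)⁻¹ * (x * b * x⁻¹ * (b : G)⁻¹) * a := by rw [e1]
        _ = (b : G)⁻¹ * a := by group
    have e3 := h _ (mul_mem (inv_mem b.2) a.2) e2
    exact (Subtype.ext (inv_mul_eq_one.1 e3)).symm
  obtain ⟨u', hu'⟩ := (Finite.injective_iff_surjective.1 hf) ⟨u, hu⟩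
  exact ⟨u', u'.2, congrArg Subtype.val hu'⟩

/-- conjugations by commuting elements commute -/
theorem conj_conj_of_comm {x m : G} (h : m * x = x * m) (w : G) :
    x * (m⁻¹ * w * m) * x⁻¹ = m⁻¹ * (x * w * x⁻¹) * m := by
  have h5 : x * m⁻¹ = m⁻¹ * x := by
    calc x * m⁻¹ = m⁻¹ * (m * x) * m⁻¹ := by group
      _ = m⁻¹ * (x * m) * m⁻¹ := by rw [h]
      _ = m⁻¹ * x := by group
  have h6 : m * x⁻¹ = x⁻¹ * m := by
    calc m * x⁻¹ = x⁻¹ * (x * m) * x⁻¹ := by group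
      _ = x⁻¹ * (m * x) * x⁻¹ := by rw [h]
      _ = x⁻¹ * m := by group
  calc x * (m⁻¹ * w * m) * x⁻¹ = (x * m⁻¹) * w * (m * x⁻¹) := by group
    _ = (m⁻¹ * x) * w * (x⁻¹ * m) := by rw [h5, h6]
    _ = _ := by group

end grp

variable {G : Type u} [Group G] {ι : Type w} {V : Subgroup G} {R : ι → Subgroup G} {i j : ι} {F : Type v}
  [Field F] {v : F → F → G} {w1 w2 : F → G} {M B : Type u} [AddCommGroup M] [AddCommGroup B]
  [DistribMulAction (NR R i) M] [DistribMulAction (NR R i) B] [Module F M] {p : G → M} {r : G → B}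
  {f : M →+ M →+ B} {φ : M →ₗ[F] M →ₗ[F] F} {s : NR R i → (F ≃+* F)} [CharP F 2]
  [Finite G] [Finite F] {h : FMod V R i j v w1 w2 M B p r f φ s} {t : F → G} {τ : Lie.TorD V R i j v t}
  {N : Type u} [AddCommGroup N] [Module F N] {P1 P2 : G → N} {y : YPair V R i j w1 w2 N P1 P2}
  {n : N →ₗ[F] M} {sf : N →ₗ[F] N →ₗ[F] M} {q : N → N →ₗ[F] F}

namespace TauDat

variable {g : Eig h τ y n sf q} {k : N} {P O : Subgroup G} {a : Fˣ} {x : G} (D : TauDat g k P O a x)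
  {ρ : G} (E : RDat V R i j v w1 w2 t a ρ)
include D E

/-- **the opposite point, fixed by `τ₁`** -/
theorem exists_pt (ha : (a : F) ≠ 1) (hk : k ≠ 0) {m : G} (hm : m ∈ centralizer (R i : Set G))
    (hmV : cj m V = VG g k) : ∃ l, l ≠ i ∧ cj x (cj (ρ * m) (R l)) = cj (ρ * m) (R l) := by
  have hmi : cj m (R i) = R i := cj_eq_self_iff.2 (centralizer_le_normalizer _ hm)
  have hρmi : cj (ρ * m) (R i) = R j := by rw [cj_mul, hmi, E.ri]
  -- `τ₁` normalises `V₂'`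
  have h1 : (ρ * m)⁻¹ * x * (ρ * m) ∈ normalizer (V : Set G) := by
    have h2 := cj_eq_self_iff.2 (D.norm_VG E ha hk)
    rw [← hmV] at h2
    rw [← cj_eq_self_iff]
    have e : (ρ * m)⁻¹ * x * (ρ * m) = m⁻¹ * (ρ⁻¹ * x * ρ * m) := by group
    rw [e, cj_mul, cj_mul, h2, cj_inv_cj]
  obtain ⟨l1, hl1⟩ := h.bt.perm _ h1 j
  have hfixi : cj ((ρ * m)⁻¹ * x * (ρ * m)) (R i) = R i := by
    rw [cj_mul, cj_mul, hρmi, (D.Rj ha).1, ← hρmi, cj_inv_cj]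
  have hl1i : l1 ≠ i := by
    rintro rfl
    exact h.co.ne.symm (h.bt.R_index (cj_injective (hl1.trans hfixi.symm)))
  have hx0 : cj x (cj (ρ * m) (R j)) = cj (ρ * m) (R l1) := by
    rw [← hl1, ← cj_mul, ← cj_mul]
    congr 1
    group
  -- `D`
  obtain ⟨d, hd, e1⟩ := trD g hk hm hmV h.co.ne.symm hl1i
  have hρD : ρ ∈ normalizer (DD V R : Set G) := h.bt.NV_le_ND (h.bt.X_le_NV E.X)
  set d1 := ρ * d * ρ⁻¹ with hd1
  have hd1D : d1 ∈ DD V R := conj_mem_of_normalizer hρD hd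
  have e2 : cj d1 (cj (ρ * m) (R j)) = cj (ρ * m) (R l1) := by
    rw [hd1, cj_mul, cj_mul, cj_mul, cj_inv_cj, e1, ← cj_mul]
  have hxD : x ∈ normalizer (DD V R : Set G) := h.bt.NV_le_ND D.NV
  set z := d1⁻¹ * x with hz
  have hzfix : cj z (cj (ρ * m) (R j)) = cj (ρ * m) (R j) := by
    rw [hz, cj_mul, hx0, ← e2, cj_inv_cj]
  have hzD : x⁻¹ * z ∈ DD V R := by
    have e : x⁻¹ * z = x⁻¹ * d1⁻¹ * x := by rw [hz]; group
    rw [e]
    exact conj_inv_mem_of_normalizer hxD (inv_mem hd1D)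
  have hD2 : IsPGroup 2 (DD V R) := (h.bt.W_isPGroup i).to_le (D_le_W V R i)
  obtain ⟨K, hK1, hK2⟩ := Apt.exists_odd_pow hxD D.odd hzD
  obtain ⟨d2, hd2, e3⟩ := Apt.conj_of_coset hD2 hxD D.odd hK1 hK2
  have hzK : cj (z ^ K) (cj (ρ * m) (R j)) = cj (ρ * m) (R j) :=
    cj_eq_self_iff.2 (pow_mem (cj_eq_self_iff.1 hzfix) K)
  have hx1 : cj x (cj d2 (cj (ρ * m) (R j))) = cj d2 (cj (ρ * m) (R j)) := by
    rw [← e3, ← cj_mul, show d2 * z ^ K * d2⁻¹ * d2 = d2 * z ^ K by group, cj_mul, hzK]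
  -- `d2 (ρ m) = (ρ m) d3`
  set d3 := (ρ * m)⁻¹ * d2 * (ρ * m) with hd3
  have hd3W : d3 ∈ WW V (R i) := by
    have e : d3 = m⁻¹ * (ρ⁻¹ * d2 * ρ) * m := by rw [hd3]; group
    rw [e]
    exact conj_inv_mem_of_normalizer (normalizer_le_WW V (R i) (centralizer_le_normalizer _ hm))
      (D_le_W V R i (conj_inv_mem_of_normalizer hρD hd2))
  obtain ⟨l, hl⟩ := h.bt.perm _ (h.bt.W_le_NV i hd3W) j
  have hli : l ≠ i := by
    rintro rfl
    have h5 : cj d3 (R l) = R l := cj_eq_self_iff.2 (h.bt.W_le_N l hd3W)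
    exact h.co.ne.symm (h.bt.R_index (cj_injective (hl.trans h5.symm)))
  refine ⟨l, hli, ?_⟩
  have e4 : cj (ρ * m) (R l) = cj d2 (cj (ρ * m) (R j)) := by
    rw [← hl, ← cj_mul, ← cj_mul]
    congr 1
    rw [hd3]; group
  rw [e4, hx1]

end TauDat

namespace NodeDat

variable {g : Eig h τ y n sf q} {k : N} {P O : Subgroup G} (d : NodeDat g k P O)
include d

/-- **existence of the apartment data** -/
theorem exists_apt {m0 : NR R i} {β γ : F} (sw : SwapM h n sf k m0 β γ) (hm0 : (m0 : G) ∈ P) :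
    ∃ (ρ m : G) (l : ι), AptData V R i j l ρ m (Sig g k) ∧ m ∈ P ∧ cj m V = VG g k ∧ cj m (VG g k) = V ∧
      (∀ b c, ρ * v b c * ρ⁻¹ = v c b) ∧ cj ρ ((gfr_of g).SG k) = cj (nn w1 w2 1) ((gfr_of g).SG k) := by
  obtain ⟨a, ha⟩ := h.exists_unit
  obtain ⟨x, D⟩ := d.exists_tau sw hm0 a
  obtain ⟨ρ, e1, e2, e3, e4, e5, e6, e7⟩ := exists_r h τ y a
  have E : RDat V R i j v w1 w2 t a ρ := ⟨e1, e2, e3, e4, e5, e6, e7⟩
  obtain ⟨X, hX, dX⟩ := D.diag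
  have hxR : x ∈ normalizer (R i : Set G) := D.NRi
  have hxS : x ∈ normalizer ((gfr_of g).SG k : Set G) := D.qm.nS
  have hxC : x ∈ cmod (R i) ((gfr_of g).SG k) := by
    rw [← hX]
    exact (mem_cmod_iff g (k := k)).2 fun m hm => dX.act hm
  -- `m`
  obtain ⟨m, hmC, hmK⟩ := Apt.exists_m (K := O) (P := P) (τ := x) (m0 := m0) d.two d.PO d.OP D.odd
    D.nO (d.lift x D.nP D.nO fun u hu => by rw [← hX]; exact d.diag_comm dX hu) d.perf hm0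
  set C := Apt.CP P x with hC
  have hCP : C ≤ P := fun c hc => (Apt.mem_CP.1 hc).1
  have hmP : m ∈ P := by
    have h1 : ⁅C, C⁆ ≤ P := by
      rw [commutator_le]
      intro u hu u' hu'
      rw [commutatorElement_def]
      exact mul_mem (mul_mem (mul_mem (hCP hu) (hCP hu')) (inv_mem (hCP hu))) (inv_mem (hCP hu'))
    exact h1 hmC
  have hmx : m * x = x * m := by
    have h1 : ⁅C, C⁆ ≤ C := by
      rw [commutator_le]
      intro u hu u' hu'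
      rw [commutatorElement_def]
      exact mul_mem (mul_mem (mul_mem hu hu') (inv_mem hu)) (inv_mem hu')
    exact (Apt.mem_CP.1 (h1 hmC)).2
  have hmCen := d.PR hmP
  have hmi : cj m (R i) = R i := cj_eq_self_iff.2 (centralizer_le_normalizer _ hmCen)
  -- `m` acts on the lines as `m₀`
  have hκ : ∀ L : Subgroup G, R i ≤ L → L ≤ (gfr_of g).SG k → cj m L = cj (m0 : G) L := by
    intro L hRL hLS
    set κ := (m0 : G)⁻¹ * m with hκ
    have h1 : cj κ L = L := by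
      rw [cj_eq_self_iff]
      apply mem_normalizer_of_conj
      intro u hu
      have h2 := mul_mem (hRL ((d.OK hmK).2 u (hLS hu))) hu
      rwa [inv_mul_cancel_right] at h2
    have e : m = m0 * κ := by rw [hκ]; group
    rw [e, cj_mul, h1]
  have hVS : V ≤ (gfr_of g).SG k := (gfr_of g).V_le_SG h.bt h.co.mem_V k
  have hmV : cj m V = VG g k := by rw [hκ V (h.bt.R_le i) hVS, sw.cj_V g]
  have hmVG : cj m (VG g k) = V := by rw [hκ _ (R_le_VG g k) (VG_le_SG g k), sw.cj_VG g]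
  have hcjS : cj ρ ((gfr_of g).SG k) = cj (nn w1 w2 1) ((gfr_of g).SG k) := by
    obtain ⟨y0, hy0, e⟩ := e1
    rw [e, cj_mul, cj_eq_self_iff.2 ((gfr_of g).Y_norm_SG h.bt h.co.ne k hy0)]
  -- the opposite point
  obtain ⟨l, hl, hfix⟩ := D.exists_pt E ha d.k0 hmCen hmV
  have hQl : cj (ρ * m) (R l) ≤ cj ρ (VG g k) := by
    rw [cj_mul, ← hmV]
    exact cj_mono (cj_mono (h.bt.R_le l))
  have hQS : cj (ρ * m) (R l) ≤ Sig g k := by
    refine hQl.trans ((cj_mono (VG_le_SG g k)).trans ?_)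
    rw [hcjS]
    exact le_sup_right
  have hfpf : ∀ u ∈ cj (ρ * m) (R l), x * u * x⁻¹ = u → u = 1 := by
    intro u hu he
    have h1 := D.fix_VG E ha d.k0 (hQl hu) he
    have h2 : R j = cj (ρ * m) (R i) := by rw [cj_mul, hmi, e3]
    rw [h2] at h1
    have h3 : u ∈ cj (ρ * m) (R l) ⊓ cj (ρ * m) (R i) := mem_inf.2 ⟨hu, h1⟩
    rw [← cj_inf, h.bt.R_inf l i hl, cj_bot] at h3
    exact mem_bot.1 h3
  have hder : ⁅C, C⁆ ≤ centralizer ((cj (ρ * m) (R l) : Subgroup G) : Set G) := by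
    refine derived_cen (A := R i) (fun u hu u' hu' => h.bt.V_comm u (h.bt.R_le i hu) u' (h.bt.R_le i hu'))
      (hCP.trans d.PR) fun c hc u hu => ?_
    obtain ⟨hcP, hcx⟩ := Apt.mem_CP.1 hc
    obtain ⟨u', hu', e⟩ := exists_comm_of_fpf (cj_eq_self_iff.1 hfix) hfpf hu
    set s' := c * u' * c⁻¹ * u'⁻¹ with hs'
    have hs'S : s' ∈ (gfr_of g).SG k := d.triv hcP (hQS hu')
    have hcx' : c * x * c⁻¹ = x := by rw [hcx, mul_inv_cancel_right]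
    have h1 : c * u * c⁻¹ = x * s' * x⁻¹ * u * s'⁻¹ := by
      calc c * u * c⁻¹ = (c * x * c⁻¹) * (c * u' * c⁻¹) * (c * x * c⁻¹)⁻¹ * (c * u' * c⁻¹)⁻¹ := by
            rw [← e]; group
        _ = x * (s' * u') * x⁻¹ * (s' * u')⁻¹ := by rw [hcx', hs']; group
        _ = x * s' * x⁻¹ * (x * u' * x⁻¹ * u'⁻¹) * s'⁻¹ := by group
        _ = _ := by rw [e]
    have hs'T : s' ∈ Sig g k := (le_sup_left : (gfr_of g).SG k ≤ _) hs'S
    have h2 : u * s'⁻¹ = s'⁻¹ * u := d.com u (hQS hu) _ (inv_mem hs'T)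
    have h3 : c * u * c⁻¹ * u⁻¹ = x * s' * x⁻¹ * s'⁻¹ := by
      rw [h1, mul_assoc (x * s' * x⁻¹), h2]; group
    rw [h3]
    exact hxC.2 s' hs'S
  have hm2 : cj m (cj (ρ * m) (R l)) = cj (ρ * m) (R l) :=
    cj_eq_self_iff.2 (centralizer_le_normalizer _ (hder hmC))
  -- `m²` fixes `R j`
  have hmmV : cj m (cj m V) = V := by rw [hmV, hmVG]
  have hmj : cj m (cj m (R j)) = R j := by
    have hVV : ∀ u, u ∈ V ↔ m⁻¹ * (m⁻¹ * u * m) * m ∈ V := by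
      intro u
      conv_lhs => rw [← hmmV]
      rw [mem_cj, mem_cj]
    ext u
    rw [mem_cj, mem_cj]
    have h4 : x * (m⁻¹ * (m⁻¹ * u * m) * m) * x⁻¹ = m⁻¹ * (m⁻¹ * (x * u * x⁻¹) * m) * m := by
      rw [conj_conj_of_comm hmx, conj_conj_of_comm hmx]
    constructor
    · intro hu
      have h1 := h.bt.R_le j hu
      have h2 := (D.cenV ha h1).2 hu
      have h3 : u ∈ V := (hVV u).2 h1
      rw [← D.cenV ha h3]
      rw [h4] at h2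
      exact mul_left_cancel (mul_right_cancel (mul_left_cancel (mul_right_cancel h2)))
    · intro hu
      have h3 := h.bt.R_le j hu
      have h1 := (hVV u).1 h3
      rw [← D.cenV ha h1]
      rw [h4, (D.cenV ha h3).2 hu]
  refine ⟨ρ, m, l, ⟨h.co.ne, e2, e3, e4, hmi, hmmV, hmj, hl, hm2, d.com, hVS.trans le_sup_left, ?_, hQS, ?_, ?_⟩,
    hmP, hmV, hmVG, e6, hcjS⟩
  · rw [hmV]
    exact (VG_le_SG g k).trans le_sup_left
  · exact fun l' hl' => trD g d.k0 hmCen hmV h.co.ne.symm hl'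
  · intro u hu hc
    rw [hmV] at hu
    exact fixD g d.k0 hu hc

end NodeDat

end Cfsg.Agent.Omega.Lie.Nodes

end

section


/-!
# Residues `(0, x)`, types `(sigma)` and `(beta)`, over a bare `BT V R`: the element `τ₁`

`AptH`: the hypotheses (`z` a torus element, `S ≤ T = Σ`, `V'` a second line through `R i`, `P ≤ C(R i)`).
`TauH`: `x = z z^{m₀} κ` of odd order, commuting with `z`, trivial on `S / R i`, `= z²` on `R i` and on `T / S`.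
-/

set_option autoImplicit false
set_option linter.unusedSectionVars false

namespace Cfsg.Agent.Omega.HOneQ

open Subgroup Cfsg.Agent.Omega.BTwo
open Cfsg.Agent.Omega.Lie.Nodes (cmod mem_cmod norm_cmod comm_mod_of_sq odd_conj)

universe u w

variable {G : Type u} [Group G] {ι : Type w}

/-- the hypotheses on the node -/
structure AptH (V : Subgroup G) (R : ι → Subgroup G) (i j : ι) (P O S T V' : Subgroup G) (z ρ m0 : G) : Prop where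
  ne : i ≠ j
  zX : z ∈ XX V R
  zi : z ∈ normalizer (R i : Set G)
  zj : z ∈ normalizer (R j : Set G)
  zo : Odd (orderOf z)
  /-- `z` fixes only two points -/
  tf : ∀ l, l ≠ i → cj z (R l) = R l → l = j
  /-- `z²` has no fixed points on `R i` -/
  zR : ∀ r ∈ R i, z * z * r * (z * z)⁻¹ = r → r = 1
  ρX : ρ ∈ XX V R
  ρi : cj ρ (R i) = R j
  ρj : cj ρ (R j) = R i
  ρz : ρ⁻¹ * z * ρ = z⁻¹
  PR : P ≤ centralizer (R i : Set G)
  zP : z ∈ normalizer (P : Set G)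
  OP : O ≤ P
  OK : O ≤ cmod (R i) S
  PO : P ≤ normalizer (O : Set G)
  zO : z ∈ normalizer (O : Set G)
  two : IsPGroup 2 O
  perf : P ≤ ⁅P, P⁆ ⊔ O
  lift : ∀ c : G, c ∈ normalizer (P : Set G) → c ∈ normalizer (O : Set G) →
    (∀ x ∈ P, c * x * c⁻¹ * x⁻¹ ∈ cmod (R i) S) → ∀ x ∈ P, c * x * c⁻¹ * x⁻¹ ∈ O
  XT : XX V R ≤ normalizer (T : Set G)
  PT : P ≤ normalizer (T : Set G)
  PS : P ≤ normalizer (S : Set G)
  zS : z ∈ normalizer (S : Set G)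
  com : ∀ x ∈ T, ∀ y ∈ T, x * y = y * x
  ST : S ≤ T
  VS : V ≤ S
  VS' : V' ≤ S
  triv : ∀ x ∈ P, ∀ s ∈ T, x * s * x⁻¹ * s⁻¹ ∈ S
  m0P : m0 ∈ P
  m0V : cj m0 V = V'
  m0V' : cj m0 V' = V
  zV' : z ∈ normalizer (V' : Set G)
  /-- `z z^{m₀}` is trivial on `S / R i` -/
  dg : ∀ s ∈ S, z * (m0 * z * m0⁻¹) * s * (z * (m0 * z * m0⁻¹))⁻¹ * s⁻¹ ∈ R i
  SD : S ⊓ WW V (R j) ≤ DD V R
  /-- `z` on `V'` is a scalar -/
  lin : ∀ w ∈ WW V (R i), ∀ y ∈ V', w * (z * y * z⁻¹) * w⁻¹ * (z * y * z⁻¹)⁻¹ = z * (w * y * w⁻¹ * y⁻¹) * z⁻¹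
  /-- `z` on `V / R i` is the inverse scalar -/
  linV : ∀ w ∈ WW V (R i), ∀ y ∈ V, w * (z * y * z⁻¹) * w⁻¹ * (z * y * z⁻¹)⁻¹ = z⁻¹ * (w * y * w⁻¹ * y⁻¹) * z
  VD : V' ⊓ DD V R ≤ R i
  dd : ∀ w ∈ WW V (R i), ∃ d ∈ DD V R, ∀ y ∈ V', d * y * d⁻¹ = w * y * w⁻¹

/-- the properties of `τ₁` -/
structure TauH (V : Subgroup G) (R : ι → Subgroup G) (i : ι) (P O S T : Subgroup G) (z x : G) : Prop where
  odd : Odd (orderOf x)
  comm : x * z = z * x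
  Ri : ∀ r ∈ R i, x * r * x⁻¹ = z * z * r * (z * z)⁻¹
  cm : x ∈ cmod (R i) S
  nP : x ∈ normalizer (P : Set G)
  nO : x ∈ normalizer (O : Set G)
  nT : x ∈ normalizer (T : Set G)
  hP : ∀ u ∈ P, x * u * x⁻¹ * u⁻¹ ∈ O
  qm : ∀ s ∈ T, x * s * x⁻¹ * (z * z * s * (z * z)⁻¹)⁻¹ ∈ S

/-- elements of `cmod A S` normalise the groups between `A` and `S` -/
theorem norm_of_cmod [Finite G] {A S L : Subgroup G} {x : G} (hx : x ∈ cmod A S) (hAL : A ≤ L) (hLS : L ≤ S) :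
    x ∈ normalizer (L : Set G) := by
  apply mem_normalizer_of_conj
  intro u hu
  have h2 := mul_mem (hAL (hx.2 u (hLS hu))) hu
  rwa [inv_mul_cancel_right] at h2

namespace AptH

variable {V : Subgroup G} {R : ι → Subgroup G} {i j : ι} {P O S T V' : Subgroup G} {z ρ m0 : G}
  (h : AptH V R i j P O S T V' z ρ m0)
include h

theorem PRN : P ≤ normalizer (R i : Set G) := h.PR.trans (centralizer_le_normalizer _)

theorem cenR {x : G} (hx : x ∈ P) {r : G} (hr : r ∈ R i) : x * r * x⁻¹ = r := by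
  rw [← mem_centralizer_iff.1 (h.PR hx) r hr, mul_inv_cancel_right]

theorem m0i : cj m0 (R i) = R i := cj_eq_self_iff.2 (h.PRN h.m0P)

theorem RV' (b : BT V R) : R i ≤ V' := by
  rw [← h.m0V, ← h.m0i]
  exact cj_mono (b.R_le i)

theorem RS (b : BT V R) : R i ≤ S := (b.R_le i).trans h.VS

theorem V'W : V' ≤ WW V (R i) := by
  rw [← h.m0V]
  exact cj_le_WW (h.PRN h.m0P)

/-- `z z^{m₀} ∈ cmod (R i) S` -/
theorem dg' : z * (m0 * z * m0⁻¹) ∈ cmod (R i) S :=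
  ⟨mul_mem h.zi (mul_mem (mul_mem (h.PRN h.m0P) h.zi) (inv_mem (h.PRN h.m0P))), h.dg⟩

theorem cmod_norm : P ≤ normalizer (cmod (R i) S : Set G) := fun _ hx => norm_cmod (h.PRN hx) (h.PS hx)

/-- **existence of `τ₁`** -/
theorem exists_tau [Finite G] : ∃ x, TauH V R i P O S T z x := by
  have hmO : m0 ∈ normalizer (O : Set G) := h.PO h.m0P
  have hmP : m0 ∈ normalizer (P : Set G) := le_normalizer h.m0P
  set ζ := m0 * z * m0⁻¹ with hζ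
  have hζO : ζ ∈ normalizer (O : Set G) := mul_mem (mul_mem hmO h.zO) (inv_mem hmO)
  have hζP : ζ ∈ normalizer (P : Set G) := mul_mem (mul_mem hmP h.zP) (inv_mem hmP)
  have hζT : ζ ∈ normalizer (T : Set G) := mul_mem (mul_mem (h.PT h.m0P) (h.XT h.zX)) (inv_mem (h.PT h.m0P))
  set w := m0 * z * m0⁻¹ * z⁻¹ with hw
  have hwP : w ∈ P := by
    have h1 := mul_mem h.m0P (conj_mem_of_normalizer h.zP (inv_mem h.m0P))
    rwa [show m0 * (z * m0⁻¹ * z⁻¹) = w by rw [hw]; group] at h1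
  have hwO : w ∈ normalizer (O : Set G) := h.PO hwP
  have hzC : z ∈ normalizer (cmod (R i) S : Set G) := norm_cmod h.zi h.zS
  have hc : z * z * w ∈ cmod (R i) S := by
    have h1 := conj_mem_of_normalizer hzC h.dg'
    rwa [show z * (z * (m0 * z * m0⁻¹)) * z⁻¹ = z * z * w by rw [hw]; group] at h1
  have hcw : ∀ x ∈ P, (z * z * w) * x * (z * z * w)⁻¹ * x⁻¹ ∈ O := by
    refine h.lift _ (mul_mem (mul_mem h.zP h.zP) (le_normalizer hwP)) (mul_mem (mul_mem h.zO h.zO) hwO)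
      fun u hu => ?_
    have h2 := mul_mem hc (conj_mem_of_normalizer (h.cmod_norm hu) (inv_mem hc))
    rwa [show z * z * w * (u * (z * z * w)⁻¹ * u⁻¹) = z * z * w * u * (z * z * w)⁻¹ * u⁻¹ by group] at h2
  have hcsq : (z * z) * w * (z * z)⁻¹ * w⁻¹ ∈ O := by
    have h4 := hcw w hwP
    rwa [show z * z * w * w * (z * z * w)⁻¹ * w⁻¹ = (z * z) * w * (z * z)⁻¹ * w⁻¹ by group] at h4
  have hcc : z * ζ * z⁻¹ * ζ⁻¹ ∈ O := by
    have h4 := comm_mod_of_sq h.zO h.zo hcsq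
    rwa [show z * w * z⁻¹ * w⁻¹ = z * ζ * z⁻¹ * ζ⁻¹ by rw [hw, hζ]; group] at h4
  obtain ⟨x', h1, h2, h3⟩ := Lie.Nodes.Apt.exists_tau h.two h.zO hζO h.zo (odd_conj h.zo) hcc
  set κ := ζ⁻¹ * x' with hκ
  have hx' : x' = ζ * κ := by rw [hκ]; group
  have hκP : κ ∈ P := h.OP h1
  have hcm : z * x' ∈ cmod (R i) S := by
    have h4 := mul_mem h.dg' (h.OK h1)
    rwa [show z * (m0 * z * m0⁻¹) * κ = z * x' by rw [hx', hζ]; group] at h4
  have hnP : z * x' ∈ normalizer (P : Set G) := by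
    rw [hx']
    exact mul_mem h.zP (mul_mem hζP (le_normalizer hκP))
  have hnO : z * x' ∈ normalizer (O : Set G) := by
    rw [hx']
    exact mul_mem h.zO (mul_mem hζO (le_normalizer h1))
  refine ⟨z * x', Lie.Nodes.Apt.odd_mul h2.symm h.zo h3, by rw [mul_assoc, h2], fun r hr => ?_, hcm, hnP, hnO,
    ?_, ?_, fun s hs => ?_⟩
  · -- on `R i`
    have e1 : z * x' * r * (z * x')⁻¹ = z * (m0 * (z * (m0⁻¹ * (κ * r * κ⁻¹) * m0⁻¹⁻¹) * z⁻¹) * m0⁻¹) * z⁻¹ := by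
      rw [hx', hζ]; group
    rw [e1, h.cenR hκP hr, h.cenR (inv_mem h.m0P) hr, h.cenR h.m0P (conj_mem_of_normalizer h.zi hr)]
    group
  · rw [hx']
    exact mul_mem (h.XT h.zX) (mul_mem hζT (h.PT hκP))
  · refine h.lift _ hnP hnO fun u hu => ?_
    have h2 := mul_mem hcm (conj_mem_of_normalizer (h.cmod_norm hu) (inv_mem hcm))
    rwa [show z * x' * (u * (z * x')⁻¹ * u⁻¹) = z * x' * u * (z * x')⁻¹ * u⁻¹ by group] at h2
  · -- on `T / S`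
    have t1 : κ * s * κ⁻¹ * s⁻¹ ∈ S := h.triv κ hκP s hs
    have hs1 : κ * s * κ⁻¹ ∈ T := conj_mem_of_normalizer (h.PT hκP) hs
    have t2 : m0⁻¹ * (κ * s * κ⁻¹) * m0⁻¹⁻¹ * (κ * s * κ⁻¹)⁻¹ ∈ S := h.triv _ (inv_mem h.m0P) _ hs1
    set s2 := m0⁻¹ * (κ * s * κ⁻¹) * m0⁻¹⁻¹ with hs2
    have hs2T : s2 ∈ T := conj_mem_of_normalizer (h.PT (inv_mem h.m0P)) hs1
    have hs3T : z * s2 * z⁻¹ ∈ T := conj_mem_of_normalizer (h.XT h.zX) hs2T
    have t3 : m0 * (z * s2 * z⁻¹) * m0⁻¹ * (z * s2 * z⁻¹)⁻¹ ∈ S := h.triv _ h.m0P _ hs3T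
    have t4 : s2 * s⁻¹ ∈ S := by
      have := mul_mem t2 t1
      rwa [show s2 * (κ * s * κ⁻¹)⁻¹ * (κ * s * κ⁻¹ * s⁻¹) = s2 * s⁻¹ by group] at this
    have e : z * x' * s * (z * x')⁻¹ * (z * z * s * (z * z)⁻¹)⁻¹ =
        (z * (m0 * (z * s2 * z⁻¹) * m0⁻¹ * (z * s2 * z⁻¹)⁻¹) * z⁻¹) * (z * (z * (s2 * s⁻¹) * z⁻¹) * z⁻¹) := by
      rw [hx', hζ, hs2]; group
    rw [e]
    exact mul_mem (conj_mem_of_normalizer h.zS t3)
      (conj_mem_of_normalizer h.zS (conj_mem_of_normalizer h.zS t4))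

end AptH

end Cfsg.Agent.Omega.HOneQ

end

section


/-!
# Residues `(0, x)`, types `(sigma)` and `(beta)`, over a bare `BT V R`: `τ₁` on the line `V₂' = (V')^ρ`

* `TauH.Rj`, `TauH.cenV` : `C_V(τ₁) = R j`;
* `AptH.tau_norm` : `ρ⁻¹ τ₁ ρ` normalises `V'`, its fixed points on `V'` are in `R i` (`AptH.tau_fix`);
* `AptH.trD`, `AptH.fixD` : `D` is transitive on the points `≠ R i` of `V'`;
* `AptH.exists_pt` : the opposite point.
-/

set_option autoImplicit false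
set_option linter.unusedSectionVars false

namespace Cfsg.Agent.Omega.HOneQ

open Subgroup Cfsg.Agent.Omega.BTwo
open Cfsg.Agent.Omega.Lie.Nodes (cmod mem_cmod norm_cmod comm_mod_of_sq odd_conj exists_comm_of_fpf)

universe u w

variable {G : Type u} [Group G] {ι : Type w} {V : Subgroup G} {R : ι → Subgroup G} {i j : ι}
  {P O S T V' : Subgroup G} {z ρ m0 : G}

/-- `[w^z, l] = [w, l]` for `w ∈ W_i` -/
def Fx (V : Subgroup G) (R : ι → Subgroup G) (i : ι) (z l : G) : Prop :=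
  ∀ w ∈ WW V (R i), z⁻¹ * w * z * l * (z⁻¹ * w * z)⁻¹ * l⁻¹ = w * l * w⁻¹ * l⁻¹

theorem Fx.conj {z l g : G} (h : Fx V R i z l) (hg : g ∈ normalizer (R i : Set G)) (hgz : g * z = z * g) :
    Fx V R i z (g * l * g⁻¹) := by
  intro w hw
  have hw' : g⁻¹ * w * g ∈ WW V (R i) := conj_inv_mem_of_normalizer (normalizer_le_WW V (R i) hg) hw
  have h1 := h _ hw'
  have e1 : g⁻¹ * (z⁻¹ * w * z) * g = z⁻¹ * (g⁻¹ * w * g) * z := by
    calc g⁻¹ * (z⁻¹ * w * z) * g = (z * g)⁻¹ * w * (z * g) := by group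
      _ = (g * z)⁻¹ * w * (g * z) := by rw [hgz]
      _ = _ := by group
  have e2 : z⁻¹ * w * z * (g * l * g⁻¹) * (z⁻¹ * w * z)⁻¹ * (g * l * g⁻¹)⁻¹ =
      g * ((g⁻¹ * (z⁻¹ * w * z) * g) * l * (g⁻¹ * (z⁻¹ * w * z) * g)⁻¹ * l⁻¹) * g⁻¹ := by group
  rw [e2, e1, h1]
  group

theorem Fx.left (b : BT V R) {z v y : G} (hz : z ∈ normalizer (R i : Set G)) (hv : v ∈ V) (hy : y ∈ WW V (R i))
    (h : Fx V R i z (v * y)) (h' : Fx V R i z y) : Fx V R i z v := by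
  intro w hw
  have key : ∀ w ∈ WW V (R i), w * (v * y) * w⁻¹ * (v * y)⁻¹ = (w * v * w⁻¹ * v⁻¹) * (w * y * w⁻¹ * y⁻¹) := by
    intro w hw
    have h1 : w * y * w⁻¹ * y⁻¹ ∈ R i := b.WW_comm i hw hy
    have h2 := b.V_comm v hv _ (b.R_le i h1)
    calc w * (v * y) * w⁻¹ * (v * y)⁻¹ = (w * v * w⁻¹) * (w * y * w⁻¹ * y⁻¹) * v⁻¹ := by group
      _ = (w * v * w⁻¹ * v⁻¹) * (v * (w * y * w⁻¹ * y⁻¹)) * v⁻¹ := by group
      _ = (w * v * w⁻¹ * v⁻¹) * ((w * y * w⁻¹ * y⁻¹) * v) * v⁻¹ := by rw [h2]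
      _ = _ := by group
  have hw' : z⁻¹ * w * z ∈ WW V (R i) := conj_inv_mem_of_normalizer (normalizer_le_WW V (R i) hz) hw
  have h1 := h w hw
  rw [key _ hw', key _ hw, h' w hw] at h1
  exact mul_right_cancel h1

namespace AptH

variable (b : BT V R) (h : AptH V R i j P O S T V' z ρ m0)
include b h

/-- `C_{V'}(W_i) = R_i` -/
theorem cen_V' {y : G} (hy : y ∈ V') (hc : ∀ w ∈ WW V (R i), w * y = y * w) : y ∈ R i := by
  have h1 : m0⁻¹ * y * m0 ∈ V := by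
    rw [← h.m0V] at hy; exact mem_cj.1 hy
  have h2 : m0⁻¹ * y * m0 ∈ R i := by
    refine b.cen_VW h1 ?_
    rw [mem_centralizer_iff]
    intro w hw
    have hw' : m0 * w * m0⁻¹ ∈ WW V (R i) :=
      conj_mem_of_normalizer (normalizer_le_WW V (R i) (h.PRN h.m0P)) hw
    have h3 := hc _ hw'
    calc w * (m0⁻¹ * y * m0) = m0⁻¹ * (m0 * w * m0⁻¹ * y) * m0 := by group
      _ = m0⁻¹ * (y * (m0 * w * m0⁻¹)) * m0 := by rw [h3]
      _ = _ := by group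
  have h3 := h.cenR h.m0P h2
  rw [show m0 * (m0⁻¹ * y * m0) * m0⁻¹ = y by group] at h3
  rw [h3]; exact h2

theorem comm_V' {w y : G} (hw : w ∈ WW V (R i)) (hy : y ∈ V') : w * y * w⁻¹ * y⁻¹ ∈ R i :=
  b.WW_comm i hw (h.V'W hy)

theorem of_fix {w y : G} (hr : w * y * w⁻¹ * y⁻¹ ∈ R i)
    (e : z * (w * y * w⁻¹ * y⁻¹) * z⁻¹ = z⁻¹ * (w * y * w⁻¹ * y⁻¹) * z) : w * y = y * w := by
  have _ := b
  have h1 := h.zR _ hr (by
    calc z * z * (w * y * w⁻¹ * y⁻¹) * (z * z)⁻¹ = z * (z * (w * y * w⁻¹ * y⁻¹) * z⁻¹) * z⁻¹ := by group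
      _ = z * (z⁻¹ * (w * y * w⁻¹ * y⁻¹) * z) * z⁻¹ := by rw [e]
      _ = _ := by group)
  rwa [mul_inv_eq_one, mul_inv_eq_iff_eq_mul] at h1

theorem of_fix' {w y : G} (hr : w * y * w⁻¹ * y⁻¹ ∈ R i)
    (e : z * (w * y * w⁻¹ * y⁻¹) * z⁻¹ = w * y * w⁻¹ * y⁻¹) : w * y = y * w := by
  refine h.of_fix b hr ?_
  have h2 : z⁻¹ * (w * y * w⁻¹ * y⁻¹) * z = w * y * w⁻¹ * y⁻¹ := by
    calc z⁻¹ * (w * y * w⁻¹ * y⁻¹) * z = z⁻¹ * (z * (w * y * w⁻¹ * y⁻¹) * z⁻¹) * z := by rw [e]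
      _ = _ := by group
  rw [e, h2]

/-- `z` has no fixed points on `V'` -/
theorem fpf_V' {y : G} (hy : y ∈ V') (e : z * y * z⁻¹ = y) : y = 1 := by
  have h1 : y ∈ R i := by
    refine h.cen_V' b hy fun w hw => ?_
    have h2 := h.lin w hw y hy
    rw [e] at h2
    exact h.of_fix' b (h.comm_V' b hw hy) h2.symm
  refine h.zR y h1 ?_
  calc z * z * y * (z * z)⁻¹ = z * (z * y * z⁻¹) * z⁻¹ := by group
    _ = y := by rw [e, e]

theorem exists_comm [Finite G] {y : G} (hy : y ∈ V') : ∃ y' ∈ V', z * y' * z⁻¹ * y'⁻¹ = y := by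
  exact exists_comm_of_fpf h.zV' (fun u hu e => h.fpf_V' b hu e) hy

theorem Fx_V' {y : G} (hy : y ∈ V') : Fx V R i z y := by
  have _ := b
  intro w hw
  have h1 := h.lin w hw y hy
  have e : w * (z * y * z⁻¹) * w⁻¹ * (z * y * z⁻¹)⁻¹ =
      z * (z⁻¹ * w * z * y * (z⁻¹ * w * z)⁻¹ * y⁻¹) * z⁻¹ := by group
  rw [e] at h1
  exact mul_left_cancel (mul_right_cancel h1)

theorem mem_R_of_Fx {v : G} (hv : v ∈ V) (hf : Fx V R i z v) : v ∈ R i := by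
  refine b.cen_VW hv ?_
  rw [mem_centralizer_iff]
  intro w hw
  refine h.of_fix b (b.WW_comm i hw (V_le_WW V (R i) hv)) ?_
  rw [← h.linV w hw v hv, ← hf w hw]
  group

end AptH

namespace TauH

variable {x : G} (D : TauH V R i P O S T z x) (b : BT V R) (h : AptH V R i j P O S T V' z ρ m0)
include D b h

theorem NV [Finite G] : x ∈ normalizer (V : Set G) := norm_of_cmod D.cm (b.R_le i) h.VS

/-- `τ₁` centralises `R j` -/
theorem Rj [Finite G] : cj x (R j) = R j ∧ ∀ r ∈ R j, x * r * x⁻¹ = r := by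
  obtain ⟨l, hl⟩ := b.perm x (D.NV b h) j
  have hli : l ≠ i := by
    rintro rfl
    have h1 : cj x (R j) = cj x (R l) := by rw [hl, cj_eq_self_iff.2 D.cm.1]
    exact h.ne.symm (b.R_index (cj_injective h1))
  have hzj : cj z (R j) = R j := cj_eq_self_iff.2 h.zj
  have hlj : l = j := by
    refine h.tf l hli ?_
    rw [← hl, ← cj_mul, ← D.comm, cj_mul, hzj]
  rw [hlj] at hl
  refine ⟨hl, fun r hr => ?_⟩
  have h1 : x * r * x⁻¹ * r⁻¹ ∈ R j := mul_mem (hl.le (conj_mem_cj hr)) (inv_mem hr)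
  have h2 : x * r * x⁻¹ * r⁻¹ ∈ R i := D.cm.2 r (h.VS (b.R_le j hr))
  exact mul_inv_eq_one.1 (b.eq_one h.ne h2 h1)

/-- the fixed points of `τ₁` on `V` -/
theorem cenV [Finite G] {u : G} (hu : u ∈ V) : x * u * x⁻¹ = u ↔ u ∈ R j := by
  refine ⟨fun e => ?_, fun hu => (D.Rj b h).2 u hu⟩
  obtain ⟨a, ha, c, hc, rfl⟩ := b.exists_mul h.ne hu
  have h1 : x * (a * c) * x⁻¹ = (x * a * x⁻¹) * (x * c * x⁻¹) := by group
  rw [h1, (D.Rj b h).2 c hc] at e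
  have h2 := mul_right_cancel e
  rw [D.Ri a ha] at h2
  rw [h.zR a ha h2, one_mul]
  exact hc

/-- `ρ⁻¹ τ₁ ρ` centralises `R i` -/
theorem conj_cen [Finite G] : ρ⁻¹ * x * ρ ∈ centralizer (R i : Set G) := by
  rw [mem_centralizer_iff]
  intro u hu
  have h1 : ρ * u * ρ⁻¹ ∈ R j := h.ρi.le (conj_mem_cj hu)
  have h2 := (D.Rj b h).2 _ h1
  have h3 : x * (ρ * u * ρ⁻¹) = ρ * u * ρ⁻¹ * x := mul_inv_eq_iff_eq_mul.1 h2
  calc u * (ρ⁻¹ * x * ρ) = ρ⁻¹ * (ρ * u * ρ⁻¹ * x) * ρ := by group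
    _ = ρ⁻¹ * (x * (ρ * u * ρ⁻¹)) * ρ := by rw [h3]
    _ = _ := by group

theorem conj_N [Finite G] : ρ⁻¹ * x * ρ ∈ normalizer (R i : Set G) :=
  centralizer_le_normalizer _ (D.conj_cen b h)

/-- `ρ⁻¹ τ₁ ρ` commutes with `z` -/
theorem conj_z : ρ⁻¹ * x * ρ * z = z * (ρ⁻¹ * x * ρ) := by
  have _ := b
  have e1 : z = ρ⁻¹ * z⁻¹ * ρ := by
    have e2 : ρ⁻¹ * z⁻¹ * ρ = (ρ⁻¹ * z * ρ)⁻¹ := by group
    rw [e2, h.ρz, inv_inv]
  have e3 : x * z⁻¹ = z⁻¹ * x := by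
    have := D.comm
    calc x * z⁻¹ = z⁻¹ * (z * x) * z⁻¹ := by group
      _ = z⁻¹ * (x * z) * z⁻¹ := by rw [this]
      _ = z⁻¹ * x := by group
  calc ρ⁻¹ * x * ρ * z = ρ⁻¹ * x * ρ * (ρ⁻¹ * z⁻¹ * ρ) := by rw [← e1]
    _ = ρ⁻¹ * (x * z⁻¹) * ρ := by group
    _ = ρ⁻¹ * (z⁻¹ * x) * ρ := by rw [e3]
    _ = (ρ⁻¹ * z⁻¹ * ρ) * (ρ⁻¹ * x * ρ) := by group
    _ = z * (ρ⁻¹ * x * ρ) := by rw [← e1]

/-- `τ₁` on `V₂'` is `z²` modulo `D` -/
theorem conj_line [Finite G] {w : G} (hw : w ∈ V') : ∃ d ∈ DD V R,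
    ρ⁻¹ * x * ρ * w * (ρ⁻¹ * x * ρ)⁻¹ = d * (z⁻¹ * (z⁻¹ * w * z) * z) := by
  set u := ρ * w * ρ⁻¹ with hu
  have huT : u ∈ T := conj_mem_of_normalizer (h.XT h.ρX) (h.ST (h.VS' hw))
  have huW : u ∈ WW V (R j) := by
    rw [← b.cj_WW h.ρi]
    exact conj_mem_cj (h.V'W hw)
  have hxj : x ∈ normalizer (WW V (R j) : Set G) := normalizer_le_WW V (R j) (cj_eq_self_iff.1 (D.Rj b h).1)
  have hzj : z * z ∈ normalizer (WW V (R j) : Set G) :=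
    mul_mem (normalizer_le_WW V (R j) h.zj) (normalizer_le_WW V (R j) h.zj)
  have hs : x * u * x⁻¹ * (z * z * u * (z * z)⁻¹)⁻¹ ∈ DD V R :=
    h.SD (mem_inf.2 ⟨D.qm u huT,
      mul_mem (conj_mem_of_normalizer hxj huW) (inv_mem (conj_mem_of_normalizer hzj huW))⟩)
  refine ⟨_, conj_inv_mem_of_normalizer (b.NV_le_ND (b.X_le_NV h.ρX)) hs, ?_⟩
  have e1 : z⁻¹ * (z⁻¹ * w * z) * z = ρ⁻¹ * (z * z * u * (z * z)⁻¹) * ρ := by
    have e2 : z⁻¹ * (z⁻¹ * w * z) * z = z⁻¹ * (z⁻¹ * w * z⁻¹⁻¹) * z⁻¹⁻¹ := by group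
    rw [e2, ← h.ρz, hu]; group
  rw [e1, hu]; group

/-- **`ρ⁻¹ τ₁ ρ` normalises `V'`** -/
theorem norm_V' [Finite G] : ρ⁻¹ * x * ρ ∈ normalizer (V' : Set G) := by
  apply mem_normalizer_of_conj
  intro w hw
  set t := ρ⁻¹ * x * ρ with ht
  have htN := D.conj_N b h
  have htz := D.conj_z b h
  rw [← ht] at htN htz
  -- `w = [z, w']`
  obtain ⟨w', hw', e⟩ := h.exists_comm b hw
  obtain ⟨d, hd, e1⟩ := D.conj_line b h hw'
  rw [← ht] at e1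
  set y := z⁻¹ * (z⁻¹ * w' * z) * z with hy
  have hyV : y ∈ V' := conj_inv_mem_of_normalizer h.zV' (conj_inv_mem_of_normalizer h.zV' hw')
  -- `t w t⁻¹ = [z, d y] = [z, d] [z, y]^{d⁻¹}`
  set y1 := z * y * z⁻¹ * y⁻¹ with hy1
  have hy1V : y1 ∈ V' := mul_mem (conj_mem_of_normalizer h.zV' hyV) (inv_mem hyV)
  have hzD : z * d * z⁻¹ * d⁻¹ ∈ V := b.XD h.zX hd
  have hdR : d * y1 * d⁻¹ * y1⁻¹ ∈ R i := h.comm_V' b (D_le_W V R i hd) hy1V
  have e2 : t * w * t⁻¹ = z * (t * w' * t⁻¹) * z⁻¹ * (t * w' * t⁻¹)⁻¹ := by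
    have e3 : t * z * t⁻¹ = z := by rw [htz, mul_inv_cancel_right]
    calc t * w * t⁻¹ = (t * z * t⁻¹) * (t * w' * t⁻¹) * (t * z * t⁻¹)⁻¹ * (t * w' * t⁻¹)⁻¹ := by rw [← e]; group
      _ = _ := by rw [e3]
  have e3 : t * w * t⁻¹ = (z * d * z⁻¹ * d⁻¹ * (d * y1 * d⁻¹ * y1⁻¹)) * y1 := by
    rw [e2, e1, hy1]; group
  set v := z * d * z⁻¹ * d⁻¹ * (d * y1 * d⁻¹ * y1⁻¹) with hv
  have hvV : v ∈ V := mul_mem hzD (b.R_le i hdR)
  -- `v ∈ R i`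
  have f1 : Fx V R i z (t * w * t⁻¹) := (h.Fx_V' b hw).conj htN htz
  rw [e3] at f1
  have f2 := Fx.left b h.zi hvV (h.V'W hy1V) f1 (h.Fx_V' b hy1V)
  have hvR := h.mem_R_of_Fx b hvV f2
  rw [e3]
  exact mul_mem (h.RV' b hvR) hy1V

/-- the fixed points of `ρ⁻¹ τ₁ ρ` on `V'` -/
theorem fix_V' [Finite G] {w : G} (hw : w ∈ V') (e : ρ⁻¹ * x * ρ * w * (ρ⁻¹ * x * ρ)⁻¹ = w) : w ∈ R i := by
  obtain ⟨d, hd, e1⟩ := D.conj_line b h hw
  set y := z⁻¹ * (z⁻¹ * w * z) * z with hy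
  have hyV : y ∈ V' := conj_inv_mem_of_normalizer h.zV' (conj_inv_mem_of_normalizer h.zV' hw)
  rw [e] at e1
  have hdR : d ∈ R i := by
    refine h.VD (mem_inf.2 ⟨?_, hd⟩)
    have : d = w * y⁻¹ := by rw [e1]; group
    rw [this]
    exact mul_mem hw (inv_mem hyV)
  refine h.cen_V' b hw fun w1 hw1 => ?_
  -- `[w1, w] = [w1, y]`
  have e2 : w1 * w * w1⁻¹ * w⁻¹ = w1 * y * w1⁻¹ * y⁻¹ := by
    have h1 : w1 * d * w1⁻¹ = d := by
      have h2 := b.QR i w1 (b.W_le_Q i hw1) d hdR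
      rw [h2, mul_inv_cancel_right]
    have h3 := b.V_comm d (b.R_le i hdR) _ (b.R_le i (h.comm_V' b hw1 hyV))
    calc w1 * w * w1⁻¹ * w⁻¹ = (w1 * d * w1⁻¹) * (w1 * y * w1⁻¹ * y⁻¹) * d⁻¹ := by rw [e1]; group
      _ = d * (w1 * y * w1⁻¹ * y⁻¹) * d⁻¹ := by rw [h1]
      _ = _ := by rw [h3]; group
  have hy1 : z⁻¹ * w * z ∈ V' := conj_inv_mem_of_normalizer h.zV' hw
  -- `z² [w1, y] z⁻² = [w1, w]`
  have h1 := h.lin w1 hw1 y hyV
  have h2 := h.lin w1 hw1 _ hy1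
  rw [show z * y * z⁻¹ = z⁻¹ * w * z by rw [hy]; group] at h1
  rw [show z * (z⁻¹ * w * z) * z⁻¹ = w by group, h1] at h2
  have hr := h.comm_V' b hw1 hw
  have h3 := h.zR _ hr (by
    rw [← e2] at h2
    conv_rhs => rw [h2]
    group)
  rwa [mul_inv_eq_one, mul_inv_eq_iff_eq_mul] at h3

end TauH

end Cfsg.Agent.Omega.HOneQ

end

section


/-!
# Residues `(0, x)`, types `(sigma)` and `(beta)`, over a bare `BT V R`: the apartment

* `AptH.trD`, `AptH.fixD` : `D` is transitive on the points `≠ R i` of `V'`, `C_{V'}(D) = R i`;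
* `AptH.exists_pt` : the opposite point;
* `AptH.exists_apt` : `AptData V R i j l ρ m T`;
* `AptH.exists_swap` : the closed apartment.
-/

set_option autoImplicit false
set_option linter.unusedSectionVars false

namespace Cfsg.Agent.Omega.HOneQ

open Subgroup Cfsg.Agent.Omega.BTwo
open Cfsg.Agent.Omega.Lie.Nodes (cmod AptData derived_cen exists_comm_of_fpf conj_conj_of_comm)

universe u w

variable {G : Type u} [Group G] {ι : Type w} {V : Subgroup G} {R : ι → Subgroup G} {i j : ι}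
  {P O S T V' : Subgroup G} {z ρ m0 : G}

namespace AptH

variable (b : BT V R) (h : AptH V R i j P O S T V' z ρ m0)
include b h

/-- `D` is transitive on the points `≠ R i` of `V'` -/
theorem trD {m : G} (hm : m ∈ normalizer (R i : Set G)) (hmV : cj m V = V') {l l' : ι} (hl : l ≠ i) (hl' : l' ≠ i) :
    ∃ d ∈ DD V R, cj d (cj m (R l)) = cj m (R l') := by
  obtain ⟨w, hw, e⟩ := b.trans i hl hl'
  have hw' : m * w * m⁻¹ ∈ WW V (R i) := conj_mem_of_normalizer (normalizer_le_WW V (R i) hm) hw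
  obtain ⟨d, hd, e1⟩ := h.dd _ hw'
  refine ⟨d, hd, ?_⟩
  have h1 : cj (m * w * m⁻¹) (cj m (R l)) = cj m (R l') := by
    rw [← cj_mul, inv_mul_cancel_right, cj_mul, e]
  rw [← h1]
  have hle : cj m (R l) ≤ V' := by
    rw [← hmV]
    exact cj_mono (b.R_le l)
  ext x
  constructor
  · rintro ⟨u, hu, rfl⟩
    exact ⟨u, hu, (e1 u (hle hu)).symm⟩
  · rintro ⟨u, hu, rfl⟩
    exact ⟨u, hu, e1 u (hle hu)⟩

/-- `C_{V'}(D) = R i` -/
theorem fixD {x : G} (hx : x ∈ V') (hc : ∀ d ∈ DD V R, d * x = x * d) : x ∈ R i := by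
  refine h.cen_V' b hx fun w hw => ?_
  obtain ⟨d, hd, e⟩ := h.dd w hw
  have h1 := e x hx
  rw [hc d hd, mul_inv_cancel_right] at h1
  exact (mul_inv_eq_iff_eq_mul.1 h1.symm)

/-- **the opposite point, fixed by `τ₁`** -/
theorem exists_pt [Finite G] {x : G} (D : TauH V R i P O S T z x) {m : G} (hm : m ∈ normalizer (R i : Set G))
    (hmV : cj m V = V') : ∃ l, l ≠ i ∧ cj x (cj (ρ * m) (R l)) = cj (ρ * m) (R l) := by
  have hmi : cj m (R i) = R i := cj_eq_self_iff.2 hm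
  have hρmi : cj (ρ * m) (R i) = R j := by rw [cj_mul, hmi, h.ρi]
  -- `τ₁` normalises `V₂'`
  have h1 : (ρ * m)⁻¹ * x * (ρ * m) ∈ normalizer (V : Set G) := by
    have h2 := cj_eq_self_iff.2 (D.norm_V' b h)
    rw [← hmV] at h2
    rw [← cj_eq_self_iff]
    have e : (ρ * m)⁻¹ * x * (ρ * m) = m⁻¹ * (ρ⁻¹ * x * ρ * m) := by group
    rw [e, cj_mul, cj_mul, h2, cj_inv_cj]
  obtain ⟨l1, hl1⟩ := b.perm _ h1 j
  have hfixi : cj ((ρ * m)⁻¹ * x * (ρ * m)) (R i) = R i := by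
    rw [cj_mul, cj_mul, hρmi, (D.Rj b h).1, ← hρmi, cj_inv_cj]
  have hl1i : l1 ≠ i := by
    rintro rfl
    exact h.ne.symm (b.R_index (cj_injective (hl1.trans hfixi.symm)))
  have hx0 : cj x (cj (ρ * m) (R j)) = cj (ρ * m) (R l1) := by
    rw [← hl1, ← cj_mul, ← cj_mul]
    congr 1
    group
  -- `D`
  obtain ⟨d, hd, e1⟩ := h.trD b hm hmV h.ne.symm hl1i
  have hρD : ρ ∈ normalizer (DD V R : Set G) := b.NV_le_ND (b.X_le_NV h.ρX)
  set d1 := ρ * d * ρ⁻¹ with hd1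
  have hd1D : d1 ∈ DD V R := conj_mem_of_normalizer hρD hd
  have e2 : cj d1 (cj (ρ * m) (R j)) = cj (ρ * m) (R l1) := by
    rw [hd1, cj_mul, cj_mul, cj_mul, cj_inv_cj, e1, ← cj_mul]
  have hxD : x ∈ normalizer (DD V R : Set G) := b.NV_le_ND (D.NV b h)
  set g := d1⁻¹ * x with hg
  have hzfix : cj g (cj (ρ * m) (R j)) = cj (ρ * m) (R j) := by
    rw [hg, cj_mul, hx0, ← e2, cj_inv_cj]
  have hzD : x⁻¹ * g ∈ DD V R := by
    have e : x⁻¹ * g = x⁻¹ * d1⁻¹ * x := by rw [hg]; group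
    rw [e]
    exact conj_inv_mem_of_normalizer hxD (inv_mem hd1D)
  have hD2 : IsPGroup 2 (DD V R) := IsPGroup.to_le ((O2_isPGroup _).to_le (b.W_le_Q i)) (D_le_W V R i)
  obtain ⟨K, hK1, hK2⟩ := Lie.Nodes.Apt.exists_odd_pow hxD D.odd hzD
  obtain ⟨d2, hd2, e3⟩ := Lie.Nodes.Apt.conj_of_coset hD2 hxD D.odd hK1 hK2
  have hzK : cj (g ^ K) (cj (ρ * m) (R j)) = cj (ρ * m) (R j) :=
    cj_eq_self_iff.2 (pow_mem (cj_eq_self_iff.1 hzfix) K)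
  have hx1 : cj x (cj d2 (cj (ρ * m) (R j))) = cj d2 (cj (ρ * m) (R j)) := by
    rw [← e3, ← cj_mul, show d2 * g ^ K * d2⁻¹ * d2 = d2 * g ^ K by group, cj_mul, hzK]
  -- `d2 (ρ m) = (ρ m) d3`
  set d3 := (ρ * m)⁻¹ * d2 * (ρ * m) with hd3
  have hd3W : d3 ∈ WW V (R i) := by
    have e : d3 = m⁻¹ * (ρ⁻¹ * d2 * ρ) * m := by rw [hd3]; group
    rw [e]
    exact conj_inv_mem_of_normalizer (normalizer_le_WW V (R i) hm)
      (D_le_W V R i (conj_inv_mem_of_normalizer hρD hd2))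
  obtain ⟨l, hl⟩ := b.perm _ (b.W_le_NV i hd3W) j
  have hli : l ≠ i := by
    rintro rfl
    have h5 : cj d3 (R l) = R l := cj_eq_self_iff.2 (b.W_le_N l hd3W)
    exact h.ne.symm (b.R_index (cj_injective (hl.trans h5.symm)))
  refine ⟨l, hli, ?_⟩
  have e4 : cj (ρ * m) (R l) = cj d2 (cj (ρ * m) (R j)) := by
    rw [← hl, ← cj_mul, ← cj_mul]
    congr 1
    rw [hd3]; group
  rw [e4, hx1]

/-- **existence of the apartment data** -/
theorem exists_apt [Finite G] : ∃ (m : G) (l : ι), AptData V R i j l ρ m T ∧ m ∈ P ∧ cj m V = V' ∧ cj m V' = V ∧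
    m0⁻¹ * m ∈ O := by
  obtain ⟨x, D⟩ := h.exists_tau
  -- `m`
  obtain ⟨m, hmC, hmK⟩ := Lie.Nodes.Apt.exists_m (K := O) (P := P) (τ := x) (m0 := m0) h.two h.PO h.OP D.odd
    D.nO D.hP h.perf h.m0P
  set C := Lie.Nodes.Apt.CP P x with hC
  have hCP : C ≤ P := fun c hc => (Lie.Nodes.Apt.mem_CP.1 hc).1
  have hmP : m ∈ P := by
    have h1 : ⁅C, C⁆ ≤ P := by
      rw [commutator_le]
      intro u hu u' hu'
      rw [commutatorElement_def]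
      exact mul_mem (mul_mem (mul_mem (hCP hu) (hCP hu')) (inv_mem (hCP hu))) (inv_mem (hCP hu'))
    exact h1 hmC
  have hmx : m * x = x * m := by
    have h1 : ⁅C, C⁆ ≤ C := by
      rw [commutator_le]
      intro u hu u' hu'
      rw [commutatorElement_def]
      exact mul_mem (mul_mem (mul_mem hu hu') (inv_mem hu)) (inv_mem hu')
    exact (Lie.Nodes.Apt.mem_CP.1 (h1 hmC)).2
  have hmN : m ∈ normalizer (R i : Set G) := h.PRN hmP
  have hmi : cj m (R i) = R i := cj_eq_self_iff.2 hmN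
  -- `m` acts on the lines as `m₀`
  have hκ : ∀ L : Subgroup G, R i ≤ L → L ≤ S → cj m L = cj m0 L := by
    intro L hRL hLS
    have h1 : cj (m0⁻¹ * m) L = L := cj_eq_self_iff.2 (norm_of_cmod (h.OK hmK) hRL hLS)
    have e : m = m0 * (m0⁻¹ * m) := by group
    rw [e, cj_mul, h1]
  have hmV : cj m V = V' := by rw [hκ V (b.R_le i) h.VS, h.m0V]
  have hmV' : cj m V' = V := by rw [hκ _ (h.RV' b) h.VS', h.m0V']
  -- the opposite point
  obtain ⟨l, hl, hfix⟩ := h.exists_pt b D hmN hmV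
  have hQl : cj (ρ * m) (R l) ≤ cj ρ V' := by
    rw [cj_mul, ← hmV]
    exact cj_mono (cj_mono (b.R_le l))
  have hQT : cj (ρ * m) (R l) ≤ T := by
    refine hQl.trans ?_
    rw [← cj_eq_self_iff.2 (h.XT h.ρX)]
    exact cj_mono (h.VS'.trans h.ST)
  have hfpf : ∀ u ∈ cj (ρ * m) (R l), x * u * x⁻¹ = u → u = 1 := by
    intro u hu he
    have h0 := mem_cj.1 (hQl hu)
    have h1 := D.fix_V' b h h0 (by
      calc ρ⁻¹ * x * ρ * (ρ⁻¹ * u * ρ) * (ρ⁻¹ * x * ρ)⁻¹ = ρ⁻¹ * (x * u * x⁻¹) * ρ := by group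
        _ = _ := by rw [he])
    have h2 : u ∈ cj (ρ * m) (R i) := by
      rw [cj_mul, hmi, mem_cj]
      exact h1
    have h3 : u ∈ cj (ρ * m) (R l) ⊓ cj (ρ * m) (R i) := mem_inf.2 ⟨hu, h2⟩
    rw [← cj_inf, b.R_inf l i hl, cj_bot] at h3
    exact mem_bot.1 h3
  have hder : ⁅C, C⁆ ≤ centralizer ((cj (ρ * m) (R l) : Subgroup G) : Set G) := by
    refine derived_cen (A := R i) (fun u hu u' hu' => b.V_comm u (b.R_le i hu) u' (b.R_le i hu'))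
      (hCP.trans h.PR) fun c hc u hu => ?_
    obtain ⟨hcP, hcx⟩ := Lie.Nodes.Apt.mem_CP.1 hc
    obtain ⟨u', hu', e⟩ := exists_comm_of_fpf (cj_eq_self_iff.1 hfix) hfpf hu
    set s' := c * u' * c⁻¹ * u'⁻¹ with hs'
    have hs'S : s' ∈ S := h.triv c hcP _ (hQT hu')
    have hcx' : c * x * c⁻¹ = x := by rw [hcx, mul_inv_cancel_right]
    have h1 : c * u * c⁻¹ = x * s' * x⁻¹ * u * s'⁻¹ := by
      calc c * u * c⁻¹ = (c * x * c⁻¹) * (c * u' * c⁻¹) * (c * x * c⁻¹)⁻¹ * (c * u' * c⁻¹)⁻¹ := by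
            rw [← e]; group
        _ = x * (s' * u') * x⁻¹ * (s' * u')⁻¹ := by rw [hcx', hs']; group
        _ = x * s' * x⁻¹ * (x * u' * x⁻¹ * u'⁻¹) * s'⁻¹ := by group
        _ = _ := by rw [e]
    have hs'T : s' ∈ T := h.ST hs'S
    have h2 : u * s'⁻¹ = s'⁻¹ * u := h.com u (hQT hu) _ (inv_mem hs'T)
    have h3 : c * u * c⁻¹ * u⁻¹ = x * s' * x⁻¹ * s'⁻¹ := by
      rw [h1, mul_assoc (x * s' * x⁻¹), h2]; group
    rw [h3]
    exact D.cm.2 s' hs'S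
  have hm2 : cj m (cj (ρ * m) (R l)) = cj (ρ * m) (R l) :=
    cj_eq_self_iff.2 (centralizer_le_normalizer _ (hder hmC))
  -- `m²` fixes `R j`
  have hmmV : cj m (cj m V) = V := by rw [hmV, hmV']
  have hmj : cj m (cj m (R j)) = R j := by
    have hVV : ∀ u, u ∈ V ↔ m⁻¹ * (m⁻¹ * u * m) * m ∈ V := by
      intro u
      conv_lhs => rw [← hmmV]
      rw [mem_cj, mem_cj]
    ext u
    rw [mem_cj, mem_cj]
    have h4 : x * (m⁻¹ * (m⁻¹ * u * m) * m) * x⁻¹ = m⁻¹ * (m⁻¹ * (x * u * x⁻¹) * m) * m := by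
      rw [conj_conj_of_comm hmx, conj_conj_of_comm hmx]
    constructor
    · intro hu
      have h1 := b.R_le j hu
      have h2 := (D.cenV b h h1).2 hu
      have h3 : u ∈ V := (hVV u).2 h1
      rw [← D.cenV b h h3]
      rw [h4] at h2
      exact mul_left_cancel (mul_right_cancel (mul_left_cancel (mul_right_cancel h2)))
    · intro hu
      have h3 := b.R_le j hu
      have h1 := (hVV u).1 h3
      rw [← D.cenV b h h1]
      rw [h4, (D.cenV b h h3).2 hu]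
  refine ⟨m, l, ⟨h.ne, h.ρX, h.ρi, h.ρj, hmi, hmmV, hmj, hl, hm2, h.com, h.VS.trans h.ST, ?_, hQT, ?_, ?_⟩,
    hmP, hmV, hmV', hmK⟩
  · rw [hmV]
    exact h.VS'.trans h.ST
  · exact fun l' hl' => h.trD b hmN hmV h.ne.symm hl'
  · intro u hu hc
    rw [hmV] at hu
    exact h.fixD b hu hc

/-- **The closed apartment.** -/
theorem exists_swap [Finite G] : ∃ n0 m : G, n0 ∈ XX V R ∧ cj n0 (R i) = R j ∧ m ∈ P ∧ cj m V = V' ∧ cj m V' = V ∧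
    (n0 * m * n0 * m)⁻¹ * (m * n0 * m * n0) ∈ XX V R ⊓ normalizer (R i : Set G) ∧
    ∀ l, l ≠ i → ∃ d ∈ DD V R, cj d (cj m (R j)) = cj m (R l) := by
  obtain ⟨m, l, A, hmP, hmV, hmV', -⟩ := h.exists_apt b
  obtain ⟨n0, hn0X, hn0, hsw1, hsw2, -⟩ := A.exists_n b
  exact ⟨n0, m, hn0X, hn0, hmP, hmV, hmV', mem_inf.2 ⟨hsw1, cj_eq_self_iff.1 hsw2⟩, A.tr⟩

end AptH

end Cfsg.Agent.Omega.HOneQ

end
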