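import Cfsg.Agent.Mrg.Omega.Lie.Nodes.FratRes
import Cfsg.Agent.Mrg.Omega.Lie.Nodes.SigGrp
import Cfsg.Agent.Mrg.Omega.Lie.Nodes.AptR
import Cfsg.Agent.Mrg.Omega.Lie.End.Zero
import Cfsg.Agent.Mrg.ParSys.QuadSig
import Cfsg.Agent.Mrg.Omega.BTwo.ModG

section


/-!
# NODE LIE, TEXT NODES (#14331), abstract frame `NodeFr`: the multiplier

`P` generated by its 2-elements, `x ∈ P`, `x e = ε e`, `x n_g ≡ c' n_g mod e + Z`: `ε c' = 1` (types (sigma) and (beta)).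
In type (beta) `P` preserves `Q_N(c e + z + c' n_g) = c c' + Q(z)` up to scalars.
-/

set_option autoImplicit false
set_option linter.unusedSectionVars false

namespace Cfsg.Agent.Omega.Lie.Nodes

open Submodule

universe u v w x y

/-- a polynomial of degree 3 without constant term vanishing everywhere, `q ≥ 4` -/
theorem cubic_zero' {F : Type v} [Field F] [CharP F 2] {A B C ζ : F} (h0 : ζ ≠ 0) (h1 : ζ ≠ 1)
    (h : ∀ l : F, l * A + l * l * B + l * l * l * C = 0) : A = 0 ∧ B = 0 ∧ C = 0 := by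
  have h2 : (2 : F) = 0 := CharTwo.two_eq_zero
  have e1 := h 1
  have e2 := h ζ
  have e3 := h (ζ + 1)
  have e2' : A + ζ * B + ζ * ζ * C = 0 := by
    have : ζ * (A + ζ * B + ζ * ζ * C) = 0 := by linear_combination e2
    exact (mul_eq_zero.1 this).resolve_left h0
  have hz1 : ζ + 1 ≠ 0 := by
    intro h3
    apply h1
    have : ζ = -1 := eq_neg_of_add_eq_zero_left h3
    rw [this, CharTwo.neg_eq]
  have e3' : A + (ζ + 1) * B + (ζ + 1) * (ζ + 1) * C = 0 := by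
    have : (ζ + 1) * (A + (ζ + 1) * B + (ζ + 1) * (ζ + 1) * C) = 0 := by linear_combination e3
    exact (mul_eq_zero.1 this).resolve_left hz1
  have hA : A = 0 := by
    linear_combination e1 + e2' + e3' - (A + (ζ + 1) * B + (ζ * ζ + ζ + 1) * C) * h2
  have hBC : B + C = 0 := by linear_combination e1 - hA
  have hC : (ζ - 1) * C = 0 := by
    have : ζ * (B + ζ * C) = 0 := by linear_combination e2' - hA
    have h3 := (mul_eq_zero.1 this).resolve_left h0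
    linear_combination h3 - hBC
  have hC0 := (mul_eq_zero.1 hC).resolve_left (sub_ne_zero.2 h1)
  exact ⟨hA, by rw [hC0, add_zero] at hBC; exact hBC, hC0⟩

variable {F : Type v} [Field F] {M : Type u} [AddCommGroup M] [Module F M] {N : Type w} [AddCommGroup N] [Module F N]
  {A : Type x} [AddCommGroup A] [Module F A] {H : Type y} [Group H] [DistribMulAction H M]

open Classical in
/-- the quadratic form `q_N` -/
noncomputable def QN (e : M) (n : N →ₗ[F] M) (sf : N →ₗ[F] A →ₗ[F] M) (q : A → N → F) (g : N) (m : M) : F :=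
  if K : ∃ c : F, ∃ a : A, ∃ c' : F, m = c • e + sf g a + c' • n g then
    K.choose * K.choose_spec.choose_spec.choose + q K.choose_spec.choose g else 0

namespace NodeFr

variable {e : M} {om : M →ₗ[F] F} {M0 : Submodule F M} {n : N →ₗ[F] M} {T : Fˣ → H} {α : A → H}
    {l : A → M → F} {sf : N →ₗ[F] A →ₗ[F] M} {q : A → N → F} {P K : Subgroup H}
    (h : NodeFr e om M0 n T α l sf q P K) {g : N}
include h

theorem q_zero : q 0 g = 0 := by
  have h1 := h.q_smul 0 0 g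
  rw [zero_smul] at h1
  rw [h1]; ring

theorem QN_eq (hg : g ≠ 0) (hk : ∀ a, sf g a = 0 → q a g = 0) (c : F) (a : A) (c' : F) :
    QN e n sf q g (c • e + sf g a + c' • n g) = c * c' + q a g := by
  have H : ∃ c₁ : F, ∃ a₁ : A, ∃ c₁' : F, c • e + sf g a + c' • n g =
      c₁ • e + sf g a₁ + c₁' • n g := ⟨c, a, c', rfl⟩
  unfold QN
  rw [dif_pos H]
  set c₁ := H.choose
  set a₁ := H.choose_spec.choose
  set c₁' := H.choose_spec.choose_spec.choose
  have e1 : c • e + sf g a + c' • n g = c₁ • e + sf g a₁ + c₁' • n g :=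
    H.choose_spec.choose_spec.choose_spec
  obtain ⟨h1, h2, h3⟩ := h.indep (c₁ - c) (sf g (a₁ - a)) ((c₁' - c') • g) (h.sf_mem _ _) (by
    rw [sub_smul, map_sub, map_smul, sub_smul]
    have : c₁ • e - c • e + (sf g a₁ - sf g a) + (c₁' • n g - c' • n g) =
      (c₁ • e + sf g a₁ + c₁' • n g) - (c • e + sf g a + c' • n g) := by abel
    rw [this, e1, sub_self])
  have h4 : c₁' = c' := sub_eq_zero.1 ((smul_eq_zero.1 h3).resolve_right hg)
  have h5 : q a₁ g = q a g := by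
    rw [map_sub] at h2
    exact h.q_congr hk (sub_eq_zero.1 h2)
  have h6 : c₁ = c := sub_eq_zero.1 h1
  change c₁ * c₁' + q a₁ g = c * c' + q a g
  rw [h6, h4, h5]

/-- the action of `A` on `N_g` -/
theorem A_N (b : A) (c : F) (a : A) (d : F) :
    α b • (c • e + sf g a + d • n g) =
      (c + l b (sf g a) + d * q b g) • e + sf g (a + d • b) + d • n g := by
  have hb := h.A_mem b
  rw [smul_add, smul_add, h.P_lin _ hb, h.P_lin _ hb, h.A_e, h.A_0 b _ (h.sf_mem _ _), h.A_1, map_add, map_smul]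
  module

theorem QN_A [CharP F 2] (hg : g ≠ 0) (hk : ∀ a, sf g a = 0 → q a g = 0) (b : A)
    {m : M} (hm : m ∈ NN e n sf g) : QN e n sf q g (α b • m) = QN e n sf q g m := by
  obtain ⟨c, a, d, rfl⟩ := mem_NN.1 hm
  rw [h.A_N, h.QN_eq hg hk, h.QN_eq hg hk, h.q_add, h.q_smul, map_smul]
  have h1 : l a (d • sf g b) = d * l b (sf g a) := by
    rw [← map_smul, h.l_sym, h.l_smul _ _ _ (h.sf_mem g a)]
  rw [h1]
  have h2 : (2 : F) = 0 := CharTwo.two_eq_zero
  linear_combination (d * l b (sf g a) + d ^ 2 * q b g) * h2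

section P

variable (hg : g ≠ 0) (hom : Om F P e (n g)) (hk : ∀ a, sf g a = 0 → q a g = 0)

include hg hom hk in
theorem QN_om [CharP F 2] {m : M} (hm : Om F P e m) (c : F) : QN e n sf q g (c • m) = 0 := by
  rcases (h.om_iff hg hom m).1 hm with ⟨c1, -, rfl⟩ | ⟨c1, -, a, rfl⟩
  · have e2 : c • c1 • e = (c * c1) • e + sf g 0 + (0 : F) • n g := by
      rw [map_zero, zero_smul, add_zero, add_zero, smul_smul]
    rw [e2, h.QN_eq hg hk, h.q_zero, mul_zero, add_zero]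
  · have e2 : c • c1 • (n g + sf g a + q a g • e) =
        (c * c1 * q a g) • e + sf g ((c * c1) • a) + (c * c1) • n g := by
      rw [map_smul]
      module
    rw [e2, h.QN_eq hg hk, h.q_smul]
    have h2 : (2 : F) = 0 := CharTwo.two_eq_zero
    linear_combination (c * c1 * (c * c1) * q a g) * h2

include hg hom hk in
/-- `q_N (x (n_g + λ z + λ² Q(z) e)) = 0` -/
theorem QN_curve [CharP F 2] {x : H} (hx : x ∈ P) (a : A) (r : F) :
    QN e n sf q g (x • ((r * r * q a g) • e + sf g (r • a) + n g)) = 0 := by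
  have e1 : (r * r * q a g) • e + sf g (r • a) + n g = α (r • a) • n g := by
    rw [h.A_1, h.q_smul]
    module
  rw [e1]
  have h1 := h.QN_om hg hom hk (h.om_act hx (h.om_act (h.A_mem (r • a)) hom)) 1
  rwa [one_smul] at h1

include hg hom hk in
/-- an element fixing `⟨e⟩` and `⟨n_g⟩` -/
theorem QN_fix [CharP F 2] (hF : ∃ a : F, a ≠ 0 ∧ a ≠ 1) (han : ∀ a, q a g = 0 → sf g a = 0) {x : H} (hx : x ∈ P)
    {ε c' : F} (hε0 : ε ≠ 0) (hc0 : c' ≠ 0) (hε : x • e = ε • e) (hc' : x • n g = c' • n g)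
    {m : M} (hm : m ∈ NN e n sf g) : QN e n sf q g (x • m) = (ε * c') * QN e n sf q g m := by
  obtain ⟨ζ, hζ, hζ1⟩ := hF
  have h2 : (2 : F) = 0 := CharTwo.two_eq_zero
  have hl := h.P_lin x hx
  have key : ∀ a, ∃ a', x • sf g a = sf g a' ∧ q a' g = ε * c' * q a g := by
    intro a
    by_cases hQ : q a g = 0
    · refine ⟨0, ?_, ?_⟩
      · rw [han a hQ, smul_zero, map_zero]
      · rw [h.q_zero, hQ, mul_zero]
    obtain ⟨c1, l1, c2, e1⟩ := mem_NN.1 (h.NN_act hg hom hx (mem_NN.2 ⟨0, a, 0, by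
      rw [zero_smul, zero_smul, zero_add, add_zero]⟩ : sf g a ∈ NN e n sf g))
    have h3 : ∀ r : F, r * (c1 * c') + r * r * (c1 * c2 + ε * q a g * c' + q l1 g) +
        r * r * r * (ε * q a g * c2) = 0 := by
      intro r
      have h4 := h.QN_curve hg hom hk hx a r
      have e2 : x • ((r * r * q a g) • e + sf g (r • a) + n g) =
          (r * r * q a g * ε + r * c1) • e + sf g (r • l1) + (r * c2 + c') • n g := by
        rw [smul_add, smul_add, hl, hε, map_smul, hl, e1, hc', map_smul]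
        module
      rw [e2, h.QN_eq hg hk, h.q_smul] at h4
      linear_combination h4
    obtain ⟨hA, hB, hC⟩ := cubic_zero' hζ hζ1 h3
    have hc1 : c1 = 0 := (mul_eq_zero.1 hA).resolve_right hc0
    have hc2 : c2 = 0 := (mul_eq_zero.1 hC).resolve_left (mul_ne_zero hε0 hQ)
    refine ⟨l1, ?_, ?_⟩
    · rw [e1, hc1, hc2, zero_smul, zero_smul, zero_add, add_zero]
    · rw [hc1, zero_mul, zero_add] at hB
      linear_combination hB - ε * q a g * c' * h2
  obtain ⟨c, a, d, rfl⟩ := mem_NN.1 hm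
  obtain ⟨a', e1, e2⟩ := key a
  have e3 : x • (c • e + sf g a + d • n g) = (c * ε) • e + sf g a' + (d * c') • n g := by
    rw [smul_add, smul_add, hl, hε, e1, hl, hc', smul_smul, smul_smul]
  rw [e3, h.QN_eq hg hk, h.QN_eq hg hk, e2]
  ring

include hg hom hk in
/-- an element swapping `⟨e⟩` and `⟨n_g⟩` -/
theorem QN_swap [CharP F 2] (hF : ∃ a : F, a ≠ 0 ∧ a ≠ 1) (han : ∀ a, q a g = 0 → sf g a = 0) {m₀ : H} (hm₀ : m₀ ∈ P)
    {β γ : F} (hβ : β ≠ 0) (hγ : γ ≠ 0) (hm1 : m₀ • e = β • n g) (hm2 : m₀ • n g = γ • e)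
    {m : M} (hm : m ∈ NN e n sf g) : QN e n sf q g (m₀ • m) = (β * γ) * QN e n sf q g m := by
  obtain ⟨ζ, hζ, hζ1⟩ := hF
  have h2 : (2 : F) = 0 := CharTwo.two_eq_zero
  have hl := h.P_lin m₀ hm₀
  have key : ∀ a, ∃ a', m₀ • sf g a = sf g a' ∧ q a' g = β * γ * q a g := by
    intro a
    by_cases hQ : q a g = 0
    · refine ⟨0, ?_, ?_⟩
      · rw [han a hQ, smul_zero, map_zero]
      · rw [h.q_zero, hQ, mul_zero]
    obtain ⟨c1, l1, c2, e1⟩ := mem_NN.1 (h.NN_act hg hom hm₀ (mem_NN.2 ⟨0, a, 0, by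
      rw [zero_smul, zero_smul, zero_add, add_zero]⟩ : sf g a ∈ NN e n sf g))
    have h3 : ∀ r : F, r * (γ * c2) + r * r * (c1 * c2 + γ * q a g * β + q l1 g) +
        r * r * r * (c1 * q a g * β) = 0 := by
      intro r
      have h4 := h.QN_curve hg hom hk hm₀ a r
      have e2 : m₀ • ((r * r * q a g) • e + sf g (r • a) + n g) =
          (γ + r * c1) • e + sf g (r • l1) + (r * c2 + r * r * q a g * β) • n g := by
        rw [smul_add, smul_add, hl, hm1, map_smul, hl, e1, hm2, map_smul]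
        module
      rw [e2, h.QN_eq hg hk, h.q_smul] at h4
      linear_combination h4
    obtain ⟨hA, hB, hC⟩ := cubic_zero' hζ hζ1 h3
    have hc2 : c2 = 0 := (mul_eq_zero.1 hA).resolve_left hγ
    have hc1 : c1 = 0 := by
      rcases mul_eq_zero.1 hC with h5 | h5
      · exact (mul_eq_zero.1 h5).resolve_right hQ
      · exact absurd h5 hβ
    refine ⟨l1, ?_, ?_⟩
    · rw [e1, hc1, hc2, zero_smul, zero_smul, zero_add, add_zero]
    · rw [hc1, zero_mul, zero_add] at hB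
      linear_combination hB - γ * q a g * β * h2
  obtain ⟨c, a, d, rfl⟩ := mem_NN.1 hm
  obtain ⟨a', e1, e2⟩ := key a
  have e3 : m₀ • (c • e + sf g a + d • n g) = (d * γ) • e + sf g a' + (c * β) • n g := by
    rw [smul_add, smul_add, hl, hm1, e1, hl, hm2, smul_smul, smul_smul]
    abel
  rw [e3, h.QN_eq hg hk, h.QN_eq hg hk, e2]
  ring

include hg hom hk in
/-- an element fixing `⟨e⟩` -/
theorem QN_stab [CharP F 2] (hF : ∃ a : F, a ≠ 0 ∧ a ≠ 1) (han : ∀ a, q a g = 0 → sf g a = 0) {x : H} (hx : x ∈ P)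
    {ε : F} (hε : x • e = ε • e) : ∃ μ : F, ∀ m ∈ NN e n sf g, QN e n sf q g (x • m) = μ * QN e n sf q g m := by
  have hε0 : ε ≠ 0 := by
    intro h0
    rw [h0, zero_smul, smul_eq_zero_iff_eq] at hε
    exact h.e_ne hε
  rcases (h.om_iff hg hom _).1 (h.om_act hx hom) with ⟨c, -, e1⟩ | ⟨c, hc, a, e1⟩
  · exfalso
    have h1 : n g = (c * ε⁻¹) • e := by
      have h2 : x • n g = x • ((c * ε⁻¹) • e) := by
        rw [e1, h.P_lin x hx, hε, smul_smul, mul_assoc, inv_mul_cancel₀ hε0, mul_one]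
      exact MulAction.injective x h2
    obtain ⟨-, -, h3⟩ := h.indep (-(c * ε⁻¹)) 0 g M0.zero_mem (by
      rw [h1, neg_smul]; abel)
    exact hg h3
  · have haP := h.A_mem a
    have e2 : α a • n g = n g + sf g a + q a g • e := h.A_1 a g
    rw [← e2] at e1
    have hx1 : (α a)⁻¹ * x ∈ P := mul_mem (inv_mem haP) hx
    have f1 : ((α a)⁻¹ * x) • e = ε • e := by
      rw [mul_smul, inv_smul_eq_iff, h.P_lin _ haP, h.A_e a, hε]
    have f2 : ((α a)⁻¹ * x) • n g = c • n g := by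
      rw [mul_smul, inv_smul_eq_iff, h.P_lin _ haP, e1]
    refine ⟨ε * c, fun m hm => ?_⟩
    rw [← h.QN_fix hg hom hk hF han hx1 hε0 hc f1 f2 hm, ← h.QN_A hg hk a (h.NN_act hg hom hx1 hm), mul_smul,
      smul_inv_smul]

include hg hom hk in
/-- **`P` preserves `q_N` up to scalars** -/
theorem QN_P [CharP F 2] (hF : ∃ a : F, a ≠ 0 ∧ a ≠ 1) (han : ∀ a, q a g = 0 → sf g a = 0) {x : H} (hx : x ∈ P) :
    ∃ μ : F, ∀ m ∈ NN e n sf g, QN e n sf q g (x • m) = μ * QN e n sf q g m := by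
  rcases (h.om_iff hg hom _).1 (h.om_act hx (Om.self (e := e))) with ⟨c, -, e1⟩ | ⟨c, hc, a, e1⟩
  · exact h.QN_stab hg hom hk hF han hx e1
  · -- an element interchanging `⟨e⟩` and `⟨n g⟩`
    have hne : ∀ c : F, n g ≠ c • e := by
      intro c hc
      obtain ⟨-, -, h3⟩ := h.indep (-c) 0 g M0.zero_mem (by rw [hc, neg_smul]; abel)
      exact hg h3
    have hne' : ∀ c : F, e ≠ c • n g := by
      intro c hc
      obtain ⟨h1, -, -⟩ := h.indep 1 0 (-(c • g)) M0.zero_mem (by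
        rw [map_neg, map_smul, ← hc, one_smul]; abel)
      exact one_ne_zero h1
    obtain ⟨m₀, hm₀, ⟨β, hβ, hm1⟩, γ, hγ, hm2⟩ := h.two_trans (Om.self (e := e)) hom hom (Om.self (e := e)) hne hne'
    have haP := h.A_mem a
    have e2 : α a • n g = n g + sf g a + q a g • e := h.A_1 a g
    rw [← e2] at e1
    set x3 : H := m₀ * (α a)⁻¹ * x with hx3
    have hx3P : x3 ∈ P := mul_mem (mul_mem hm₀ (inv_mem haP)) hx
    have f1 : x3 • e = (c * γ) • e := by
      rw [hx3, mul_smul, mul_smul, e1, h.P_lin _ (inv_mem haP), inv_smul_smul, h.P_lin _ hm₀, hm2, smul_smul]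
    obtain ⟨μ, hμ⟩ := h.QN_stab hg hom hk hF han hx3P f1
    refine ⟨(β * γ)⁻¹ * μ, fun m hm => ?_⟩
    have hβγ : β * γ ≠ 0 := mul_ne_zero hβ hγ
    have hain : (α a)⁻¹ * x ∈ P := mul_mem (inv_mem haP) hx
    have e3 : QN e n sf q g (x • m) = QN e n sf q g (((α a)⁻¹ * x) • m) := by
      rw [← h.QN_A hg hk a (h.NN_act hg hom hain hm), mul_smul, smul_inv_smul]
    have e4 := h.QN_swap hg hom hk hF han hm₀ hβ hγ hm1 hm2 (h.NN_act hg hom hain hm)
    have e5 : m₀ • ((α a)⁻¹ * x) • m = x3 • m := by rw [hx3, ← mul_smul, mul_assoc]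
    rw [e5, hμ m hm] at e4
    rw [e3, mul_assoc, e4, ← mul_assoc, inv_mul_cancel₀ hβγ, one_mul]

end P

variable [Finite F] [CharP F 2]

/-- **the multiplier**, for a subgroup `P₁` of `P` generated by 2-elements -/
theorem mult' [FiniteDimensional F M] (hF : ∃ a : F, a ≠ 0 ∧ a ≠ 1) (hg : g ≠ 0) (hom : Om F P e (n g))
    {P₁ : Subgroup H} (hP₁ : P₁ ≤ P)
    (hgen : ∀ H : Subgroup P₁, (∀ x, (∃ m : ℕ, x ^ 2 ^ m = 1) → x ∈ H) → H = ⊤)
    {x : H} (hx : x ∈ P₁) {ε c1 c' : F} {a1 : A} (hε : x • e = ε • e)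
    (hc' : x • n g = c1 • e + sf g a1 + c' • n g) : ε * c' = 1 := by
  have I2 : SMulCommClass P₁ F M := ⟨fun x c m => h.P_lin x (hP₁ x.2) c m⟩
  have heN : e ∈ NN e n sf g := mem_NN.2 ⟨1, 0, 0, by rw [one_smul, map_zero, zero_smul, add_zero, add_zero]⟩
  have hnN : n g ∈ NN e n sf g := mem_NN.2 ⟨0, 0, 1, by rw [one_smul, map_zero, zero_smul, zero_add, zero_add]⟩
  by_cases hk : ∀ k, sf g k = 0 → q k g = 0
  · have han : ∀ a, q a g = 0 → sf g a = 0 := fun a ha => h.beta_aniso hF hg hom hk ha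
    have hqe : ∀ c : F, QN e n sf q g (c • e) = 0 := by
      intro c
      have e1 : c • e = c • e + sf g 0 + (0 : F) • n g := by
        rw [map_zero, zero_smul, add_zero, add_zero]
      rw [e1, h.QN_eq hg hk, h.q_zero, mul_zero, add_zero]
    have hqn : QN e n sf q g (n g) = 0 := by
      have e1 : n g = (0 : F) • e + sf g 0 + (1 : F) • n g := by
        rw [map_zero, zero_smul, add_zero, zero_add, one_smul]
      rw [e1, h.QN_eq hg hk, h.q_zero, zero_mul, add_zero]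
    have hqs : QN e n sf q g (e + n g) = 1 := by
      have e1 : e + n g = (1 : F) • e + sf g 0 + (1 : F) • n g := by
        rw [map_zero, add_zero, one_smul, one_smul]
      rw [e1, h.QN_eq hg hk, h.q_zero, mul_one, add_zero]
    refine Fixed.mul_eq_one_of_quad (F := F) (P := P₁) hgen (NN e n sf g)
      (fun x m hm => h.NN_act hg hom (hP₁ x.2) hm) (QN e n sf q g) (fun x => h.QN_P hg hom hk hF han (hP₁ x.2))
      (x₀ := e) (x := n g) heN hnN ?_ ⟨x, hx⟩ (ε := ε) (c' := c') ?_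
    · have := hqe 1
      rw [one_smul] at this
      rw [hqs, this, hqn, sub_zero, sub_zero]
      exact one_ne_zero
    · have hq1 := hqe 1
      rw [one_smul] at hq1
      rw [hqs, hq1, hqn, sub_zero, sub_zero, mul_one]
      change QN e n sf q g (x • e + x • n g) - QN e n sf q g (x • e) - QN e n sf q g (x • n g) = ε * c'
      have f3 : ε • e + (c1 • e + sf g a1 + c' • n g) = (ε + c1) • e + sf g a1 + c' • n g := by module
      rw [hε, hc', f3, hqe, h.QN_eq hg hk, h.QN_eq hg hk]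
      ring
  · push Not at hk
    obtain ⟨k, hk, hqk⟩ := hk
    have hs := h.sigma_zero hg hom hk hqk
    refine Fixed.mul_eq_one_of_two (F := F) (P := P₁) hgen (NN e n sf g)
      (fun x m hm => h.NN_act hg hom (hP₁ x.2) hm) heN hnN (fun m hm => ?_) (fun r r' e1 => ?_) ⟨x, hx⟩ (δ := c1) hε ?_
    · obtain ⟨c, a, c', rfl⟩ := mem_NN.1 hm
      exact ⟨c, c', by rw [hs, add_zero]⟩
    · obtain ⟨h1, -, h2⟩ := h.indep r 0 (r' • g) M0.zero_mem (by rw [add_zero, map_smul]; exact e1)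
      exact ⟨h1, (smul_eq_zero.1 h2).resolve_right hg⟩
    · change x • n g = c' • n g + c1 • e
      rw [hc', hs, add_zero, add_comm]

/-- **the multiplier** -/
theorem mult [FiniteDimensional F M] (hF : ∃ a : F, a ≠ 0 ∧ a ≠ 1) (hg : g ≠ 0) (hom : Om F P e (n g))
    (hgen : ∀ H : Subgroup P, (∀ x, (∃ m : ℕ, x ^ 2 ^ m = 1) → x ∈ H) → H = ⊤)
    {x : H} (hx : x ∈ P) {ε c1 c' : F} {a1 : A} (hε : x • e = ε • e)
    (hc' : x • n g = c1 • e + sf g a1 + c' • n g) : ε * c' = 1 :=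
  h.mult' hF hg hom le_rfl hgen hx hε hc'

end NodeFr

end Cfsg.Agent.Omega.Lie.Nodes

end

section


/-!
# NODE LIE, residues `(0, j)`: counting for the quadrangle

* `card_PanS_zero` : at most `q` points `≠ R i` on `V`;
* `card_PanS_node` : at most `|Z_k| |Q_k|` lines `≠ V` on `R i`, `Q_k = {q l k | sf k l = 0}`;
* `card_opp` : `W i` has at least `q² |Z_k| |Q_k|` conjugates of a point opposite to `R i`.
-/

set_option autoImplicit false
set_option linter.unusedSectionVars false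

namespace Cfsg.Agent.Omega.Lie.Nodes

open Subgroup Cfsg.Agent.Omega.BTwo Cfsg.Agent.ParSys

universe u v w

/-- a lower bound for `relIndex` -/
theorem card_le_relIndex {G : Type*} [Group G] [Finite G] {H W : Subgroup G} {S : Type*} (f : S → G)
    (hf : ∀ s, f s ∈ W) (hinj : ∀ s s', (f s)⁻¹ * f s' ∈ H → s = s') : Nat.card S ≤ H.relIndex W := by
  rw [relIndex, index_eq_card]
  refine Nat.card_le_card_of_injective (fun s : S => (QuotientGroup.mk ⟨f s, hf s⟩ : W ⧸ H.subgroupOf W)) ?_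
  intro s s' e
  have h1 := QuotientGroup.eq.1 e
  exact hinj s s' (mem_subgroupOf.1 h1)

variable {G : Type u} [Group G] {ι : Type w} {V : Subgroup G} {R : ι → Subgroup G} {i j : ι} {F : Type v}
  [Field F] {v : F → F → G} {w1 w2 : F → G} {M B : Type u} [AddCommGroup M] [AddCommGroup B]
  [DistribMulAction (NR R i) M] [DistribMulAction (NR R i) B] [Module F M] {p : G → M} {r : G → B}
  {f : M →+ M →+ B} {φ : M →ₗ[F] M →ₗ[F] F} {s : NR R i → (F ≃+* F)} [CharP F 2]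
  [Finite G] [Finite F] {h : FMod V R i j v w1 w2 M B p r f φ s} {t : F → G} {τ : Lie.TorD V R i j v t}
  {N : Type u} [AddCommGroup N] [Module F N] {P1 P2 : G → N} {y : YPair V R i j w1 w2 N P1 P2}
  {n : N →ₗ[F] M} {sf : N →ₗ[F] N →ₗ[F] M} {q : N → N →ₗ[F] F}

section zero

/-- the points of `V` other than `R i` -/
theorem point_eq (h : FMod V R i j v w1 w2 M B p r f φ s) {l : ι} (hl : l ≠ i) :
    ∃ a : F, ∀ g, g ∈ R l ↔ ∃ c, v (a * c) c = g := by
  obtain ⟨w, hw, e⟩ := h.bt.trans i h.co.ne.symm hl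
  obtain ⟨x, hx⟩ := h.co.W1_act w hw
  refine ⟨x, fun g => ?_⟩
  rw [← e, mem_cj, h.co.mem_R2]
  constructor
  · rintro ⟨c, hc⟩
    refine ⟨c, ?_⟩
    have h1 := hx 0 c
    rw [zero_add] at h1
    rw [← h1, hc]; group
  · rintro ⟨c, rfl⟩
    refine ⟨c, ?_⟩
    have h1 := hx 0 c
    rw [zero_add] at h1
    rw [← h1]; group

theorem card_PanS_zero (h : FMod V R i j v w1 w2 M B p r f φ s) {B' U : Subgroup G}
    (D : Zero.Dat V R i B' U) : (PanS B' (Zero.P0 V R B')).ncard ≤ Nat.card F := by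
  have key : ∀ z ∈ PanS B' (Zero.P0 V R B'), ∃ a : F, ∃ x ∈ Zero.P0 V R B', (x : G ⧸ B') = z ∧
      ∀ g, g ∈ cj x (R i) ↔ ∃ c, v (a * c) c = g := by
    rintro z ⟨x, hx, hxB, rfl⟩
    obtain ⟨l, hl, el⟩ := (Zero.not_mem_B_iff h.bt D hx).1 hxB
    obtain ⟨a, ha⟩ := point_eq h hl
    exact ⟨a, x, hx, rfl, by rw [el]; exact ha⟩
  choose! a x hx hxz hxa using key
  rw [← Set.ncard_univ]
  refine Set.ncard_le_ncard_of_injOn a (fun _ _ => Set.mem_univ _) ?_ (Set.toFinite _)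
  intro z hz z' hz' e
  rw [← hxz z hz, ← hxz z' hz']
  refine QuotientGroup.eq.2 (Zero.mem_B h.bt D (mul_mem (inv_mem (hx z hz)) (hx z' hz')) ?_)
  have h1 : cj (x z) (R i) = cj (x z') (R i) := by
    ext g
    rw [hxa z hz, hxa z' hz']
    rw [show a z = a z' from e]
  rw [← cj_eq_self_iff, cj_mul, ← h1, cj_inv_cj]

end zero

section node

/-- the values `q l k` with `sf k l = 0` -/
abbrev Qv (sf : N →ₗ[F] N →ₗ[F] M) (q : N → N →ₗ[F] F) (k : N) : Type v :=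
  {a : F // ∃ l, sf k l = 0 ∧ q l k = a}

/-- the line `(V')^u` depends only on `sf k (P2 u)`, `q (P2 u) k` -/
theorem cj_VG_le (g : Eig h τ y n sf q) {k : N} {u u' : G} (hu : u ∈ UU V R j) (hu' : u' ∈ UU V R j)
    (e1 : sf k (P2 u) = sf k (P2 u')) (e2 : q (P2 u) k = q (P2 u') k) : cj u (VG g k) ≤ cj u' (VG g k) := by
  have hN : ∀ {a}, a ∈ UU V R j → a ∈ normalizer (R i : Set G) := fun ha => h.bt.cen_le_N i (UU_le_cen j ha)
  have hW : ∀ {a}, a ∈ UU V R j → a ∈ normalizer (WW V (R i) : Set G) := fun ha =>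
    h.bt.cen_le_NW i (UU_le_cen j ha)
  have hact : ∀ {a}, a ∈ UU V R j → ∀ {x} (c : F), x ∈ WW V (R i) → p x = c • n k →
      p (a * x * a⁻¹) = c • (n k + sf k (P2 a) + q (P2 a) k • p (v 0 1)) := by
    intro a ha x c hx hc
    have h1 := h.fr.p_act ⟨a, hN ha⟩ x hx
    rw [hc, act_smul h (g := ⟨a, hN ha⟩) (cen_of_U h y (a := ⟨a, hN ha⟩) ha), g.A_1 ⟨a, hN ha⟩ ha] at h1
    exact h1.symm
  rintro _ ⟨x, hx, rfl⟩
  obtain ⟨hxW, c, hc⟩ := mem_VG.1 hx
  have h1 := hact hu c hxW hc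
  have h2 := hact hu' c hxW hc
  rw [e1, e2, ← h2] at h1
  have hux := BTwo.conj_mem_of_normalizer (hW hu) hxW
  have hux' := BTwo.conj_mem_of_normalizer (hW hu') hxW
  have h3 := (h.fr.p_eq_iff hux hux').1 h1
  have h4 : R i ≤ cj u' (VG g k) := by
    rw [← cj_eq_self_iff.2 (hN hu')]
    exact cj_mono (R_le_VG g k)
  have h5 := mul_mem (h4 h3) (conj_mem_cj (g := u') hx)
  rwa [inv_mul_cancel_right] at h5

theorem card_PanS_node (g : Eig h τ y n sf q) {k : N} {B' Pb : Subgroup G}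
    (PV : Pb ⊓ normalizer (V : Set G) ≤ B')
    (tr : ∀ x ∈ Pb, x ∉ B' → ∃ u ∈ UU V R j, cj x V = cj u (VG g k)) :
    (PanS B' Pb).ncard ≤ Nat.card (ZK sf k) * Nat.card (Qv sf q k) := by
  have key : ∀ z ∈ PanS B' Pb, ∃ x ∈ Pb, (x : G ⧸ B') = z ∧ ∃ u ∈ UU V R j, cj x V = cj u (VG g k) := by
    rintro z ⟨x, hx, hxB, rfl⟩
    exact ⟨x, hx, rfl, tr x hx hxB⟩
  choose! x hx hxz u hu hxu using key
  -- representatives
  let κ0 : N → N := fun κ => Function.invFun (sf k) (sf k κ)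
  have hκ0 : ∀ κ, sf k (κ0 κ) = sf k κ := fun κ => Function.invFun_eq ⟨κ, rfl⟩
  have hq : ∀ κ, q κ k = q (κ0 κ) k + q (κ - κ0 κ) k ∧ sf k (κ - κ0 κ) = 0 := by
    intro κ
    have h0 : sf k (κ - κ0 κ) = 0 := by rw [map_sub, hκ0, sub_self]
    refine ⟨?_, h0⟩
    have h1 := g.q_add (κ0 κ) (κ - κ0 κ) k
    rw [h0, map_zero, LinearMap.zero_apply, add_zero, add_sub_cancel] at h1
    exact h1
  let F1 : G ⧸ B' → ZK sf k × Qv sf q k := fun z =>
    (⟨sf k (P2 (u z)), s_mem_Zg _⟩, ⟨q (P2 (u z) - κ0 (P2 (u z))) k, _, (hq _).2, rfl⟩)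
  have hfin : Finite (ZK sf k × Qv sf q k) := by
    have : Finite M := Finite.of_surjective (fun x : WW V (R i) => p x) fun m => by
      obtain ⟨x, hx, e1⟩ := h.fr.p_surj m
      exact ⟨⟨x, hx⟩, e1⟩
    infer_instance
  rw [← Nat.card_prod, ← Set.ncard_univ]
  refine Set.ncard_le_ncard_of_injOn F1 (fun _ _ => Set.mem_univ _) ?_ (Set.toFinite _)
  intro z hz z' hz' e
  have e1 : sf k (P2 (u z)) = sf k (P2 (u z')) := congrArg (fun x : ZK sf k × Qv sf q k => (x.1 : M)) e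
  have e2 : q (P2 (u z) - κ0 (P2 (u z))) k = q (P2 (u z') - κ0 (P2 (u z'))) k :=
    congrArg (fun x : ZK sf k × Qv sf q k => (x.2 : F)) e
  have e3 : κ0 (P2 (u z)) = κ0 (P2 (u z')) := by
    show Function.invFun (sf k) (sf k (P2 (u z))) = Function.invFun (sf k) (sf k (P2 (u z')))
    rw [e1]
  have e4 : q (P2 (u z)) k = q (P2 (u z')) k := by rw [(hq _).1, (hq (P2 (u z'))).1, e2, e3]
  have e5 : cj (u z) (VG g k) = cj (u z') (VG g k) :=
    le_antisymm (cj_VG_le g (hu z hz) (hu z' hz') e1 e4) (cj_VG_le g (hu z' hz') (hu z hz) e1.symm e4.symm)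
  rw [← hxz z hz, ← hxz z' hz']
  refine QuotientGroup.eq.2 (PV (mem_inf.2 ⟨mul_mem (inv_mem (hx z hz)) (hx z' hz'), ?_⟩))
  rw [← cj_eq_self_iff, cj_mul, hxu z' hz', ← e5, ← hxu z hz, cj_inv_cj]

end node

end Cfsg.Agent.Omega.Lie.Nodes

end

section


/-!
# NODE LIE, residues `(0, j)`: the conjugates of a point opposite to `R i`

`x = u ∈ (V')^ρ`, `u ∉ R j`: `u` acts on `M` as `A_k`, `[M, u] = N_k`, `W i` has at least `q² |Z_k| |Q_k|` conjugates
of `u`.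
-/

set_option autoImplicit false
set_option linter.unusedSectionVars false

namespace Cfsg.Agent.Omega.Lie.Nodes

open Subgroup Cfsg.Agent.Omega.BTwo

universe u v w

variable {G : Type u} [Group G] {ι : Type w} {V : Subgroup G} {R : ι → Subgroup G} {i j : ι} {F : Type v}
  [Field F] {v : F → F → G} {w1 w2 : F → G} {M B : Type u} [AddCommGroup M] [AddCommGroup B]
  [DistribMulAction (NR R i) M] [DistribMulAction (NR R i) B] [Module F M] {p : G → M} {r : G → B}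
  {f : M →+ M →+ B} {φ : M →ₗ[F] M →ₗ[F] F} {s : NR R i → (F ≃+* F)} [CharP F 2]
  [Finite G] [Finite F] {h : FMod V R i j v w1 w2 M B p r f φ s} {t : F → G} {τ : Lie.TorD V R i j v t}
  {N : Type u} [AddCommGroup N] [Module F N] {P1 P2 : G → N} {y : YPair V R i j w1 w2 N P1 P2}
  {n : N →ₗ[F] M} {sf : N →ₗ[F] N →ₗ[F] M} {q : N → N →ₗ[F] F}

variable (V R i j v p P2 n sf) in
/-- `KEY` -/
abbrev KeyH (k : N) : Prop :=
  ∀ a : NR R i, (a : G) ∈ UU V R j → (∃ c : F, P2 (a : G) = c • k) → ∀ m, a • m - m ∈ NK p v n sf k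

theorem key_of (_g : Eig h τ y n sf q) {k : N} (key : KeyH V R i j v p P2 n sf k) :
    Key (p (v 0 1)) n (fun a b => sf a b) (alp h y) k := by
  intro c m
  obtain ⟨a, ha, hak⟩ := exists_ak h y (c • k)
  rw [← hak, alp_apply h y ha]
  exact key a ha ⟨c, hak⟩ m

/-- `N_k ≤ [M, A_k]` -/
theorem exists_range (g : Eig h τ y n sf q) {k : N} (hk : k ≠ 0) (key : KeyH V R i j v p P2 n sf k) {a : NR R i}
    (ha : (a : G) ∈ UU V R j) {c : F} (hc : c ≠ 0) (hac : P2 (a : G) = c • k) {m : M}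
    (hm : m ∈ NK p v n sf k) : ∃ m', a • m' - m' = m := by
  have hcen := cen_of_U h y ha
  let T : M →ₗ[F] M :=
    { toFun := fun x => a • x - x
      map_add' := fun x z => by rw [smul_add]; abel
      map_smul' := fun l x => by rw [act_smul h hcen, RingHom.id_apply, smul_sub] }
  have hT : ∀ x, T x = a • x - x := fun _ => rfl
  -- `e`
  have he : p (v 0 1) ∈ LinearMap.range T := by
    obtain ⟨d, hd, hne⟩ := exists_d0 g hk
    have h1 : T d = (c * φ d (n k)) • p (v 0 1) := by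
      rw [hT, g.A_0 a ha d hd, hac, map_smul, map_smul, smul_eq_mul, add_sub_cancel_left]
    have h2 : p (v 0 1) = (c * φ d (n k))⁻¹ • T d := by
      rw [h1, smul_smul, inv_mul_cancel₀ (mul_ne_zero hc hne), one_smul]
    rw [h2]
    exact Submodule.smul_mem _ _ ⟨d, rfl⟩
  -- `Z`
  have hz : ZK sf k ≤ LinearMap.range T := by
    refine Submodule.span_le.2 ?_
    rintro _ ⟨l, rfl⟩
    have h1 : T (n l) = c • sf k l + q (P2 (a : G)) l • p (v 0 1) := by
      rw [hT, g.A_1 a ha l, hac, map_smul, Eig_symm g l k]; abel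
    have h2 : sf k l = c⁻¹ • (T (n l) - q (P2 (a : G)) l • p (v 0 1)) := by
      rw [h1, add_sub_cancel_right, smul_smul, inv_mul_cancel₀ hc, one_smul]
    show sf k l ∈ _
    rw [h2]
    exact Submodule.smul_mem _ _ (Submodule.sub_mem _ ⟨_, rfl⟩ (Submodule.smul_mem _ _ he))
  -- `n k`
  have hn : n k ∈ LinearMap.range T := by
    set m0 := p (w1 1) with hm0
    have h1 := g.A_top a ha m0
    rw [h.phi_w1 1, one_smul, hac, map_smul] at h1
    obtain ⟨c1, z1, hz1, r1, e1⟩ := mem_NK.1 (key a ha ⟨c, hac⟩ m0)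
    rw [e1] at h1
    obtain ⟨γ, d, hd, e2⟩ := (g.mem_D _).1 h1
    have h3 : (c1 - γ) • p (v 0 1) + (z1 - d) + n ((r1 - c) • k) = 0 := by
      rw [sub_smul, map_smul, sub_smul]
      have : c1 • p (v 0 1) - γ • p (v 0 1) + (z1 - d) + (r1 • n k - c • n k) =
        (c1 • p (v 0 1) + z1 + r1 • n k - c • n k) - (γ • p (v 0 1) + d) := by abel
      rw [this, e2, sub_self]
    obtain ⟨-, -, h4⟩ := g.indep _ _ _ ((h.M0 τ).sub_mem (ZK_le g hz1) hd) h3
    have h5 : r1 = c := sub_eq_zero.1 ((smul_eq_zero.1 h4).resolve_right hk)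
    have h6 : n k = c⁻¹ • (T m0 - c1 • p (v 0 1) - z1) := by
      have h7 : T m0 - c1 • p (v 0 1) - z1 = c • n k := by
        rw [hT, e1, h5]; abel
      rw [h7, smul_smul, inv_mul_cancel₀ hc, one_smul]
    rw [h6]
    exact Submodule.smul_mem _ _ (Submodule.sub_mem _ (Submodule.sub_mem _ ⟨_, rfl⟩ (Submodule.smul_mem _ _ he))
      (hz hz1))
  obtain ⟨c', z, hz', ρ', rfl⟩ := mem_NK.1 hm
  obtain ⟨m', hm'⟩ := Submodule.add_mem _ (Submodule.add_mem _ (Submodule.smul_mem _ c' he) (hz hz'))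
    (Submodule.smul_mem _ ρ' hn)
  exact ⟨m', hm'⟩

/-- `V' ⊓ DZ ≤ R i` -/
theorem VG_inf_DZ (g : Eig h τ y n sf q) {k : N} (hk : k ≠ 0) {x : G} (hx : x ∈ VG g k) (hx' : x ∈ (gfr_of g).DZ k) :
    x ∈ R i := by
  obtain ⟨hW, c, hc⟩ := mem_VG.1 hx
  obtain ⟨c', z, hz, e⟩ := mem_eZ.1 hx'.2
  rw [hc] at e
  have h1 : c' • p (v 0 1) + z + n ((-c) • k) = 0 := by
    rw [map_smul, neg_smul, e]; abel
  obtain ⟨-, -, h2⟩ := g.indep _ _ _ (ZK_le g hz) h1
  have h3 : c = 0 := neg_eq_zero.1 ((smul_eq_zero.1 h2).resolve_right hk)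
  rw [← h.fr.p_ker x hW, hc, h3, zero_smul]

/-- the elements of `W i` over `n l`, `sf k l = 0` -/
theorem exists_Q (g : Eig h τ y n sf q) {k : N} (hk : k ≠ 0) (key : KeyH V R i j v p P2 n sf k) {u : G}
    (hu : u ∈ cj (nn w1 w2 1) ((gfr_of g).SG k)) {c : F} (hc : P2 u = c • k) (a : Qv sf q k) :
    ∃ w ∈ WW V (R i), w * u * w⁻¹ * u⁻¹ = v (c * a) 0 := by
  obtain ⟨a, l, hl, hla⟩ := a
  obtain ⟨w, hw, hpw⟩ := h.fr.p_surj (n l)
  refine ⟨w, hw, ?_⟩
  have h1 := (gfr_of g).comm_formula h.btc y h.co (key_of g key) hu hw fun z hz => by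
    refine ((gfr_of g).fr.comm_iff hw hz.1).2 ?_
    obtain ⟨c', z', hz', ρ', e⟩ := mem_NK.1 (show p z ∈ NK p v n sf k from hz.2)
    rw [hpw, e, map_add, map_add, map_smul, map_smul, g.phi_e1, g.phi_11, smul_zero, smul_zero, zero_add,
      add_zero, h.phi_symm]
    refine Submodule.span_induction (p := fun z _ => φ z (n l) = 0) ?_ ?_ ?_ ?_ hz'
    · rintro _ ⟨l', rfl⟩
      show φ (sf k l') (n l) = 0
      rw [g.T_23, hl, map_zero, LinearMap.zero_apply]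
    · rw [map_zero, LinearMap.zero_apply]
    · intro z z' _ _ hz hz'
      rw [map_add, LinearMap.add_apply, hz, hz', add_zero]
    · intro a' z _ hz
      rw [map_smul, LinearMap.smul_apply, hz, smul_zero]
  have h2 : rco F k (P2 u) = c := by
    have h3 := rco_spec (F := F) (g := k) (x := P2 u) ⟨c, hc⟩
    rw [hc] at h3
    have h4 : (c - rco F k (c • k)) • k = 0 := by rw [sub_smul, ← h3, sub_self]
    rw [hc]
    exact (sub_eq_zero.1 ((smul_eq_zero.1 h4).resolve_right hk)).symm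
  have h3 : nco (p (v 0 1)) (h.M0 τ) n (p w) = l := by
    have h4 := (nfr_of g).nco_eq (c := 0) (d := 0) (h.M0 τ).zero_mem l
    rw [zero_smul, zero_add, zero_add] at h4
    rw [hpw, h4]
  rw [h1, h2, h3]
  show v (c * q l k) 0 = v (c * a) 0
  rw [hla]

/-- **the conjugates of `u`** -/
theorem card_opp (g : Eig h τ y n sf q) {k : N} (hk : k ≠ 0) (key : KeyH V R i j v p P2 n sf k) {u : G}
    (hu : u ∈ cj (nn w1 w2 1) ((gfr_of g).SG k)) (hu0 : P2 u ≠ 0) {H : Subgroup G}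
    (hH : ∀ w ∈ WW V (R i), w ∈ H → w * u = u * w) :
    Nat.card F * ((Nat.card (ZK sf k) * Nat.card (Qv sf q k)) * Nat.card F) ≤ H.relIndex (WW V (R i)) := by
  obtain ⟨huU, c, hc⟩ := (gfr_of g).mem_cj_SG h.bt y h.co hu
  have hc0 : c ≠ 0 := by
    rintro rfl
    exact hu0 (by rw [hc, zero_smul])
  have hN : u ∈ normalizer (R i : Set G) := h.bt.cen_le_N i (UU_le_cen j huU)
  have hWn := normalizer_le_WW V (R i) hN
  have hw1 : ∀ x : (F × ZK sf k) × F, ∃ w ∈ WW V (R i),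
      (⟨u, hN⟩ : NR R i) • p w - p w = x.1.1 • p (v 0 1) + x.1.2 + x.2 • n k := by
    intro x
    obtain ⟨m', hm'⟩ := exists_range g hk key (a := ⟨u, hN⟩) huU hc0 hc
      (mem_NK.2 ⟨x.1.1, x.1.2, x.1.2.2, x.2, rfl⟩)
    obtain ⟨w, hw, rfl⟩ := h.fr.p_surj m'
    exact ⟨w, hw, hm'⟩
  choose f1 hf1 hf1' using hw1
  choose f2 hf2 hf2' using fun a : Qv sf q k => exists_Q g hk key hu hc a
  have hcard : Nat.card (((F × ZK sf k) × F) × Qv sf q k) =
      Nat.card F * ((Nat.card (ZK sf k) * Nat.card (Qv sf q k)) * Nat.card F) := by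
    rw [Nat.card_prod, Nat.card_prod, Nat.card_prod]; ring
  rw [← hcard]
  refine card_le_relIndex (fun x => f1 x.1 * f2 x.2) (fun x => mul_mem (hf1 _) (hf2 _)) fun x x' hx => ?_
  have hxW : (f1 x.1 * f2 x.2)⁻¹ * (f1 x'.1 * f2 x'.2) ∈ WW V (R i) :=
    mul_mem (inv_mem (mul_mem (hf1 _) (hf2 _))) (mul_mem (hf1 _) (hf2 _))
  have h1 := hH _ hxW hx
  have h2 : (f1 x.1 * f2 x.2) * u * (f1 x.1 * f2 x.2)⁻¹ = (f1 x'.1 * f2 x'.2) * u * (f1 x'.1 * f2 x'.2)⁻¹ := by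
    calc (f1 x.1 * f2 x.2) * u * (f1 x.1 * f2 x.2)⁻¹
        = (f1 x.1 * f2 x.2) * (u * ((f1 x.1 * f2 x.2)⁻¹ * (f1 x'.1 * f2 x'.2))) *
          (f1 x'.1 * f2 x'.2)⁻¹ := by group
      _ = (f1 x.1 * f2 x.2) * ((f1 x.1 * f2 x.2)⁻¹ * (f1 x'.1 * f2 x'.2) * u) *
          (f1 x'.1 * f2 x'.2)⁻¹ := by rw [h1]
      _ = _ := by group
  have hWR : ∀ w ∈ WW V (R i), ∀ β, w * v β 0 * w⁻¹ = v β 0 := fun w hw β => by
    rw [h.bt.QR i w (h.bt.W_le_Q i hw) _ ((h.co.mem_R1 _).2 ⟨β, rfl⟩), mul_inv_cancel_right]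
  have h3 : ∀ x : ((F × ZK sf k) × F) × Qv sf q k, (f1 x.1 * f2 x.2) * u * (f1 x.1 * f2 x.2)⁻¹ =
      v (c * x.2) 0 * (f1 x.1 * u * (f1 x.1)⁻¹ * u⁻¹) * u := by
    intro x
    calc (f1 x.1 * f2 x.2) * u * (f1 x.1 * f2 x.2)⁻¹
        = (f1 x.1 * (f2 x.2 * u * (f2 x.2)⁻¹ * u⁻¹) * (f1 x.1)⁻¹) * (f1 x.1 * u * (f1 x.1)⁻¹ * u⁻¹) * u := by
          group
      _ = _ := by rw [hf2', hWR _ (hf1 _)]
  rw [h3, h3] at h2
  have h4 := mul_right_cancel h2
  -- apply `p`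
  have h5 : ∀ x : (F × ZK sf k) × F, f1 x * u * (f1 x)⁻¹ * u⁻¹ ∈ WW V (R i) ∧
      p (f1 x * u * (f1 x)⁻¹ * u⁻¹) = -(x.1.1 • p (v 0 1) + x.1.2 + x.2 • n k) := by
    intro x
    have hx1 := BTwo.conj_mem_of_normalizer hWn (hf1 x)
    have e1 : f1 x * u * (f1 x)⁻¹ * u⁻¹ = f1 x * (u * f1 x * u⁻¹)⁻¹ := by group
    refine ⟨by rw [e1]; exact mul_mem (hf1 x) (inv_mem hx1), ?_⟩
    rw [(gfr_of g).fr.q_comm (hf1 x) hx1, ← h.fr.p_act ⟨u, hN⟩ _ (hf1 x), ← hf1' x, neg_sub]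
  have h6 : ∀ β, v β 0 ∈ WW V (R i) := fun β => V_le_WW V (R i) (h.co.v_mem β 0)
  have h7 := congrArg p h4
  have hp0 : ∀ β, p (v β 0) = 0 := fun β => by rw [h.p_v, zero_smul]
  rw [h.fr.p_mul _ (h6 _) _ (h5 _).1, h.fr.p_mul _ (h6 _) _ (h5 _).1, hp0, hp0, zero_add, zero_add,
    (h5 _).2, (h5 _).2, neg_inj] at h7
  obtain ⟨h8, h9, h10⟩ := NK_uniq g hk x.1.1.2.2 x'.1.1.2.2 h7
  have h11 : x.1 = x'.1 := Prod.ext (Prod.ext h8 (Subtype.ext h9)) h10
  rw [h11] at h4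
  have h12 := (h.co.v_inj (mul_right_cancel h4)).1
  exact Prod.ext h11 (Subtype.ext (mul_left_cancel₀ hc0 h12))

end Cfsg.Agent.Omega.Lie.Nodes

end

section


/-!
# NODE LIE, residues `(0, j)`: the quadrangle `QuadN` for the types `(sigma)` and `(beta)`

* `ParDat` : the parabolic `Pb` of the node, `B ≤ Pb`;
* `NodeDat.quadN` : `QuadN B (X B) Pb (R i) V (SG k) (W i) ..`.
-/

set_option autoImplicit false
set_option linter.unusedSectionVars false

namespace Cfsg.Agent.Omega.Lie.Nodes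

open Subgroup Cfsg.Agent.Omega.BTwo
open scoped Pointwise

universe u v w

variable {G : Type u} [Group G] {ι : Type w} {V : Subgroup G} {R : ι → Subgroup G} {i j : ι} {F : Type v}
  [Field F] {v : F → F → G} {w1 w2 : F → G} {M B : Type u} [AddCommGroup M] [AddCommGroup B]
  [DistribMulAction (NR R i) M] [DistribMulAction (NR R i) B] [Module F M] {p : G → M} {r : G → B}
  {f : M →+ M →+ B} {φ : M →ₗ[F] M →ₗ[F] F} {s : NR R i → (F ≃+* F)} [CharP F 2]
  [Finite G] [Finite F] {h : FMod V R i j v w1 w2 M B p r f φ s} {t : F → G} {τ : Lie.TorD V R i j v t}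
  {N : Type u} [AddCommGroup N] [Module F N] {P1 P2 : G → N} {y : YPair V R i j w1 w2 N P1 P2}
  {n : N →ₗ[F] M} {sf : N →ₗ[F] N →ₗ[F] M} {q : N → N →ₗ[F] F}

/-- the hypotheses on the parabolic `Pb` of the node -/
structure ParDat (g : Eig h τ y n sf q) (k : N) (P Bo U Pb : Subgroup G) : Prop where
  zero : Zero.Dat V R i Bo U
  le : Bo ≤ Pb
  PP : P ≤ Pb
  PR : Pb ≤ normalizer (R i : Set G)
  PS : Pb ≤ normalizer ((gfr_of g).SG k : Set G)
  PV : Pb ⊓ normalizer (V : Set G) ≤ Bo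
  tr : ∀ x ∈ Pb, x ∉ Bo → ∃ u ∈ UU V R j, cj x V = cj u (VG g k)

namespace ParDat

variable {g : Eig h τ y n sf q} {k : N} {P Bo U Pb : Subgroup G} (D : ParDat g k P Bo U Pb)
include D

/-- **there are no triangles** -/
theorem bV (hk : k ≠ 0) {x : G} (hx : x ∈ Pb) (hxB : x ∉ Bo) {z : G} (hz : z ∈ Zero.P0 V R Bo) (hzB : z ∉ Bo)
    {a : G} (ha : a ∈ V) {w : G} (hw : w ∈ (gfr_of g).SG k) (e : x * a * x⁻¹ = z * w * z⁻¹) :
    x * a * x⁻¹ ∈ R i := by
  obtain ⟨u, hu, hxu⟩ := D.tr x hx hxB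
  have hX : x * a * x⁻¹ ∈ cj u (VG g k) := by rw [← hxu]; exact conj_mem_cj ha
  have huY := UU_le_YY j hu
  have huS := cj_eq_self_iff.2 ((gfr_of g).Y_norm_SG h.bt h.co.ne k huY)
  have hXS : x * a * x⁻¹ ∈ (gfr_of g).SG k := by
    rw [← huS]
    exact cj_mono (VG_le_SG g k) hX
  -- `x a x⁻¹ ∈ W l`
  obtain ⟨l, hl, el⟩ := (Zero.not_mem_B_iff h.bt D.zero hz).1 hzB
  have h1 : x * a * x⁻¹ ∈ WW V (R l) := by
    rw [e, ← h.bt.cj_WW el]
    exact conj_mem_cj hw.1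
  have h2 : x * a * x⁻¹ ∈ DD V R := by
    rw [h.bt.D_eq' hl.symm]
    exact mem_inf.2 ⟨hXS.1, h1⟩
  have h3 : x * a * x⁻¹ ∈ (gfr_of g).DZ k := DD_inf_SG g k h2 hXS hk
  have h4 : u⁻¹ * (x * a * x⁻¹) * u ∈ (gfr_of g).DZ k :=
    conj_inv_mem_of_normalizer (X_DZ g k (YY_le_XX huY)) h3
  have h5 := VG_inf_DZ g hk (mem_cj.1 hX) h4
  have h6 := conj_mem_of_normalizer (h.bt.cen_le_N i (UU_le_cen j hu)) h5
  rwa [show u * (u⁻¹ * (x * a * x⁻¹) * u) * u⁻¹ = x * a * x⁻¹ by group] at h6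

theorem quad (hk : k ≠ 0) : ParSys.Quad Bo (Zero.P0 V R Bo) Pb (R i) V ((gfr_of g).SG k) where
  leA := le_sup_right
  leB := D.le
  inf := fun x hx => Zero.mem_B h.bt D.zero (mem_inf.1 hx).1 (D.PR (mem_inf.1 hx).2)
  aV := fun x hx a ha => conj_mem_of_normalizer (Zero.P0_le h.bt D.zero hx) ha
  bR := fun x hx a ha => conj_mem_of_normalizer (D.PR hx) ha
  bW := fun x hx a ha => conj_mem_of_normalizer (D.PS hx) ha
  RV := h.bt.R_le i
  VW := (gfr_of g).V_le_SG h.bt h.co.mem_V k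
  ne := ⟨v 1 0, (h.co.mem_R1 _).2 ⟨1, rfl⟩, fun e => one_ne_zero (h.co.v_one _ _ e).1⟩
  aR := fun x hx hxB a ha he => by
    obtain ⟨l, hl, el⟩ := (Zero.not_mem_B_iff h.bt D.zero hx).1 hxB
    have h1 : x * a * x⁻¹ ∈ R l := by rw [← el]; exact conj_mem_cj ha
    have h2 : x * a * x⁻¹ = 1 := h.bt.eq_one hl h1 he
    rwa [mul_inv_eq_one, mul_eq_left] at h2
  bV := fun x hx hxB z hz hzB a ha w hw e => D.bV hk hx hxB hz hzB ha hw e

end ParDat

namespace NodeDat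

variable {g : Eig h τ y n sf q} {k : N} {P O Bo U Pb : Subgroup G} (d : NodeDat g k P O)
include d

/-- **The quadrangle of a node of type `(sigma)` or `(beta)`.** -/
theorem quadN {m0 : NR R i} {β γ : F} (sw : SwapM h n sf k m0 β γ) (hm0 : (m0 : G) ∈ P)
    (key : KeyH V R i j v p P2 n sf k) (D : ParDat g k P Bo U Pb) :
    ∃ n0 m : G, n0 ∈ XX V R ∧ cj n0 (R i) = R j ∧ m ∈ P ∧ cj m V = VG g k ∧
      ParSys.QuadN Bo (Zero.P0 V R Bo) Pb (R i) V ((gfr_of g).SG k) (WW V (R i)) n0 m m m n0 m n0 := by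
  obtain ⟨ρ, m, l, A, hmP, hmV, hmVG, hact, hcjS⟩ := d.exists_apt sw hm0
  obtain ⟨n0, hn0X, hn0, hsw1, hsw2, hopp⟩ := A.exists_n h.bt
  have hk := d.k0
  have hq := D.quad hk
  have hn0P : n0 ∈ Zero.P0 V R Bo := (le_sup_left : XX V R ≤ _) hn0X
  have hn0B : n0 ∉ Bo := (Zero.not_mem_B_iff h.bt D.zero hn0P).2 ⟨j, h.co.ne.symm, hn0⟩
  have hmPb : m ∈ Pb := D.PP hmP
  have hVV : V ≠ VG g k := by
    intro e
    have h1 : VG g k ≤ DD V R := by rw [← e]; exact V_le_D V R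
    -- `n k ∈ D̄`
    obtain ⟨w, hw, hpw⟩ := h.fr.p_surj (n k)
    have h2 : w ∈ VG g k := mem_VG.2 ⟨hw, 1, by rw [one_smul, hpw]⟩
    have h3 : (1 : F) • n k ∈ h.fr.sb (DD V R) := by
      rw [one_smul, ← hpw]
      exact h.fr.p_mem hw (h1 h2)
    exact one_ne_zero (n_notMem_D g hk h3)
  have hmB : m ∉ Bo := fun hB => hVV (by rw [← hmV, cj_eq_self_iff.2 (D.zero.BV hB)])
  refine ⟨n0, m, hn0X, hn0, hmP, hmV, ?_⟩
  -- the opposite point
  have hmi : cj m (R i) = R i := cj_eq_self_iff.2 (centralizer_le_normalizer _ (d.PR hmP))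
  set p2 := cj (ρ * m) (R l) with hp2
  have hp2V : p2 ≤ cj ρ (VG g k) := by
    rw [hp2, cj_mul, ← hmV]
    exact cj_mono (cj_mono (h.bt.R_le l))
  have hp2S : p2 ≤ cj (nn w1 w2 1) ((gfr_of g).SG k) := by
    refine hp2V.trans ?_
    rw [← hcjS]
    exact cj_mono (VG_le_SG g k)
  have hp2D : ∀ x ∈ p2, x ∈ DD V R → x = 1 := by
    intro x hx hxD
    have h1 := mem_cj.1 (hp2V hx)
    have h2 : ρ⁻¹ * x * ρ ∈ DD V R := conj_inv_mem_of_normalizer (h.bt.NV_le_ND (h.bt.X_le_NV A.r_mem)) hxD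
    have h3 := VG_inf_DZ g hk h1 (DD_inf_SG g k h2 (VG_le_SG g k h1) hk)
    have h4 : x ∈ R j := by
      rw [← A.ri, mem_cj]
      exact h3
    have h5 : x ∈ cj (ρ * m) (R i) := by rw [A.rm h.bt]; exact h4
    have h6 : x ∈ p2 ⊓ cj (ρ * m) (R i) := mem_inf.2 ⟨hx, h5⟩
    rw [hp2, ← cj_inf, h.bt.R_inf l i A.ki, cj_bot] at h6
    exact mem_bot.1 h6
  have hp2ne : ∃ u ∈ p2, u ≠ 1 := by
    obtain ⟨z, hz, e1⟩ := h.bt.trans_X_one i l
    refine ⟨ρ * m * (z * v 1 0 * z⁻¹) * (ρ * m)⁻¹, ?_, fun e => ?_⟩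
    · rw [hp2, ← e1]
      exact conj_mem_cj (conj_mem_cj ((h.co.mem_R1 _).2 ⟨1, rfl⟩))
    · rw [mul_inv_eq_one, mul_eq_left, mul_inv_eq_one, mul_eq_left] at e
      exact one_ne_zero (h.co.v_one _ _ e).1
  obtain ⟨u, hu, hu1⟩ := hp2ne
  have huU := ((gfr_of g).mem_cj_SG h.bt y h.co (hp2S hu)).1
  have hu0 : P2 u ≠ 0 := by
    intro e
    have hY := UU_le_YY j huU
    exact hu1 (hp2D u hu ((y.mem_D u hY).2 ⟨(y.mem_U2 u hY).1 huU, e⟩))
  have hH : ∀ w ∈ WW V (R i), w ∈ (MulAut.conj (n0 * m * n0) • Pb : Subgroup G) → w * u = u * w := by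
    intro w hw hwP
    rw [mem_pointwise_smul_iff_inv_smul_mem, MulAut.smul_def, MulAut.conj_inv_apply] at hwP
    have h1 : cj w p2 = p2 := by
      rw [← hopp, ← cj_mul]
      have e : w * (n0 * m * n0) = (n0 * m * n0) * ((n0 * m * n0)⁻¹ * w * (n0 * m * n0)) := by group
      rw [e, cj_mul, cj_eq_self_iff.2 (D.PR hwP)]
    have h2 : w * u * w⁻¹ * u⁻¹ ∈ p2 :=
      mul_mem (conj_mem_of_normalizer (cj_eq_self_iff.1 h1) hu) (inv_mem hu)
    have h3 : w * u * w⁻¹ * u⁻¹ ∈ (gfr_of g).SG k :=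
      (gfr_of g).key_W h.bt y h.co (key_of g key) hw (hp2S hu)
    have h4 : w * u * w⁻¹ * u⁻¹ ∈ DD V R := by
      rw [h.bt.D_eq' h.co.ne]
      exact mem_inf.2 ⟨h3.1, cj_SG_le g k (h.co.nn_R1 h.bt one_ne_zero) (hp2S h2)⟩
    have h5 := hp2D _ h2 h4
    rwa [mul_inv_eq_one, mul_inv_eq_iff_eq_mul] at h5
  have hcnt := card_opp g hk key (hp2S hu) hu0 hH
  exact
    { hq with
      m'_mem := hmPb
      m'_not := hmB
      m1 := ⟨hmPb, hmB⟩
      m2 := ⟨hn0P, hn0B⟩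
      m3 := ⟨hmPb, hmB⟩
      m4 := ⟨hn0P, hn0B⟩
      eq := D.zero.XB (mem_inf.2 ⟨hsw1, cj_eq_self_iff.1 hsw2⟩)
      n_mem := hn0P
      n_not := hn0B
      m_mem := hmPb
      m_not := hmB
      tb := fun x hx hxB => by
        obtain ⟨u', hu', e⟩ := D.tr x hx hxB
        have hu'B : u' ∈ Bo := Zero.Y_le_B h.bt D.zero (UU_le_YY j hu')
        refine ⟨u', hu'B, D.PV (mem_inf.2 ⟨mul_mem (inv_mem (mul_mem (D.le hu'B) hmPb)) hx, ?_⟩)⟩
        rw [← cj_eq_self_iff, cj_mul, e, ← hmV, ← cj_mul u' m, cj_inv_cj]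
      O_le := D.zero.WU.trans D.zero.UB
      O_triv := fun o ho x hx => (D.zero.WU.trans D.zero.UB)
        (conj_inv_mem_of_normalizer (normalizer_le_WW V (R i) (D.PR hx)) ho)
      cnt := by
        refine le_trans ?_ hcnt
        have h1 := card_PanS_zero h D.zero
        have h2 := card_PanS_node g D.PV D.tr
        exact Nat.mul_le_mul h1 (Nat.mul_le_mul h2 h1) }

end NodeDat

end Cfsg.Agent.Omega.Lie.Nodes

end
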