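import Cfsg.Agent.Mrg.Omega.BTwo.ModG
import Cfsg.Agent.Mrg.Omega.Lie.Nodes.SigGrp

section


/-!
# NODE LIE, TEXT NODES (#14331): (S) in the language of `FMod`, `Eig`

`conj_P2`: `x ∈ C(R i) ∩ N(V) ∩ N(R j)`, `x e = ε e`, `x n_k ≡ c' n_k`: `P2 (x u x⁻¹) = ε c' P2 u` for `P2 u ∈ F k`.
`hS_of`: (S): `A_k` is centralised by `P` on `M`.
-/

set_option autoImplicit false
set_option linter.unusedSectionVars false

namespace Cfsg.Agent.Omega.Lie.Nodes

open Subgroup Cfsg.Agent.Omega.BTwo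

universe u v w

variable {G : Type u} [Group G] {ι : Type w} {V : Subgroup G} {R : ι → Subgroup G} {i j : ι} {F : Type v}
  [Field F] {v : F → F → G} {w1 w2 : F → G} {M B : Type u} [AddCommGroup M] [AddCommGroup B]
  [DistribMulAction (NR R i) M] [DistribMulAction (NR R i) B] [Module F M] {p : G → M} {r : G → B}
  {f : M →+ M →+ B} {φ : M →ₗ[F] M →ₗ[F] F} {s : NR R i → (F ≃+* F)} [CharP F 2]
  [Finite G] [Finite F] {h : FMod V R i j v w1 w2 M B p r f φ s} {t : F → G} {τ : Lie.TorD V R i j v t}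
  {N : Type u} [AddCommGroup N] [Module F N] {P1 P2 : G → N} {y : YPair V R i j w1 w2 N P1 P2}
  {n : N →ₗ[F] M} {sf : N →ₗ[F] N →ₗ[F] M} {q : N → N →ₗ[F] F} (g : Eig h τ y n sf q)

include g

theorem n_of_D {k k' : N} (hd : n k - n k' ∈ h.fr.sb (DD V R)) : k = k' := by
  obtain ⟨γ, d, hd', e1⟩ := (g.mem_D _).1 hd
  have h1 : (-γ) • p (v 0 1) + (-d) + n (k - k') = 0 := by
    rw [map_sub, e1, neg_smul]
    abel
  exact sub_eq_zero.1 (g.indep _ _ _ ((h.M0 τ).neg_mem hd') h1).2.2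

theorem conj_P2 {x : NR R i} (hxC : (x : G) ∈ centralizer (R i : Set G)) (hxV : (x : G) ∈ normalizer (V : Set G))
    (hxj : cj (x : G) (R j) = R j) {ε c' : F} (hε : x • p (v 0 1) = ε • p (v 0 1)) {k : N}
    (hc' : x • n k - c' • n k ∈ h.fr.sb (DD V R)) {u : G} (hu : u ∈ UU V R j) {c : F} (huk : P2 u = c • k) :
    (x : G) * u * (x : G)⁻¹ ∈ UU V R j ∧ P2 ((x : G) * u * (x : G)⁻¹) = (ε * c' * c) • k := by
  have b := h.bt
  have co := h.co
  have hε0 : ε ≠ 0 := by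
    intro h0
    rw [h0, zero_smul, smul_eq_zero_iff_eq] at hε
    exact h.e_ne hε
  have hu' : (x : G) * u * (x : G)⁻¹ ∈ UU V R j := by
    rw [← b.cj_UU hxV hxj]
    exact conj_mem_cj hu
  refine ⟨hu', ?_⟩
  set u' := (x : G) * u * (x : G)⁻¹ with hu'd
  have hv0 : ∀ c, (x : G) * v 0 c * (x : G)⁻¹ = v 0 (ε * c) := by
    intro c
    have h1 : (x : G) * v 0 c * (x : G)⁻¹ ∈ R j := by
      rw [← hxj]; exact conj_mem_cj ((co.mem_R2 _).2 ⟨c, rfl⟩)
    obtain ⟨c2, hc2⟩ := (co.mem_R2 _).1 h1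
    have hvW : v 0 c ∈ WW V (R i) := V_le_WW V (R i) (co.v_mem _ _)
    have h2 : c2 • p (v 0 1) = (ε * c) • p (v 0 1) := by
      rw [← h.p_v 0 c2, hc2, ← h.fr.p_act x _ hvW, h.p_v, h.lin_cen hxC, hε, smul_smul, mul_comm]
    rw [← hc2, (gfr_of g).smul_e_inj b co h2]
  have hv1 : ∀ β, (x : G) * v β 0 * (x : G)⁻¹ = v β 0 := by
    intro β
    rw [← mem_centralizer_iff.1 hxC _ ((co.mem_R1 _).2 ⟨β, rfl⟩), mul_inv_cancel_right]
  set X0 := w1 1 * u * (w1 1)⁻¹ * u⁻¹ with hX0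
  have hX0U : X0 ∈ UU V R i := b.WU' (co.w1_mem 1) hu
  have huY := UU_le_YY j hu
  have hwY : ∀ a, ∀ z ∈ YY V R, w1 a * z * (w1 a)⁻¹ ∈ YY V R := fun a z hz =>
    conj_mem_of_normalizer (b.NV_le_NY (b.W_le_NV i (co.w1_mem a))) hz
  have hP1 : P1 X0 = c • k := by
    rw [hX0, y.mul1 _ (hwY 1 u huY) _ (inv_mem huY), y.w11 1 u huY, y.inv1 huY, one_smul, huk]
    abel
  set w' := (x : G) * w1 1 * (x : G)⁻¹ with hw'
  have hw'W : w' ∈ WW V (R i) :=
    conj_mem_of_normalizer (normalizer_le_WW V (R i) x.2) (co.w1_mem 1)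
  obtain ⟨a', ha'⟩ := co.W1_act w' hw'W
  have ha'ε : a' * ε = 1 := by
    have h1 : w' * v 0 ε * w'⁻¹ = v 1 ε := by
      have h2 : (x : G)⁻¹ * v 0 ε * x = v 0 1 := by
        have := hv0 1
        rw [mul_one] at this
        rw [← this]; group
      calc w' * v 0 ε * w'⁻¹ = x * (w1 1 * ((x : G)⁻¹ * v 0 ε * x) * (w1 1)⁻¹) * (x : G)⁻¹ := by
            rw [hw']; group
        _ = x * (v 1 0 * v 0 1) * (x : G)⁻¹ := by
            rw [h2, co.w1_act, ← co.v_add, zero_add, add_zero, mul_one, zero_add]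
        _ = (x * v 1 0 * (x : G)⁻¹) * (x * v 0 1 * (x : G)⁻¹) := by group
        _ = v 1 ε := by rw [hv1, hv0, ← co.v_add, add_zero, zero_add, mul_one]
    rw [ha', zero_add] at h1
    exact (co.v_inj h1).1
  have hu'Y := UU_le_YY j hu'
  have h3 : P1 (w' * u' * w'⁻¹) = P1 u' + a' • P2 u' := by
    have h4 := b.same hw'W (co.w1_mem a') (fun z hz => by
      obtain ⟨β, γ, rfl⟩ := (co.mem_V z).1 hz
      rw [ha', co.w1_act]) hu'Y
    have hY1 : w' * u' * w'⁻¹ ∈ YY V R := conj_mem_of_normalizer (b.NV_le_NY (b.W_le_NV i hw'W)) hu'Y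
    have hY2 := hwY a' u' hu'Y
    have h5 := ((y.mem_D _ (b.D_le_Y h4)).1 h4).1
    rw [y.mul1 _ hY1 _ (inv_mem hY2), y.inv1 hY2, y.w11 a' u' hu'Y, ← sub_eq_add_neg, sub_eq_zero] at h5
    exact h5
  have h4 : (x : G) * X0 * (x : G)⁻¹ = w' * u' * w'⁻¹ * u'⁻¹ := by rw [hX0, hw', hu'd]; group
  have h5 : P1 ((x : G) * X0 * (x : G)⁻¹) = a' • P2 u' := by
    have hY1 : w' * u' * w'⁻¹ ∈ YY V R := conj_mem_of_normalizer (b.NV_le_NY (b.W_le_NV i hw'W)) hu'Y
    rw [h4, y.mul1 _ hY1 _ (inv_mem hu'Y), h3, y.inv1 hu'Y]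
    abel
  have hxi : cj (x : G) (R i) = R i := cj_eq_self_iff.2 x.2
  have hxX : (x : G) * X0 * (x : G)⁻¹ ∈ UU V R i := by
    rw [← b.cj_UU hxV hxi]
    exact conj_mem_cj hX0U
  have hDx : ∀ m ∈ h.fr.sb (DD V R), x • m ∈ h.fr.sb (DD V R) := fun m hm =>
    h.fr.sb_smul (b.NV_le_ND hxV) hm
  have h6 : P1 ((x : G) * X0 * (x : G)⁻¹) = (c * c') • k := by
    symm
    apply n_of_D g
    have e1 := g.p_n _ hxX
    have e2 := hDx _ (g.p_n _ hX0U)
    rw [smul_sub, h.fr.p_act x _ (UU_le_WW i hX0U), hP1, map_smul, h.lin_cen hxC] at e2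
    have e3 := h.D_smul τ y hc' c
    have e4 : n ((c * c') • k) - n (P1 ((x : G) * X0 * (x : G)⁻¹)) =
        (p ((x : G) * X0 * (x : G)⁻¹) - n (P1 ((x : G) * X0 * (x : G)⁻¹))) -
          (p ((x : G) * X0 * (x : G)⁻¹) - c • x • n k) - c • (x • n k - c' • n k) := by
      rw [map_smul, smul_sub, smul_smul]
      abel
    rw [e4]
    exact sub_mem (sub_mem e1 e2) e3
  have h7 : a' • P2 u' = (c * c') • k := by rw [← h5, h6]
  calc P2 u' = (ε * a') • P2 u' := by rw [mul_comm, ha'ε, one_smul]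
    _ = ε • (c * c') • k := by rw [← smul_smul, h7]
    _ = (ε * c' * c) • k := by rw [smul_smul]; congr 1; ring

omit [Finite G] [Finite F] g in
/-- an element of `C(R i) ∩ N(V)` normalises `R j` up to `W i` -/
theorem exists_W_mul (b : BT V R) (hij : i ≠ j) {x : G} (hxC : x ∈ centralizer (R i : Set G))
    (hxV : x ∈ normalizer (V : Set G)) : ∃ w ∈ WW V (R i), cj (w⁻¹ * x) (R j) = R j := by
  obtain ⟨k, hk⟩ := b.perm x hxV j
  have hki : k ≠ i := by
    rintro rfl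
    have h2 : cj x (R k) = R k := cj_eq_self_iff.2 (centralizer_le_normalizer _ hxC)
    have h3 : cj x⁻¹ (cj x (R j)) = cj x⁻¹ (cj x (R k)) := by rw [hk, h2]
    rw [cj_inv_cj, cj_inv_cj] at h3
    have h4 := b.R_inf k j hij
    rw [h3, inf_idem] at h4
    exact b.R_ne k h4
  obtain ⟨w, hw, hwk⟩ := b.trans i (Ne.symm hij) hki
  exact ⟨w, hw, by rw [cj_mul, hk, ← hwk, cj_inv_cj]⟩

/-- the lines `V ^ x`, `x ∈ P` -/
def Lin (V P : Subgroup G) : Type u := {L : Subgroup G // ∃ x ∈ P, L = cj x V}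

instance linAct (V P : Subgroup G) : MulAction P (Lin V P) where
  smul x L := ⟨cj (x : G) L.1, by
    obtain ⟨z, hz, e⟩ := L.2
    exact ⟨x * z, mul_mem x.2 hz, by rw [e, cj_mul]⟩⟩
  one_smul L := Subtype.ext (cj_one _)
  mul_smul x z L := Subtype.ext (cj_mul _ _ _)

/-- the stabiliser of `e` centralises `A_k` on `M` -/
theorem hst_of {k : N} {P : Subgroup G} (hPR : P ≤ centralizer (R i : Set G))
    (hPN : ∀ x : NR R i, (x : G) ∈ P → ∀ m ∈ Ng (p (v 0 1)) n (fun a b => sf a b) k,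
      x • m ∈ Ng (p (v 0 1)) n (fun a b => sf a b) k)
    (hmul : ∀ x : NR R i, (x : G) ∈ P → (x : G) ∈ normalizer (V : Set G) → ∀ ε c' : F,
      x • p (v 0 1) = ε • p (v 0 1) → x • n k - c' • n k ∈ h.fr.sb (DD V R) → ε * c' = 1)
    {x : NR R i} (hx : (x : G) ∈ P) (hxV : (x : G) ∈ normalizer (V : Set G)) (c : F) (m : M) :
    x • alp h y (c • k) m = alp h y (c • k) (x • m) := by
  have b := h.bt
  have hxC := hPR hx
  obtain ⟨w, hw, hwj⟩ := exists_W_mul b h.co.ne hxC hxV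
  have hwN : w ∈ normalizer (R i : Set G) := b.W_le_N i hw
  have hwC : w ∈ centralizer (R i : Set G) := by
    rw [mem_centralizer_iff]
    exact fun z hz => (b.QR i w (b.W_le_Q i hw) z hz).symm
  set x' : NR R i := ⟨w, hwN⟩⁻¹ * x with hx'
  have hact : ∀ m : M, x' • m = x • m := by
    intro m
    have h1 : (⟨w, hwN⟩ : NR R i) • x' • m = x • m := by
      rw [hx', ← mul_smul, mul_inv_cancel_left]
    rwa [h.fr.W_act b hw] at h1
  have hx'C : (x' : G) ∈ centralizer (R i : Set G) := mul_mem (inv_mem hwC) hxC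
  have hx'V : (x' : G) ∈ normalizer (V : Set G) := mul_mem (inv_mem (b.W_le_NV i hw)) hxV
  have hx'j : cj (x' : G) (R j) = R j := hwj
  -- `ε`
  obtain ⟨ε, hε⟩ : ∃ ε : F, x • p (v 0 1) = ε • p (v 0 1) := by
    have hv : v 0 1 ∈ V := h.co.v_mem _ _
    obtain ⟨β, γ, e1⟩ := (h.co.mem_V _).1 (conj_mem_of_normalizer hxV hv)
    refine ⟨γ, ?_⟩
    rw [h.fr.p_act x _ (V_le_WW V (R i) hv), ← e1, h.p_v]
  -- `c'`
  obtain ⟨c', hc'⟩ : ∃ c' : F, x • n k - c' • n k ∈ h.fr.sb (DD V R) := by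
    obtain ⟨c1, z, hz, c', e1⟩ := mem_Ng.1 (hPN x hx _ n_mem_Ng)
    refine ⟨c', ?_⟩
    rw [e1, add_sub_cancel_right, g.mem_D]
    exact ⟨c1, z, (nfr_of g).Zg_le hz, rfl⟩
  have h1 := hmul x hx hxV ε c' hε hc'
  obtain ⟨a, ha, hak⟩ := exists_ak h y (c • k)
  obtain ⟨h2, h3⟩ := conj_P2 g hx'C hx'V hx'j (by rw [hact]; exact hε) (by rw [hact]; exact hc') ha hak
  rw [h1, one_mul] at h3
  have h5 : ∀ m, alp h y (c • k) m = (x' * a * x'⁻¹) • m := by
    intro m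
    have := alp_apply h y (a := x' * a * x'⁻¹) h2 m
    rw [← this]
    congr 2
    exact h3.symm
  have h6 : alp h y (c • k) m = a • m := by rw [← hak, alp_apply h y ha]
  rw [h6, h5 (x • m)]
  calc x • a • m = x' • a • m := (hact _).symm
    _ = (x' * a * x'⁻¹) • x' • m := by
      rw [mul_smul (x' * a) x'⁻¹ (x' • m), inv_smul_smul]
      exact (mul_smul x' a m).symm
    _ = (x' * a * x'⁻¹) • x • m := by rw [hact]

/-- **(S)** -/
theorem hS_of {k : N} {P : Subgroup G} (hPR : P ≤ centralizer (R i : Set G)) (hUP : UU V R j ≤ P)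
    (hPN : ∀ x : NR R i, (x : G) ∈ P → ∀ m ∈ Ng (p (v 0 1)) n (fun a b => sf a b) k,
      x • m ∈ Ng (p (v 0 1)) n (fun a b => sf a b) k)
    (hK : ∀ l, sf k l = 0 → q k l = 0)
    (htr : ∀ x ∈ P, ∀ x' ∈ P, cj x V ≠ V → cj x' V ≠ V → ∃ a ∈ UU V R j, cj a (cj x V) = cj x' V)
    (hmul : ∀ x : NR R i, (x : G) ∈ P → (x : G) ∈ normalizer (V : Set G) → ∀ ε c' : F,
      x • p (v 0 1) = ε • p (v 0 1) → x • n k - c' • n k ∈ h.fr.sb (DD V R) → ε * c' = 1)
    (hcard : (Module.finrank F (Ng (p (v 0 1)) n (fun a b => sf a b) k) + 1).choose 2 + 1 <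
      Nat.card (Lin V P)) :
    ∀ x : NR R i, (x : G) ∈ P → ∀ a : NR R i, (a : G) ∈ UU V R j → (∃ c : F, P2 (a : G) = c • k) →
      ∀ m : M, x • a • m = a • x • m := by
  have b := h.bt
  have hMf : Finite M := Finite.of_surjective (fun x : WW V (R i) => p x) fun m => by
    obtain ⟨x, hx, e1⟩ := h.fr.p_surj m
    exact ⟨⟨x, hx⟩, e1⟩
  intro x hx a ha hc m
  obtain ⟨c, hak⟩ := hc
  have hle : P ≤ NR R i := hPR.trans (centralizer_le_normalizer _)
  let I1 : DistribMulAction P M := DistribMulAction.compHom M (Subgroup.inclusion hle)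
  have hsm : ∀ (x : P) (m : M), x • m = (⟨x, hle x.2⟩ : NR R i) • m := fun _ _ => rfl
  have I2 : SMulCommClass P F M := ⟨fun x c m => by
    rw [hsm, hsm]
    exact h.lin_cen (hPR x.2) c m⟩
  have hkey : Key (p (v 0 1)) n (fun a b => sf a b) (alp h y) k :=
    (gfr_of g).key_of (g := k) hK (fun l hl r => Eig_ks g hl r) (fun r l => sh_sq g r k l)
  have hLeq : ∀ L L' : Lin V P, L = L' ↔ L.1 = L'.1 := fun L L' => Subtype.ext_iff
  have key := Fixed.main (P := P) (Ω := Lin V P) φ h.phi_symm (fr_of h).nd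
    (fun x m m' => h.phi_cen (g := ⟨x, hle x.2⟩) (hPR x.2) m m')
    (Ng (p (v 0 1)) n (fun a b => sf a b) k)
    (fun x m hm => hPN ⟨x, hle x.2⟩ x.2 m hm)
    (fun m hm m' hm' => (nfr_of g).Ng_isotropic hm hm')
    (alp h y (c • k)) ((gfr_of g).α_f (c • k)) (hkey c)
    ⟨V, 1, one_mem _, (cj_one _).symm⟩
    (fun L => by
      obtain ⟨z, hz, e1⟩ := L.2
      exact ⟨⟨z, hz⟩, Subtype.ext e1.symm⟩)
    ((UU V R j).subgroupOf P) ((b.U_isPGroup j).comap_of_injective P.subtype (Subgroup.subtype_injective P))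
    (fun a ha' => Subtype.ext (cj_eq_self_iff.2 (centralizer_le_normalizer _ (UU_le_cen j ha'))))
    (fun L L' hL hL' => by
      obtain ⟨z, hz, e1⟩ := L.2
      obtain ⟨z', hz', e2⟩ := L'.2
      have hn : cj z V ≠ V := fun e3 => hL (Subtype.ext (e1.trans e3))
      have hn' : cj z' V ≠ V := fun e3 => hL' (Subtype.ext (e2.trans e3))
      obtain ⟨a, ha', e3⟩ := htr z hz z' hz' hn hn'
      refine ⟨⟨a, hUP ha'⟩, ha', Subtype.ext ?_⟩
      show cj a L.1 = L'.1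
      rw [e1, e2, e3])
    (fun x hxe m => by
      have hxV : (x : G) ∈ normalizer (V : Set G) := cj_eq_self_iff.1 (congrArg Subtype.val hxe)
      exact hst_of g hPR hPN hmul (x := ⟨x, hle x.2⟩) x.2 hxV c m)
    hcard ⟨x, hx⟩ m
  have h1 : ∀ m, alp h y (c • k) m = a • m := fun m => by rw [← hak, alp_apply h y ha]
  rw [h1, h1] at key
  exact key

/-- the multiplier condition in type (sigma): determinant -/
theorem hmul_sigma {k : N} (hk0 : k ≠ 0) (hZ : ∀ l, sf k l = 0) {P : Subgroup G}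
    (hPR : P ≤ centralizer (R i : Set G))
    (hPN : ∀ x : NR R i, (x : G) ∈ P → ∀ m ∈ Ng (p (v 0 1)) n (fun a b => sf a b) k,
      x • m ∈ Ng (p (v 0 1)) n (fun a b => sf a b) k)
    (hgen : ∀ H : Subgroup P, (∀ x, (∃ m : ℕ, x ^ 2 ^ m = 1) → x ∈ H) → H = ⊤)
    (x : NR R i) (hx : (x : G) ∈ P) (ε c' : F) (hε : x • p (v 0 1) = ε • p (v 0 1))
    (hc' : x • n k - c' • n k ∈ h.fr.sb (DD V R)) : ε * c' = 1 := by
  have hle : P ≤ NR R i := hPR.trans (centralizer_le_normalizer _)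
  let I1 : DistribMulAction P M := DistribMulAction.compHom M (Subgroup.inclusion hle)
  have hsm : ∀ (x : P) (m : M), x • m = (⟨x, hle x.2⟩ : NR R i) • m := fun _ _ => rfl
  have I2 : SMulCommClass P F M := ⟨fun x c m => by
    rw [hsm, hsm]
    exact h.lin_cen (hPR x.2) c m⟩
  have hspan : ∀ m ∈ Ng (p (v 0 1)) n (fun a b => sf a b) k, ∃ α β : F, m = α • p (v 0 1) + β • n k := by
    intro m hm
    obtain ⟨c, z, hz, r, rfl⟩ := mem_Ng.1 hm
    have hz0 : z = 0 := by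
      have h1 : Zg F (fun a b => sf a b) k ≤ ⊥ := by
        refine Submodule.span_le.2 ?_
        rintro _ ⟨l, rfl⟩
        exact (Submodule.mem_bot F).2 (hZ l)
      exact (Submodule.mem_bot F).1 (h1 hz)
    exact ⟨c, r, by rw [hz0, add_zero]⟩
  have hli : ∀ α β : F, α • p (v 0 1) + β • n k = 0 → α = 0 ∧ β = 0 := by
    intro α β e1
    obtain ⟨h1, -, h2⟩ := g.indep α 0 (β • k) (h.M0 τ).zero_mem (by rw [add_zero, map_smul]; exact e1)
    exact ⟨h1, (smul_eq_zero.1 h2).resolve_right hk0⟩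
  obtain ⟨δ, c2, e2⟩ := hspan _ (hPN x hx _ n_mem_Ng)
  have hcc : c2 = c' := by
    have h1 : n (c2 • k) - n (c' • k) ∈ h.fr.sb (DD V R) := by
      have h2 : n (c2 • k) - n (c' • k) = (x • n k - c' • n k) - δ • p (v 0 1) := by
        rw [e2, map_smul, map_smul]
        abel
      rw [h2]
      exact sub_mem hc' (h.D_smul_e τ δ)
    have h2 := n_of_D g h1
    have h3 : (c2 - c') • k = 0 := by rw [sub_smul, h2, sub_self]
    exact sub_eq_zero.1 ((smul_eq_zero.1 h3).resolve_right hk0)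
  rw [hcc] at e2
  exact Fixed.mul_eq_one_of_two (F := F) (P := P) hgen (Ng (p (v 0 1)) n (fun a b => sf a b) k)
    (fun x m hm => hPN ⟨x, hle x.2⟩ x.2 m hm) e_mem_Ng n_mem_Ng hspan hli ⟨x, hx⟩ hε
    (by rw [hsm]; exact e2.trans (add_comm _ _))

end Cfsg.Agent.Omega.Lie.Nodes

end

section


/-!
# NODE LIE, TEXT NODES (#14331): (S), type (beta): the multiplier

`qN`: `q_N(c e + z + c' n_k) = c c' + Q(z)`, `Q(sf k l) = q l k`, on `N = N_k`.  If `Ω = e^P` consists of `⟨e⟩` and of the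
`⟨n_k + sf k l + q l k e⟩`, `Q` is anisotropic and some `m ∈ P` swaps `⟨e⟩` and `⟨n_k⟩`, then `P` preserves `q_N` up to
scalars (`qN_P`); so `hmul_beta` if `P` is generated by 2-elements.
-/

set_option autoImplicit false
set_option linter.unusedSectionVars false

namespace Cfsg.Agent.Omega.Lie.Nodes

open Subgroup Cfsg.Agent.Omega.BTwo

universe u v w

/-- a polynomial of degree 3 without constant term vanishing everywhere, `q ≥ 4` -/
theorem cubic_zero {F : Type v} [Field F] [CharP F 2] {A B C ζ : F} (h0 : ζ ≠ 0) (h1 : ζ ≠ 1)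
    (h : ∀ l : F, l * A + l * l * B + l * l * l * C = 0) : A = 0 ∧ B = 0 ∧ C = 0 := by
  have h2 : (2 : F) = 0 := CharTwo.two_eq_zero
  have e1 := h 1
  have e2 := h ζ
  have e3 := h (ζ + 1)
  have e2' : A + ζ * B + ζ * ζ * C = 0 := by
    have : ζ * (A + ζ * B + ζ * ζ * C) = 0 := by linear_combination e2
    exact (mul_eq_zero.1 this).resolve_left h0
  have hz1 : ζ + 1 ≠ 0 := by
    intro h3
    apply h1
    have : ζ = -1 := eq_neg_of_add_eq_zero_left h3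
    rw [this, CharTwo.neg_eq]
  have e3' : A + (ζ + 1) * B + (ζ + 1) * (ζ + 1) * C = 0 := by
    have : (ζ + 1) * (A + (ζ + 1) * B + (ζ + 1) * (ζ + 1) * C) = 0 := by linear_combination e3
    exact (mul_eq_zero.1 this).resolve_left hz1
  have hA : A = 0 := by
    linear_combination e1 + e2' + e3' - (A + (ζ + 1) * B + (ζ * ζ + ζ + 1) * C) * h2
  have hBC : B + C = 0 := by linear_combination e1 - hA
  have hC : (ζ - 1) * C = 0 := by
    have : ζ * (B + ζ * C) = 0 := by linear_combination e2' - hA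
    have h3 := (mul_eq_zero.1 this).resolve_left h0
    linear_combination h3 - hBC
  have hC0 := (mul_eq_zero.1 hC).resolve_left (sub_ne_zero.2 h1)
  exact ⟨hA, by rw [hC0, add_zero] at hBC; exact hBC, hC0⟩

variable {G : Type u} [Group G] {ι : Type w} {V : Subgroup G} {R : ι → Subgroup G} {i j : ι} {F : Type v}
  [Field F] {v : F → F → G} {w1 w2 : F → G} {M B : Type u} [AddCommGroup M] [AddCommGroup B]
  [DistribMulAction (NR R i) M] [DistribMulAction (NR R i) B] [Module F M] {p : G → M} {r : G → B}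
  {f : M →+ M →+ B} {φ : M →ₗ[F] M →ₗ[F] F} {s : NR R i → (F ≃+* F)} [CharP F 2]
  [Finite G] [Finite F] {h : FMod V R i j v w1 w2 M B p r f φ s} {t : F → G} {τ : Lie.TorD V R i j v t}
  {N : Type u} [AddCommGroup N] [Module F N] {P1 P2 : G → N} {y : YPair V R i j w1 w2 N P1 P2}
  {n : N →ₗ[F] M} {sf : N →ₗ[F] N →ₗ[F] M} {q : N → N →ₗ[F] F}

open Classical in
/-- the quadratic form `q_N` -/
noncomputable def qN (e : M) (n : N →ₗ[F] M) (sf : N →ₗ[F] N →ₗ[F] M) (q : N → N →ₗ[F] F) (k : N) (m : M) : F :=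
  if H : ∃ c : F, ∃ l : N, ∃ c' : F, m = c • e + sf k l + c' • n k then
    H.choose * H.choose_spec.choose_spec.choose + q H.choose_spec.choose k else 0

variable (g : Eig h τ y n sf q)
include g

theorem q_zero (k : N) : q 0 k = 0 := by
  have := g.q_smul 0 0 k
  rw [zero_smul] at this
  rw [this]; ring

theorem qN_eq {k : N} (hk0 : k ≠ 0) (hK : ∀ l, sf k l = 0 → q l k = 0) (c : F) (l : N) (c' : F) :
    qN (p (v 0 1)) n sf q k (c • p (v 0 1) + sf k l + c' • n k) = c * c' + q l k := by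
  have H : ∃ c₁ : F, ∃ l₁ : N, ∃ c₁' : F, c • p (v 0 1) + sf k l + c' • n k =
      c₁ • p (v 0 1) + sf k l₁ + c₁' • n k := ⟨c, l, c', rfl⟩
  unfold qN
  rw [dif_pos H]
  set c₁ := H.choose
  set l₁ := H.choose_spec.choose
  set c₁' := H.choose_spec.choose_spec.choose
  have e1 : c • p (v 0 1) + sf k l + c' • n k = c₁ • p (v 0 1) + sf k l₁ + c₁' • n k :=
    H.choose_spec.choose_spec.choose_spec
  obtain ⟨h1, h2, h3⟩ := g.indep (c₁ - c) (sf k (l₁ - l)) ((c₁' - c') • k) (g.sf_mem _ _) (by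
    rw [sub_smul, map_sub, map_smul, sub_smul]
    have : c₁ • p (v 0 1) - c • p (v 0 1) + (sf k l₁ - sf k l) + (c₁' • n k - c' • n k) =
      (c₁ • p (v 0 1) + sf k l₁ + c₁' • n k) - (c • p (v 0 1) + sf k l + c' • n k) := by abel
    rw [this, e1, sub_self])
  have h4 : c₁' = c' := sub_eq_zero.1 ((smul_eq_zero.1 h3).resolve_right hk0)
  have h5 : q l₁ k = q l k := by
    have e2 : l₁ = l + (l₁ - l) := by abel
    have e3 := g.q_add l (l₁ - l) k
    rw [← e2, hK _ h2, h2, map_zero, LinearMap.zero_apply, add_zero, add_zero] at e3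
    exact e3
  have h6 : c₁ = c := sub_eq_zero.1 h1
  change c₁ * c₁' + q l₁ k = c * c' + q l k
  rw [h6, h4, h5]

theorem mem_Ng' {k : N} {m : M} : m ∈ Ng (p (v 0 1)) n (fun a b => sf a b) k ↔
    ∃ c : F, ∃ l : N, ∃ c' : F, m = c • p (v 0 1) + sf k l + c' • n k := by
  rw [mem_Ng]
  constructor
  · rintro ⟨c, z, hz, r, rfl⟩
    obtain ⟨l, rfl⟩ : ∃ l, sf k l = z := by
      refine Submodule.span_induction (p := fun z _ => ∃ l, sf k l = z) ?_ ?_ ?_ ?_ hz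
      · rintro _ ⟨l, rfl⟩
        exact ⟨l, rfl⟩
      · exact ⟨0, map_zero _⟩
      · rintro _ _ _ _ ⟨l, rfl⟩ ⟨l', rfl⟩
        exact ⟨l + l', map_add _ _ _⟩
      · rintro a _ _ ⟨l, rfl⟩
        exact ⟨a • l, map_smul _ _ _⟩
    exact ⟨c, l, r, rfl⟩
  · rintro ⟨c, l, r, rfl⟩
    exact ⟨c, _, s_mem_Zg l, r, rfl⟩

/-- the action of `A` on `N_k` -/
theorem A_N {a : NR R i} (ha : (a : G) ∈ UU V R j) (k : N) (c : F) (l : N) (d : F) :
    a • (c • p (v 0 1) + sf k l + d • n k) =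
      (c + φ (sf k l) (n (P2 (a : G))) + d * q (P2 (a : G)) k) • p (v 0 1) + sf k (l + d • P2 (a : G)) + d • n k := by
  have hC := cen_of_U h y ha
  rw [smul_add, smul_add, h.lin_cen hC, h.lin_cen hC, g.A_e a ha, g.A_0 a ha _ (g.sf_mem _ _), g.A_1 a ha,
    map_add, map_smul]
  module

theorem qN_A {a : NR R i} (ha : (a : G) ∈ UU V R j) {k : N} (hk0 : k ≠ 0) (hK : ∀ l, sf k l = 0 → q l k = 0)
    {m : M} (hm : m ∈ Ng (p (v 0 1)) n (fun a b => sf a b) k) :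
    qN (p (v 0 1)) n sf q k (a • m) = qN (p (v 0 1)) n sf q k m := by
  obtain ⟨c, l, d, rfl⟩ := (mem_Ng' g).1 hm
  rw [A_N g ha, qN_eq g hk0 hK, qN_eq g hk0 hK, g.q_add, g.q_smul, map_smul, map_smul, LinearMap.smul_apply,
    g.T_23 k (P2 (a : G)) l, smul_eq_mul]
  have h2 : (2 : F) = 0 := CharTwo.two_eq_zero
  linear_combination (d * φ (sf k l) (n (P2 (a : G))) + d ^ 2 * q (P2 (a : G)) k) * h2

section P

variable {P : Subgroup G} (hPR : P ≤ centralizer (R i : Set G)) (hUP : UU V R j ≤ P) {k : N} (hk0 : k ≠ 0)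
  (hK : ∀ l, sf k l = 0 → q l k = 0)
  (hPN : ∀ x : NR R i, (x : G) ∈ P → ∀ m ∈ Ng (p (v 0 1)) n (fun a b => sf a b) k,
      x • m ∈ Ng (p (v 0 1)) n (fun a b => sf a b) k)
  (hΩ : ∀ x : NR R i, (x : G) ∈ P → (∃ ε : F, x • p (v 0 1) = ε • p (v 0 1)) ∨
      ∃ c : F, ∃ l : N, x • p (v 0 1) = c • (n k + sf k l + q l k • p (v 0 1)))
  {m₀ : NR R i} (hm₀ : (m₀ : G) ∈ P) {β γ : F} (hβ : β ≠ 0) (hγ : γ ≠ 0)
  (hm1 : m₀ • p (v 0 1) = β • n k) (hm2 : m₀ • n k = γ • p (v 0 1))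

include hk0 hK hΩ in
theorem qN_orbit {x : NR R i} (hx : (x : G) ∈ P) (c : F) :
    qN (p (v 0 1)) n sf q k (c • x • p (v 0 1)) = 0 := by
  rcases hΩ x hx with ⟨ε, e1⟩ | ⟨c1, l, e1⟩
  · have e2 : c • x • p (v 0 1) = (c * ε) • p (v 0 1) + sf k 0 + (0 : F) • n k := by
      rw [e1, map_zero, zero_smul, add_zero, add_zero, smul_smul]
    rw [e2, qN_eq g hk0 hK, q_zero g, mul_zero, add_zero]
  · have e2 : c • x • p (v 0 1) = (c * c1 * q l k) • p (v 0 1) + sf k ((c * c1) • l) + (c * c1) • n k := by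
      rw [e1, map_smul]
      module
    rw [e2, qN_eq g hk0 hK, g.q_smul]
    have h2 : (2 : F) = 0 := CharTwo.two_eq_zero
    linear_combination (c * c1 * (c * c1) * q l k) * h2

include hPR hUP hk0 hK hΩ hm₀ hβ hm1 in
/-- `q_N (x (n_k + λ z + λ² Q(z) e)) = 0` -/
theorem qN_curve {x : NR R i} (hx : (x : G) ∈ P) (l : N) (a : F) :
    qN (p (v 0 1)) n sf q k (x • ((a * a * q l k) • p (v 0 1) + sf k (a • l) + n k)) = 0 := by
  obtain ⟨u, hu, huk⟩ := exists_ak h y (a • l)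
  have e1 : (a * a * q l k) • p (v 0 1) + sf k (a • l) + n k = u • n k := by
    rw [g.A_1 u hu, huk, g.q_smul]
    module
  have e2 : n k = β⁻¹ • m₀ • p (v 0 1) := by rw [hm1, smul_smul, inv_mul_cancel₀ hβ, one_smul]
  have huC := cen_of_U h y hu
  have hxC := hPR hx
  have e3 : x • u • n k = β⁻¹ • (x * u * m₀) • p (v 0 1) := by
    rw [e2, h.lin_cen huC, h.lin_cen hxC, mul_smul, mul_smul]
  rw [e1, e3]
  exact qN_orbit g hk0 hK hΩ (mul_mem (mul_mem hx (hUP hu)) hm₀) _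

include hPR hUP hk0 hK hPN hΩ hm₀ hβ hm1 in
/-- an element fixing `⟨e⟩` and `⟨n_k⟩` -/
theorem qN_fix (han : ∀ l, q l k = 0 → sf k l = 0) {x : NR R i} (hx : (x : G) ∈ P) {ε c' : F} (hε0 : ε ≠ 0)
    (hc0 : c' ≠ 0) (hε : x • p (v 0 1) = ε • p (v 0 1)) (hc' : x • n k = c' • n k)
    {m : M} (hm : m ∈ Ng (p (v 0 1)) n (fun a b => sf a b) k) :
    qN (p (v 0 1)) n sf q k (x • m) = (ε * c') * qN (p (v 0 1)) n sf q k m := by
  have hxC := hPR hx
  obtain ⟨ζ, hζ, hζ1⟩ := h.four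
  have h2 : (2 : F) = 0 := CharTwo.two_eq_zero
  have key : ∀ l, ∃ l', x • sf k l = sf k l' ∧ q l' k = ε * c' * q l k := by
    intro l
    by_cases hQ : q l k = 0
    · refine ⟨0, ?_, ?_⟩
      · rw [han l hQ, smul_zero, map_zero]
      · rw [q_zero g, hQ, mul_zero]
    obtain ⟨c1, l1, c2, e1⟩ := (mem_Ng' g).1 (hPN x hx _ (Zg_le_Ng (s_mem_Zg l)))
    have e1' : x • sf k l = c1 • p (v 0 1) + sf k l1 + c2 • n k := e1
    have h3 : ∀ a : F, a * (c1 * c') + a * a * (c1 * c2 + ε * q l k * c' + q l1 k) +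
        a * a * a * (ε * q l k * c2) = 0 := by
      intro a
      have h4 := qN_curve g hPR hUP hk0 hK hΩ hm₀ hβ hm1 hx l a
      have e2 : x • ((a * a * q l k) • p (v 0 1) + sf k (a • l) + n k) =
          (a * a * q l k * ε + a * c1) • p (v 0 1) + sf k (a • l1) + (a * c2 + c') • n k := by
        rw [smul_add, smul_add, h.lin_cen hxC, hε, map_smul, h.lin_cen hxC, e1', hc', map_smul]
        module
      rw [e2, qN_eq g hk0 hK, g.q_smul] at h4
      linear_combination h4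
    obtain ⟨hA, hB, hC⟩ := cubic_zero hζ hζ1 h3
    have hc1 : c1 = 0 := (mul_eq_zero.1 hA).resolve_right hc0
    have hc2 : c2 = 0 := (mul_eq_zero.1 hC).resolve_left (mul_ne_zero hε0 hQ)
    refine ⟨l1, ?_, ?_⟩
    · rw [e1', hc1, hc2, zero_smul, zero_smul, zero_add, add_zero]
    · rw [hc1, zero_mul, zero_add] at hB
      linear_combination hB - ε * q l k * c' * h2
  obtain ⟨c, l, d, rfl⟩ := (mem_Ng' g).1 hm
  obtain ⟨l', e1, e2⟩ := key l
  have e3 : x • (c • p (v 0 1) + sf k l + d • n k) = (c * ε) • p (v 0 1) + sf k l' + (d * c') • n k := by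
    rw [smul_add, smul_add, h.lin_cen hxC, hε, e1, h.lin_cen hxC, hc', smul_smul, smul_smul]
  rw [e3, qN_eq g hk0 hK, qN_eq g hk0 hK, e2]
  ring

include hPR hUP hk0 hK hPN hΩ hm₀ hβ hγ hm1 hm2 in
/-- the element swapping `⟨e⟩` and `⟨n_k⟩` -/
theorem qN_swap (han : ∀ l, q l k = 0 → sf k l = 0)
    {m : M} (hm : m ∈ Ng (p (v 0 1)) n (fun a b => sf a b) k) :
    qN (p (v 0 1)) n sf q k (m₀ • m) = (β * γ) * qN (p (v 0 1)) n sf q k m := by
  have hxC := hPR hm₀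
  obtain ⟨ζ, hζ, hζ1⟩ := h.four
  have h2 : (2 : F) = 0 := CharTwo.two_eq_zero
  have key : ∀ l, ∃ l', m₀ • sf k l = sf k l' ∧ q l' k = β * γ * q l k := by
    intro l
    by_cases hQ : q l k = 0
    · refine ⟨0, ?_, ?_⟩
      · rw [han l hQ, smul_zero, map_zero]
      · rw [q_zero g, hQ, mul_zero]
    obtain ⟨c1, l1, c2, e1⟩ := (mem_Ng' g).1 (hPN m₀ hm₀ _ (Zg_le_Ng (s_mem_Zg l)))
    have e1' : m₀ • sf k l = c1 • p (v 0 1) + sf k l1 + c2 • n k := e1
    have h3 : ∀ a : F, a * (γ * c2) + a * a * (c1 * c2 + γ * q l k * β + q l1 k) +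
        a * a * a * (c1 * q l k * β) = 0 := by
      intro a
      have h4 := qN_curve g hPR hUP hk0 hK hΩ hm₀ hβ hm1 hm₀ l a
      have e2 : m₀ • ((a * a * q l k) • p (v 0 1) + sf k (a • l) + n k) =
          (γ + a * c1) • p (v 0 1) + sf k (a • l1) + (a * c2 + a * a * q l k * β) • n k := by
        rw [smul_add, smul_add, h.lin_cen hxC, hm1, map_smul, h.lin_cen hxC, e1', hm2, map_smul]
        module
      rw [e2, qN_eq g hk0 hK, g.q_smul] at h4
      linear_combination h4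
    obtain ⟨hA, hB, hC⟩ := cubic_zero hζ hζ1 h3
    have hc2 : c2 = 0 := (mul_eq_zero.1 hA).resolve_left hγ
    have hc1 : c1 = 0 := by
      rcases mul_eq_zero.1 hC with h5 | h5
      · exact (mul_eq_zero.1 h5).resolve_right hQ
      · exact absurd h5 hβ
    refine ⟨l1, ?_, ?_⟩
    · rw [e1', hc1, hc2, zero_smul, zero_smul, zero_add, add_zero]
    · rw [hc1, zero_mul, zero_add] at hB
      linear_combination hB - γ * q l k * β * h2
  obtain ⟨c, l, d, rfl⟩ := (mem_Ng' g).1 hm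
  obtain ⟨l', e1, e2⟩ := key l
  have e3 : m₀ • (c • p (v 0 1) + sf k l + d • n k) = (d * γ) • p (v 0 1) + sf k l' + (c * β) • n k := by
    rw [smul_add, smul_add, h.lin_cen hxC, hm1, e1, h.lin_cen hxC, hm2, smul_smul, smul_smul]
    abel
  rw [e3, qN_eq g hk0 hK, qN_eq g hk0 hK, e2]
  ring

include hPR hUP hk0 hK hPN hΩ hm₀ hβ hγ hm1 hm2 in
/-- an element fixing `⟨e⟩` -/
theorem qN_stab (han : ∀ l, q l k = 0 → sf k l = 0) {x : NR R i} (hx : (x : G) ∈ P) {ε : F}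
    (hε : x • p (v 0 1) = ε • p (v 0 1)) : ∃ μ : F, ∀ m ∈ Ng (p (v 0 1)) n (fun a b => sf a b) k,
    qN (p (v 0 1)) n sf q k (x • m) = μ * qN (p (v 0 1)) n sf q k m := by
  have hxC := hPR hx
  have hε0 : ε ≠ 0 := by
    intro h0
    rw [h0, zero_smul, smul_eq_zero_iff_eq] at hε
    exact h.e_ne hε
  have hnk : n k = β⁻¹ • m₀ • p (v 0 1) := by rw [hm1, smul_smul, inv_mul_cancel₀ hβ, one_smul]
  have hxn : x • n k = β⁻¹ • (x * m₀) • p (v 0 1) := by rw [hnk, h.lin_cen hxC, mul_smul]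
  rcases hΩ (x * m₀) (mul_mem hx hm₀) with ⟨ε', e1⟩ | ⟨c, l, e1⟩
  · exfalso
    rw [e1, smul_smul] at hxn
    have h1 : n k = (β⁻¹ * ε' * ε⁻¹) • p (v 0 1) := by
      have h2 : x • n k = x • ((β⁻¹ * ε' * ε⁻¹) • p (v 0 1)) := by
        rw [hxn, h.lin_cen hxC, hε, smul_smul, mul_assoc, mul_assoc, inv_mul_cancel₀ hε0, mul_one]
      exact MulAction.injective x h2
    obtain ⟨-, -, h3⟩ := g.indep (-(β⁻¹ * ε' * ε⁻¹)) 0 k (h.M0 τ).zero_mem (by
      rw [h1, neg_smul]; abel)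
    exact hk0 h3
  · obtain ⟨a, ha, hak⟩ := exists_ak h y l
    have haC := cen_of_U h y ha
    have e2 : a • n k = n k + sf k l + q l k • p (v 0 1) := by rw [g.A_1 a ha, hak]
    rw [e1, ← e2, smul_smul] at hxn
    have hc0 : β⁻¹ * c ≠ 0 := by
      intro h0
      rw [h0, zero_smul, smul_eq_zero_iff_eq] at hxn
      apply hk0
      exact (g.indep 0 0 k (h.M0 τ).zero_mem (by rw [zero_smul, hxn]; abel)).2.2
    have hx1 : ((a⁻¹ * x : NR R i) : G) ∈ P := mul_mem (inv_mem (hUP ha)) hx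
    have f1 : (a⁻¹ * x) • p (v 0 1) = ε • p (v 0 1) := by
      rw [mul_smul, inv_smul_eq_iff, h.lin_cen haC, g.A_e a ha, hε]
    have f2 : (a⁻¹ * x) • n k = (β⁻¹ * c) • n k := by
      rw [mul_smul, inv_smul_eq_iff, h.lin_cen haC, hxn]
    refine ⟨ε * (β⁻¹ * c), fun m hm => ?_⟩
    rw [← qN_fix g hPR hUP hk0 hK hPN hΩ hm₀ hβ hm1 han hx1 hε0 hc0 f1 f2 hm,
      ← qN_A g ha hk0 hK (hPN _ hx1 m hm), mul_smul, smul_inv_smul]

include hPR hUP hk0 hK hPN hΩ hm₀ hβ hγ hm1 hm2 in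
/-- **`P` preserves `q_N` up to scalars** -/
theorem qN_P (han : ∀ l, q l k = 0 → sf k l = 0) {x : NR R i} (hx : (x : G) ∈ P) :
    ∃ μ : F, ∀ m ∈ Ng (p (v 0 1)) n (fun a b => sf a b) k,
    qN (p (v 0 1)) n sf q k (x • m) = μ * qN (p (v 0 1)) n sf q k m := by
  rcases hΩ x hx with ⟨ε, e1⟩ | ⟨c, l, e1⟩
  · exact qN_stab g hPR hUP hk0 hK hPN hΩ hm₀ hβ hγ hm1 hm2 han hx e1
  · obtain ⟨a, ha, hak⟩ := exists_ak h y l
    have haC := cen_of_U h y ha
    have e2 : a • n k = n k + sf k l + q l k • p (v 0 1) := by rw [g.A_1 a ha, hak]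
    rw [← e2] at e1
    set x3 : NR R i := m₀ * a⁻¹ * x with hx3
    have hx3P : (x3 : G) ∈ P := mul_mem (mul_mem hm₀ (inv_mem (hUP ha))) hx
    have f1 : x3 • p (v 0 1) = (c * γ) • p (v 0 1) := by
      have haC' : ((a⁻¹ : NR R i) : G) ∈ centralizer (R i : Set G) := inv_mem haC
      rw [hx3, mul_smul, mul_smul, e1, h.lin_cen haC', inv_smul_smul, h.lin_cen (hPR hm₀), hm2, smul_smul]
    obtain ⟨μ, hμ⟩ := qN_stab g hPR hUP hk0 hK hPN hΩ hm₀ hβ hγ hm1 hm2 han hx3P f1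
    refine ⟨(β * γ)⁻¹ * μ, fun m hm => ?_⟩
    have hβγ : β * γ ≠ 0 := mul_ne_zero hβ hγ
    have hain : ((a⁻¹ * x : NR R i) : G) ∈ P := mul_mem (inv_mem (hUP ha)) hx
    have e3 : qN (p (v 0 1)) n sf q k (x • m) = qN (p (v 0 1)) n sf q k ((a⁻¹ * x) • m) := by
      rw [← qN_A g ha hk0 hK (hPN _ hain m hm), mul_smul, smul_inv_smul]
    have e4 := qN_swap g hPR hUP hk0 hK hPN hΩ hm₀ hβ hγ hm1 hm2 han (hPN _ hain m hm)
    have e5 : m₀ • (a⁻¹ * x) • m = x3 • m := by rw [hx3, ← mul_smul, mul_assoc]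
    rw [e5, hμ m hm] at e4
    rw [e3, mul_assoc, e4, ← mul_assoc, inv_mul_cancel₀ hβγ, one_mul]

include hPR hUP hk0 hK hPN hΩ hm₀ hβ hγ hm1 hm2 in
/-- **the multiplier condition in type (beta)** -/
theorem hmul_beta (han : ∀ l, q l k = 0 → sf k l = 0)
    (hgen : ∀ H : Subgroup P, (∀ x, (∃ m : ℕ, x ^ 2 ^ m = 1) → x ∈ H) → H = ⊤)
    (x : NR R i) (hx : (x : G) ∈ P) (ε c' : F) (hε : x • p (v 0 1) = ε • p (v 0 1))
    (hc' : x • n k - c' • n k ∈ h.fr.sb (DD V R)) : ε * c' = 1 := by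
  have hle : P ≤ NR R i := hPR.trans (centralizer_le_normalizer _)
  let I1 : DistribMulAction P M := DistribMulAction.compHom M (Subgroup.inclusion hle)
  have hsm : ∀ (x : P) (m : M), x • m = (⟨x, hle x.2⟩ : NR R i) • m := fun _ _ => rfl
  have I2 : SMulCommClass P F M := ⟨fun x c m => by
    rw [hsm, hsm]
    exact h.lin_cen (hPR x.2) c m⟩
  have hqe : ∀ c : F, qN (p (v 0 1)) n sf q k (c • p (v 0 1)) = 0 := by
    intro c
    have e1 : c • p (v 0 1) = c • p (v 0 1) + sf k 0 + (0 : F) • n k := by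
      rw [map_zero, zero_smul, add_zero, add_zero]
    rw [e1, qN_eq g hk0 hK, q_zero g, mul_zero, add_zero]
  have hqn : qN (p (v 0 1)) n sf q k (n k) = 0 := by
    have e1 : n k = (0 : F) • p (v 0 1) + sf k 0 + (1 : F) • n k := by
      rw [map_zero, zero_smul, add_zero, zero_add, one_smul]
    rw [e1, qN_eq g hk0 hK, q_zero g, zero_mul, add_zero]
  have hqs : qN (p (v 0 1)) n sf q k (p (v 0 1) + n k) = 1 := by
    have e1 : p (v 0 1) + n k = (1 : F) • p (v 0 1) + sf k 0 + (1 : F) • n k := by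
      rw [map_zero, add_zero, one_smul, one_smul]
    rw [e1, qN_eq g hk0 hK, q_zero g, mul_one, add_zero]
  -- the components of `x n_k`
  obtain ⟨c1, l1, c2, e1⟩ := (mem_Ng' g).1 (hPN x hx _ n_mem_Ng)
  have hcc : c2 = c' := by
    have h1 : n (c2 • k) - n (c' • k) ∈ h.fr.sb (DD V R) := by
      have h2 : n (c2 • k) - n (c' • k) = (x • n k - c' • n k) - (c1 • p (v 0 1) + sf k l1) := by
        rw [e1, map_smul, map_smul]
        abel
      rw [h2]
      exact sub_mem hc' ((g.mem_D _).2 ⟨c1, _, g.sf_mem k l1, rfl⟩)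
    have h2 := n_of_D g h1
    have h3 : (c2 - c') • k = 0 := by rw [sub_smul, h2, sub_self]
    exact sub_eq_zero.1 ((smul_eq_zero.1 h3).resolve_right hk0)
  rw [hcc] at e1
  refine Fixed.mul_eq_one_of_quad (F := F) (P := P) hgen (Ng (p (v 0 1)) n (fun a b => sf a b) k)
    (fun x m hm => hPN ⟨x, hle x.2⟩ x.2 m hm) (qN (p (v 0 1)) n sf q k)
    (fun x => qN_P g hPR hUP hk0 hK hPN hΩ hm₀ hβ hγ hm1 hm2 han (x := ⟨x, hle x.2⟩) x.2)
    (x₀ := p (v 0 1)) (x := n k) e_mem_Ng n_mem_Ng ?_ ⟨x, hx⟩ (ε := ε) (c' := c') ?_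
  · have := hqe 1
    rw [one_smul] at this
    rw [hqs, this, hqn, sub_zero, sub_zero]
    exact one_ne_zero
  · have hq1 := hqe 1
    rw [one_smul] at hq1
    rw [hsm, hsm, hqs, hq1, hqn, sub_zero, sub_zero, mul_one]
    have f1 : (⟨x, hle hx⟩ : NR R i) • p (v 0 1) = ε • p (v 0 1) := hε
    have f2 : (⟨x, hle hx⟩ : NR R i) • n k = c1 • p (v 0 1) + sf k l1 + c' • n k := e1
    have f3 : ε • p (v 0 1) + (c1 • p (v 0 1) + sf k l1 + c' • n k) =
        (ε + c1) • p (v 0 1) + sf k l1 + c' • n k := by module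
    rw [f1, f2, f3, hqe, qN_eq g hk0 hK, qN_eq g hk0 hK]
    ring

end P

end Cfsg.Agent.Omega.Lie.Nodes

end

section


/-!
# NODE LIE, TEXT NODES (#14331): the moved nodes of types (sigma) and (beta)

From the output of (N): `KEY`, `(S)` and the group `Σ` of `sigma_main`.
-/

set_option autoImplicit false
set_option linter.unusedSectionVars false

namespace Cfsg.Agent.Omega.Lie.Nodes

open Subgroup Cfsg.Agent.Omega.BTwo

universe u v w

variable {G : Type u} [Group G] {ι : Type w} {V : Subgroup G} {R : ι → Subgroup G} {i j : ι} {F : Type v}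
  [Field F] {v : F → F → G} {w1 w2 : F → G} {M B : Type u} [AddCommGroup M] [AddCommGroup B]
  [DistribMulAction (NR R i) M] [DistribMulAction (NR R i) B] [Module F M] {p : G → M} {r : G → B}
  {f : M →+ M →+ B} {φ : M →ₗ[F] M →ₗ[F] F} {s : NR R i → (F ≃+* F)} [CharP F 2]
  [Finite G] [Finite F] {h : FMod V R i j v w1 w2 M B p r f φ s} {t : F → G} {τ : Lie.TorD V R i j v t}
  {N : Type u} [AddCommGroup N] [Module F N] {P1 P2 : G → N} {y : YPair V R i j w1 w2 N P1 P2}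
  {n : N →ₗ[F] M} {sf : N →ₗ[F] N →ₗ[F] M} {q : N → N →ₗ[F] F}

/-- the number of lines `V ^ x`, `x ∈ P` -/
theorem Lin_relIndex (V P : Subgroup G) : Nat.card (Lin V P) = (normalizer (V : Set G)).relIndex P := by
  let L0 : Lin V P := ⟨V, 1, one_mem _, (cj_one _).symm⟩
  have horb : MulAction.orbit P L0 = Set.univ := by
    ext L
    simp only [Set.mem_univ, iff_true]
    obtain ⟨z, hz, e1⟩ := L.2
    exact ⟨⟨z, hz⟩, Subtype.ext e1.symm⟩
  have hstab : MulAction.stabilizer P L0 = (normalizer (V : Set G)).subgroupOf P := by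
    ext x
    rw [MulAction.mem_stabilizer_iff, mem_subgroupOf, ← cj_eq_self_iff]
    exact Subtype.ext_iff
  rw [relIndex, ← hstab, MulAction.index_stabilizer, horb, Set.ncard_univ]

theorem three_lt_card {ζ : F} (h0 : ζ ≠ 0) (h1 : ζ ≠ 1) : 3 < Nat.card F := by
  classical
  have := Fintype.ofFinite F
  rw [Nat.card_eq_fintype_card]
  have h2 : ({0, 1, ζ, ζ + 1} : Finset F).card ≤ Fintype.card F := Finset.card_le_univ _
  have h3 : (0 : F) ≠ ζ + 1 := fun e => h1 (CharTwo.add_eq_zero.1 e.symm)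
  have h4 : (1 : F) ≠ ζ + 1 := fun e => h0 (add_eq_right.1 e.symm)
  have h5 : ζ ≠ ζ + 1 := fun e => one_ne_zero (left_eq_add.1 e)
  rw [Finset.card_insert_of_notMem, Finset.card_insert_of_notMem, Finset.card_insert_of_notMem,
    Finset.card_singleton] at h2
  · omega
  · rwa [Finset.mem_singleton]
  · simp only [Finset.mem_insert, Finset.mem_singleton, not_or]
    exact ⟨Ne.symm h1, h4⟩
  · simp only [Finset.mem_insert, Finset.mem_singleton, not_or]
    exact ⟨zero_ne_one, Ne.symm h0, h3⟩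

theorem Zg_eq {k : N} : Zg F (fun a b => sf a b) k = LinearMap.range (sf k) := by
  refine le_antisymm (Submodule.span_le.2 ?_) ?_
  · rintro _ ⟨l, rfl⟩
    exact ⟨l, rfl⟩
  · rintro _ ⟨l, rfl⟩
    exact s_mem_Zg l

theorem finrank_Ng_le [Finite M] {e : M} {k : N} :
    Module.finrank F (Ng e n (fun a b => sf a b) k) ≤ Module.finrank F (LinearMap.range (sf k)) + 2 := by
  have h1 : Ng e n (fun a b => sf a b) k ≤ (Submodule.span F {e} ⊔ LinearMap.range (sf k)) ⊔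
      Submodule.span F {n k} := by
    intro m hm
    obtain ⟨c, z, hz, r, rfl⟩ := mem_Ng.1 hm
    rw [Zg_eq] at hz
    exact Submodule.add_mem_sup (Submodule.add_mem_sup (Submodule.mem_span_singleton.2 ⟨c, rfl⟩) hz)
      (Submodule.mem_span_singleton.2 ⟨r, rfl⟩)
  have h2 : ∀ m : M, Module.finrank F (Submodule.span F {m}) ≤ 1 := fun m => by
    have := finrank_span_finset_le_card (R := F) ({m} : Finset M)
    rwa [Finset.coe_singleton, Finset.card_singleton] at this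
  have h3 := Submodule.finrank_mono h1
  have h4 := Submodule.finrank_add_le_finrank_add_finrank (Submodule.span F {e} ⊔ LinearMap.range (sf k))
    (Submodule.span F {n k})
  have h5 := Submodule.finrank_add_le_finrank_add_finrank (Submodule.span F {e}) (LinearMap.range (sf k))
  have h6 := h2 e
  have h7 := h2 (n k)
  omega

section main

variable (g : Eig h τ y n sf q) (hQ : QQ (R i) = WW V (R i)) {k : N} (hk0 : k ≠ 0)
  {P : Subgroup G} (hPR : P ≤ centralizer (R i : Set G)) (hUP : UU V R j ≤ P)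
  (hgen : ∀ H : Subgroup P, (∀ x, (∃ m : ℕ, x ^ 2 ^ m = 1) → x ∈ H) → H = ⊤)
  (hPN : ∀ x : NR R i, (x : G) ∈ P → ∀ m ∈ Ng (p (v 0 1)) n (fun a b => sf a b) k,
      x • m ∈ Ng (p (v 0 1)) n (fun a b => sf a b) k)
  (hspan : Ng (p (v 0 1)) n (fun a b => sf a b) k ≤ Submodule.span F
      {m | ∃ x : NR R i, (x : G) ∈ P ∧ m = x • p (v 0 1)})
  (htr : ∀ x ∈ P, ∀ x' ∈ P, cj x V ≠ V → cj x' V ≠ V → ∃ a ∈ UU V R j, cj a (cj x V) = cj x' V)
  {m₀ : NR R i} (hm₀ : (m₀ : G) ∈ P) {β γ : F} (hβ : β ≠ 0) (hγ : γ ≠ 0)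
  (hm1 : m₀ • p (v 0 1) = β • n k) (hm2 : m₀ • n k = γ • p (v 0 1))

include g

include hk0 hPR hUP hgen hPN htr hm₀ hβ hγ hm1 hm2 in
/-- **KEY and (S), type (sigma)** -/
theorem moved_sigma (hZ : ∀ l, sf k l = 0) {l0 : N} (hl0 : q l0 k ≠ 0)
    (hcard : Nat.card F + 1 ≤ (normalizer (V : Set G)).relIndex P) :
    (∀ l, q k l = 0) ∧
    (∀ a : NR R i, (a : G) ∈ UU V R j → (∃ c : F, P2 (a : G) = c • k) → ∀ m, a • m - m ∈
      Ng (p (v 0 1)) n (fun a b => sf a b) k) ∧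
    ∀ x : NR R i, (x : G) ∈ P → ∀ a : NR R i, (a : G) ∈ UU V R j → (∃ c : F, P2 (a : G) = c • k) →
      ∀ m : M, x • a • m = a • x • m := by
  have hMf : Finite M := Finite.of_surjective (fun x : WW V (R i) => p x) fun m => by
    obtain ⟨x, hx, e1⟩ := h.fr.p_surj m
    exact ⟨⟨x, hx⟩, e1⟩
  have hK : ∀ l, q k l = 0 := fun l => eig_sigma g hZ hl0 (hPR hm₀) hβ hm1 (hPR hm₀) hβ hγ hm1 hm2 l
  refine ⟨hK, eig_key g fun l _ => hK l, ?_⟩
  refine hS_of g hPR hUP hPN (fun l _ => hK l) htr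
    (fun x hx _ ε c' => hmul_sigma g hk0 hZ hPR hPN hgen x hx ε c') ?_
  rw [Lin_relIndex]
  have h1 : LinearMap.range (sf k) = ⊥ := by
    rw [LinearMap.range_eq_bot]
    ext l
    exact hZ l
  have h2 := finrank_Ng_le (F := F) (n := n) (sf := sf) (e := p (v 0 1)) (k := k)
  rw [h1, finrank_bot] at h2
  obtain ⟨ζ, hζ, hζ1⟩ := h.four
  have h3 : 3 < Nat.card F := three_lt_card hζ hζ1
  have h4 : (Module.finrank F (Ng (p (v 0 1)) n (fun a b => sf a b) k) + 1).choose 2 ≤ (3).choose 2 :=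
    Nat.choose_le_choose 2 (by omega)
  have h5 : (3 : ℕ).choose 2 = 3 := rfl
  omega

include hk0 hPR hUP hgen hPN htr hm₀ hβ hγ hm1 hm2 in
/-- **KEY and (S), type (beta)** -/
theorem moved_beta (han : ∀ l, sf k l = 0 ↔ q l k = 0)
    (hΩ : ∀ x : NR R i, (x : G) ∈ P → (∃ ε : F, x • p (v 0 1) = ε • p (v 0 1)) ∨
      ∃ (c : F) (l : N), x • p (v 0 1) = c • (n k + sf k l + q l k • p (v 0 1)))
    (hZ : Module.finrank F (LinearMap.range (sf k)) ≤ 2)
    (hcard : Nat.card F ^ 2 + 1 ≤ (normalizer (V : Set G)).relIndex P) :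
    (∀ l, sf k l = 0 → q k l = 0) ∧
    (∀ a : NR R i, (a : G) ∈ UU V R j → (∃ c : F, P2 (a : G) = c • k) → ∀ m, a • m - m ∈
      Ng (p (v 0 1)) n (fun a b => sf a b) k) ∧
    ∀ x : NR R i, (x : G) ∈ P → ∀ a : NR R i, (a : G) ∈ UU V R j → (∃ c : F, P2 (a : G) = c • k) →
      ∀ m : M, x • a • m = a • x • m := by
  have hMf : Finite M := Finite.of_surjective (fun x : WW V (R i) => p x) fun m => by
    obtain ⟨x, hx, e1⟩ := h.fr.p_surj m
    exact ⟨⟨x, hx⟩, e1⟩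
  have hK : ∀ l, sf k l = 0 → q k l = 0 := fun l hl =>
    eig_first g hl ((han l).1 hl) (hPR hm₀) hβ hm1
  refine ⟨hK, eig_key g hK, ?_⟩
  refine hS_of g hPR hUP hPN hK htr
    (fun x hx _ ε c' => hmul_beta g hPR hUP hk0 (fun l => (han l).1) hPN hΩ hm₀ hβ hγ hm1 hm2
      (fun l => (han l).2) hgen x hx ε c') ?_
  rw [Lin_relIndex]
  have h2 := finrank_Ng_le (F := F) (n := n) (sf := sf) (e := p (v 0 1)) (k := k)
  obtain ⟨ζ, hζ, hζ1⟩ := h.four
  have h3 : 3 < Nat.card F := three_lt_card hζ hζ1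
  have h4 : (Module.finrank F (Ng (p (v 0 1)) n (fun a b => sf a b) k) + 1).choose 2 ≤ (5).choose 2 :=
    Nat.choose_le_choose 2 (by omega)
  have h5 : (5 : ℕ).choose 2 = 10 := rfl
  have h6 : 4 ^ 2 ≤ Nat.card F ^ 2 := Nat.pow_le_pow_left h3 2
  omega

end main

end Cfsg.Agent.Omega.Lie.Nodes

end
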