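import Cfsg.Agent.Mrg.Omega.Lie.Nodes.FratRes


/-!
# NODE LIE, TEXT NODES (#14331) (N), abstract part: the number of points
-/

set_option autoImplicit false

namespace Cfsg.Agent.Omega.Lie.Nodes

open Submodule

universe u v w x y

variable {F : Type v} [Field F] {M : Type u} [AddCommGroup M] [Module F M] {N : Type w} [AddCommGroup N] [Module F N]
  {A : Type x} [AddCommGroup A] [Module F A] {H : Type y} [Group H] [DistribMulAction H M]

theorem card_ne_zero (X : Type*) [AddCommGroup X] [Finite X] : Nat.card {z : X // z ≠ 0} = Nat.card X - 1 := by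
  classical
  have := Fintype.ofFinite X
  rw [Nat.card_eq_fintype_card, Nat.card_eq_fintype_card]
  exact Set.card_ne_eq (0 : X)

/-- types (alpha), (sigma): `q + 1` points -/
theorem card_om_line [Finite F] {P : Subgroup H} {e d : M} (hi : ∀ c c' : F, c • e + c' • d = 0 → c = 0 ∧ c' = 0)
    (hom : ∀ x, Om F P e x ↔ x ≠ 0 ∧ ∃ c c' : F, x = c • e + c' • d) :
    Nat.card {x : M // Om F P e x} = (Nat.card F - 1) * (Nat.card F + 1) := by
  have h1 : Nat.card {x : M // Om F P e x} = Nat.card {z : F × F // z ≠ 0} := by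
    symm
    refine Nat.card_congr (Equiv.ofBijective (fun z => ⟨z.1.1 • e + z.1.2 • d, (hom _).2 ⟨fun h0 => z.2 ?_, _, _, rfl⟩⟩)
      ⟨?_, ?_⟩)
    · obtain ⟨h1, h2⟩ := hi _ _ h0
      exact Prod.ext h1 h2
    · rintro ⟨z, hz⟩ ⟨z', hz'⟩ hzz
      have h1 : z.1 • e + z.2 • d = z'.1 • e + z'.2 • d := congrArg Subtype.val hzz
      obtain ⟨h2, h3⟩ := hi (z.1 - z'.1) (z.2 - z'.2) (by
        rw [sub_smul, sub_smul, sub_add_sub_comm, h1, sub_self])
      exact Subtype.ext (Prod.ext (sub_eq_zero.1 h2) (sub_eq_zero.1 h3))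
    · rintro ⟨x, hx⟩
      obtain ⟨hx0, c, c', rfl⟩ := (hom x).1 hx
      refine ⟨⟨(c, c'), fun h0 => hx0 ?_⟩, rfl⟩
      have h1 := congrArg Prod.fst h0
      have h2 := congrArg Prod.snd h0
      simp only [Prod.fst_zero, Prod.snd_zero] at h1 h2
      rw [h1, h2, zero_smul, zero_smul, add_zero]
  rw [h1, card_ne_zero, Nat.card_prod]
  have := Nat.sq_sub_sq (Nat.card F) 1
  rw [one_pow, sq] at this
  rw [this, mul_comm]

namespace NodeFr

variable {e : M} {om : M →ₗ[F] F} {M0 : Submodule F M} {n : N →ₗ[F] M} {T : Fˣ → H} {α : A → H}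
    {l : A → M → F} {sf : N →ₗ[F] A →ₗ[F] M} {q : A → N → F} {P K : Subgroup H}
    (h : NodeFr e om M0 n T α l sf q P K)
include h

/-- type (beta): `|Z| + 1` points -/
theorem card_om_beta [Finite F] [FiniteDimensional F M] {g : N} (hg : g ≠ 0) (hom : Om F P e (n g))
    (hk : ∀ k, sf g k = 0 → q k g = 0) :
    Nat.card {x : M // Om F P e x} = (Nat.card F - 1) * (Nat.card (LinearMap.range (sf g)) + 1) := by
  classical
  have : Finite M := Module.finite_of_finite F
  have hex : ∀ z : LinearMap.range (sf g), ∃ a, sf g a = z := fun z => z.2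
  choose s hs using hex
  have hq : ∀ a, q (s ⟨sf g a, ⟨a, rfl⟩⟩) g = q a g := fun a => h.q_congr hk (hs _)
  have h1 : Nat.card {x : M // Om F P e x} = Nat.card (Fˣ × Option (LinearMap.range (sf g))) := by
    symm
    refine Nat.card_congr (Equiv.ofBijective (fun z => ⟨match z.2 with
      | none => (z.1 : F) • e
      | some w => (z.1 : F) • (n g + w + q (s w) g • e), ?_⟩) ⟨?_, ?_⟩)
    · rcases z with ⟨c, _ | w⟩
      · exact Om.self.smul c.ne_zero
      · have h1 := h.om_n hom (s w)
        rw [hs] at h1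
        exact h1.smul c.ne_zero
    · rintro ⟨c, _ | w⟩ ⟨c', _ | w'⟩ hzz
      · have h1 : (c : F) • e = (c' : F) • e := congrArg Subtype.val hzz
        have h2 : ((c : F) - c') • e = 0 := by rw [sub_smul, h1, sub_self]
        rw [Units.ext (sub_eq_zero.1 (h.smul_e_eq h2))]
      · exfalso
        have h1 : (c : F) • e = (c' : F) • (n g + w' + q (s w') g • e) := congrArg Subtype.val hzz
        have h2 := h.indep ((c' : F) * q (s w') g - c) ((c' : F) • (w' : M)) ((c' : F) • g)
          (M0.smul_mem _ (by rw [← hs w']; exact h.sf_mem _ _)) (by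
            rw [map_smul, sub_smul, h1, smul_add, smul_add, smul_smul]
            abel)
        rcases smul_eq_zero.1 h2.2.2 with h3 | h3
        · exact c'.ne_zero h3
        · exact hg h3
      · exfalso
        have h1 : (c : F) • (n g + w + q (s w) g • e) = (c' : F) • e := congrArg Subtype.val hzz
        have h2 := h.indep ((c : F) * q (s w) g - c') ((c : F) • (w : M)) ((c : F) • g)
          (M0.smul_mem _ (by rw [← hs w]; exact h.sf_mem _ _)) (by
            rw [map_smul, sub_smul, ← h1, smul_add, smul_add, smul_smul]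
            abel)
        rcases smul_eq_zero.1 h2.2.2 with h3 | h3
        · exact c.ne_zero h3
        · exact hg h3
      · have h1 : (c : F) • (n g + w + q (s w) g • e) = (c' : F) • (n g + w' + q (s w') g • e) :=
          congrArg Subtype.val hzz
        have hw : ∀ w : LinearMap.range (sf g), (w : M) ∈ M0 := fun w => by rw [← hs w]; exact h.sf_mem _ _
        have h2 := h.indep ((c : F) * q (s w) g - c' * q (s w') g) ((c : F) • (w : M) - (c' : F) • (w' : M))
          (((c : F) - c') • g) (M0.sub_mem (M0.smul_mem _ (hw w)) (M0.smul_mem _ (hw w'))) (by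
            have h3 : (c : F) • (n g + w + q (s w) g • e) - (c' : F) • (n g + w' + q (s w') g • e) = 0 := by
              rw [h1, sub_self]
            rw [map_smul, ← h3, sub_smul, sub_smul, smul_add, smul_add, smul_add, smul_add, smul_smul, smul_smul]
            abel)
        have h3 : (c : F) = c' := by
          rcases smul_eq_zero.1 h2.2.2 with h3 | h3
          · exact sub_eq_zero.1 h3
          · exact absurd h3 hg
        have h4 := h2.2.1
        rw [← h3, ← smul_sub] at h4
        have h5 := (smul_eq_zero.1 h4).resolve_left c.ne_zero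
        rw [Units.ext h3, Subtype.ext (sub_eq_zero.1 h5)]
    · rintro ⟨x, hx⟩
      rcases (h.om_iff hg hom x).1 hx with ⟨c, hc, rfl⟩ | ⟨c, hc, a, rfl⟩
      · exact ⟨⟨Units.mk0 c hc, none⟩, rfl⟩
      · refine ⟨⟨Units.mk0 c hc, some ⟨sf g a, a, rfl⟩⟩, Subtype.ext ?_⟩
        change c • (n g + sf g a + q (s ⟨sf g a, ⟨a, rfl⟩⟩) g • e) = _
        rw [hq]
  rw [h1, Nat.card_prod, Nat.card_units, Finite.card_option]

/-- type (beta): `q² + 1` points -/
theorem card_om_beta' [Finite F] [FiniteDimensional F M] {g : N} (hg : g ≠ 0) (hom : Om F P e (n g))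
    (hk : ∀ k, sf g k = 0 → q k g = 0) (hr : Module.finrank F (LinearMap.range (sf g)) = 2) :
    Nat.card {x : M // Om F P e x} = (Nat.card F - 1) * (Nat.card F ^ 2 + 1) := by
  rw [h.card_om_beta hg hom hk, Module.natCard_eq_pow_finrank (K := F) (V := LinearMap.range (sf g)), hr]

/-- type (gamma): the orbit is `⟨e⟩` and a regular orbit of `A` -/
theorem card_om_gamma [Finite F] [Finite M] [Finite A] {x : M} (hx : Om F P e x) (hxe : ∀ c : F, x ≠ c • e)
    (hreg : ∀ a, ∀ c : F, α a • x = c • x → a = 0 ∧ c = 1) :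
    Nat.card {x : M // Om F P e x} = (Nat.card F - 1) * (Nat.card A + 1) := by
  classical
  have h1 : Nat.card {x : M // Om F P e x} = Nat.card (Fˣ × Option A) := by
    symm
    have h0 : ∀ x : M, α 0 • x = x := by
      intro x
      have h1 := h.A_add 0 0 x
      rw [add_zero] at h1
      exact (MulAction.injective _ h1).symm
    refine Nat.card_congr (Equiv.ofBijective (fun z => ⟨match z.2 with
      | none => (z.1 : F) • e
      | some a => (z.1 : F) • (α a • x), ?_⟩) ⟨?_, ?_⟩)
    · rcases z with ⟨c, _ | a⟩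
      · exact Om.self.smul c.ne_zero
      · exact (h.om_act (h.A_mem a) hx).smul c.ne_zero
    · have key : ∀ (c c' : F) (a : A), c ≠ 0 → c • (α a • x) ≠ c' • e := by
        intro c c' a hc h1
        apply hxe (c⁻¹ * c')
        have h2 : α a • x = α a • ((c⁻¹ * c') • e) := by
          rw [h.A_smul_e, mul_smul, ← h1, inv_smul_smul₀ hc]
        exact MulAction.injective _ h2
      rintro ⟨c, _ | a⟩ ⟨c', _ | a'⟩ hzz
      · have h1 : (c : F) • e = (c' : F) • e := congrArg Subtype.val hzz
        have h2 : ((c : F) - c') • e = 0 := by rw [sub_smul, h1, sub_self]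
        rw [Units.ext (sub_eq_zero.1 (h.smul_e_eq h2))]
      · exact absurd (congrArg Subtype.val hzz).symm (key _ _ _ c'.ne_zero)
      · exact absurd (congrArg Subtype.val hzz) (key _ _ _ c.ne_zero)
      · have h1 : (c : F) • (α a • x) = (c' : F) • (α a' • x) := congrArg Subtype.val hzz
        have h2 : α (a - a') • x = ((c : F)⁻¹ * c') • x := by
          have h3 : α a • x = ((c : F)⁻¹ * c') • (α a' • x) := by rw [mul_smul, ← h1, inv_smul_smul₀ c.ne_zero]
          have h4 : α a' • (α (a - a') • x) = α a' • (((c : F)⁻¹ * c') • x) := by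
            rw [← h.A_add, add_sub_cancel, h3, h.P_lin _ (h.A_mem a')]
          exact MulAction.injective _ h4
        obtain ⟨h3, h4⟩ := hreg _ _ h2
        have h5 : (c : F) = c' := by
          have h6 : (c : F) * ((c : F)⁻¹ * c') = c := by rw [h4, mul_one]
          rw [mul_inv_cancel_left₀ c.ne_zero] at h6
          exact h6.symm
        rw [Units.ext h5, sub_eq_zero.1 h3]
    · rintro ⟨z, hz⟩
      by_cases hze : ∃ c : F, z = c • e
      · obtain ⟨c, rfl⟩ := hze
        refine ⟨⟨Units.mk0 c fun h0 => ?_, none⟩, rfl⟩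
        rw [h0, zero_smul] at hz
        exact h.om_ne hz rfl
      · push Not at hze
        obtain ⟨a, c, hac⟩ := h.tr x z hx hz hxe hze
        have hc : c ≠ 0 := by
          rintro rfl
          rw [zero_smul] at hac
          exact h.om_ne (h.om_act (h.A_mem a) hx) hac
        refine ⟨⟨Units.mk0 c⁻¹ (inv_ne_zero hc), some a⟩, Subtype.ext ?_⟩
        change c⁻¹ • (α a • x) = z
        rw [hac, inv_smul_smul₀ hc]
  rw [h1, Nat.card_prod, Nat.card_units, Finite.card_option]

end NodeFr

end Cfsg.Agent.Omega.Lie.Nodes
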