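import Cfsg.Agent.Mrg.Omega.Lie.Nodes.NodeMult
import Cfsg.Agent.Mrg.Omega.Lie.Nodes.Res0


/-!
# NODE LIE, residues `(0, x)`, types `(sigma)` and `(beta)`: the sockets of `QOut.res0`

* `OKer g k Q O` : the normal 2-subgroup `O` of `Q`;
* `QOut.nodeDat` : `NodeDat g k Q O`;
* `QOut.parDat` : `ParDat g k Q B U Px`;
* `QOut.res0_of_ker` : **`Res0 V R B U P x 4`**.
-/

set_option autoImplicit false
set_option linter.unusedSectionVars false

namespace Cfsg.Agent.Omega.Lie.Nodes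

open Subgroup Cfsg.Agent.Omega.BTwo

universe u v w

variable {G : Type u} [Group G] {ι : Type w} {V : Subgroup G} {R : ι → Subgroup G} {i j : ι} {F : Type v}
  [Field F] {v : F → F → G} {w1 w2 : F → G} {M E : Type u} [AddCommGroup M] [AddCommGroup E]
  [DistribMulAction (NR R i) M] [DistribMulAction (NR R i) E] [Module F M] {p : G → M} {r : G → E}
  {f : M →+ M →+ E} {φ : M →ₗ[F] M →ₗ[F] F} {s : NR R i → (F ≃+* F)} [CharP F 2]
  [Finite G] [Finite F] {h : FMod V R i j v w1 w2 M E p r f φ s} {t : F → G} {τ : Lie.TorD V R i j v t}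
  {N : Type u} [AddCommGroup N] [Module F N] {P1 P2 : G → N} {y : YPair V R i j w1 w2 N P1 P2}
  {n : N →ₗ[F] M} {sf : N →ₗ[F] N →ₗ[F] M} {q : N → N →ₗ[F] F}

/-- the normal 2-subgroup `O` of `Q` trivial on `N_k` -/
structure OKer (g : Eig h τ y n sf q) (k : N) (Q O : Subgroup G) : Prop where
  OP : O ≤ Q
  OK : O ≤ cmod (R i) ((gfr_of g).SG k)
  PO : Q ≤ normalizer (O : Set G)
  OT : ∀ a : F, a ≠ 0 → t a ∈ normalizer (O : Set G)
  two : IsPGroup 2 O
  perf : Q ≤ ⁅Q, Q⁆ ⊔ O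
  lift : ∀ c : G, c ∈ normalizer (Q : Set G) → c ∈ normalizer (O : Set G) →
    (∀ x ∈ Q, c * x * c⁻¹ * x⁻¹ ∈ cmod (R i) ((gfr_of g).SG k)) → ∀ x ∈ Q, c * x * c⁻¹ * x⁻¹ ∈ O

variable {B U Px Q O : Subgroup G} {k : N} {g : Eig h τ y n sf q}

namespace QOut

variable (o : QOut g k Q)
include o

/-- `[Q, (SG k)^n] ≤ W i` -/
theorem low (hQ : QQ (R i) = WW V (R i)) : ∀ x ∈ Q, ∀ z ∈ cj (nn w1 w2 1) ((gfr_of g).SG k),
    x * z * x⁻¹ * z⁻¹ ∈ WW V (R i) := by
  intro x hx z hz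
  obtain ⟨hzU, r, hr⟩ := (gfr_of g).mem_cj_SG h.bt y h.co hz
  have hxC := o.QR hx
  have hzN : z ∈ normalizer (R i : Set G) := h.bt.cen_le_N i (UU_le_cen j hzU)
  have hzC : z ∈ centralizer (R i : Set G) := cen_of_U h y (a := ⟨z, hzN⟩) hzU
  have hxN := centralizer_le_normalizer _ hxC
  set X : NR R i := ⟨x, hxN⟩ with hX
  set Z : NR R i := ⟨z, hzN⟩ with hZ
  refine (gfr_of g).mem_W_of_triv h.btc y h.co hQ h.cenW
    (mul_mem (mul_mem (mul_mem hxC hzC) (inv_mem hxC)) (inv_mem hzC)) fun w hw => ?_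
  have h1 := h.fr.p_act (X * Z * X⁻¹ * Z⁻¹) w hw
  have e1 : ((X * Z * X⁻¹ * Z⁻¹ : NR R i) : G) = x * z * x⁻¹ * z⁻¹ := rfl
  rw [e1] at h1
  rw [← h1, mul_smul, mul_smul, mul_smul, o.S X hx Z hzU ⟨r, hr⟩, smul_inv_smul, smul_inv_smul]

theorem nodeDat (K : QPx V R i B U Px Q) (hQ : QQ (R i) = WW V (R i)) (H : OKer g k Q O) : NodeDat g k Q O := by
  obtain ⟨hX, hQS, hcom, -, -⟩ := sigma_main g hQ o.key o.QR o.QN o.S o.span
  exact
    { k0 := o.ne
      PR := o.QR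
      PN := o.QN
      PT := fun a ha => K.BQ (K.dat.XB (mem_inf.2 ⟨τ.memX a ha, τ.normR ha⟩))
      OP := H.OP
      OK := H.OK
      PO := H.PO
      OT := H.OT
      two := H.two
      perf := H.perf
      lift := H.lift
      XS := hX
      PS := hQS
      com := hcom
      low := o.low hQ }

theorem parDat (K : QPx V R i B U Px Q) (hQ : QQ (R i) = WW V (R i)) : ParDat g k Q B U Px where
  zero := K.dat
  le := K.X.le
  PP := K.QP
  PR := K.X.PR
  PS := o.norm_SG K hQ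
  PV := K.X.PV
  tr := fun x hx hxB => by
    obtain ⟨m, hm, β, γ, hβ, hγ, hme, hmn⟩ := o.swap
    obtain ⟨u, hu, hux⟩ := o.tr1 K (K.QP hm) hβ hme (o.QR hm) x hx hxB
    have sw : SwapM h n sf k m β γ :=
      { cen := o.QR hm
        me := hme
        mn := hmn
        β0 := hβ
        γ0 := hγ
        pres := o.QN m hm
        pres' := o.QN m⁻¹ (inv_mem hm) }
    refine ⟨u, hu, ?_⟩
    have h1 := cj_eq_self_iff.2 (K.dat.BV hux)
    calc cj x V = cj (u * (m : G)) (cj ((u * (m : G))⁻¹ * x) V) := by rw [← cj_mul, mul_inv_cancel_left]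
      _ = cj (u * (m : G)) V := by rw [h1]
      _ = cj u (VG g k) := by rw [cj_mul, sw.cj_V g]

/-- **the apartment and the count** -/
theorem exists_quad (K : QPx V R i B U Px Q) (hQ : QQ (R i) = WW V (R i)) (H : OKer g k Q O) :
    ∃ n0 m : G, n0 ∈ XX V R ∧ cj n0 (R i) = R j ∧ m ∈ Q ∧ cj m V = VG g k ∧
      ParSys.QuadN B (Zero.P0 V R B) Px (R i) V ((gfr_of g).SG k) (WW V (R i)) n0 m m m n0 m n0 := by
  obtain ⟨m, hm, β, γ, hβ, hγ, hme, hmn⟩ := o.swap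
  have sw : SwapM h n sf k m β γ :=
    { cen := o.QR hm
      me := hme
      mn := hmn
      β0 := hβ
      γ0 := hγ
      pres := o.QN m hm
      pres' := o.QN m⁻¹ (inv_mem hm) }
  exact (o.nodeDat K hQ H).quadN sw hm o.key (o.parDat K hQ)

/-- **The residue `(0, x)`, types `(sigma)` and `(beta)`** -/
theorem res0_of_ker (K : QPx V R i B U Px Q) (hQ : QQ (R i) = WW V (R i)) (H : OKer g k Q O) {J : Type}
    {P : J → Subgroup G} {x : J} (hx : P x = Px) : End.Res0 V R B U P x 4 := by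
  obtain ⟨n0, m, hn0X, hn0, hm, -, hq⟩ := o.exists_quad K hQ H
  exact o.res0 K hQ hx hq.m_mem hq.m_not hn0X hn0 hq.toSwap hq.cnt

end QOut

end Cfsg.Agent.Omega.Lie.Nodes
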