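import Cfsg.Agent.Mrg.Omega.Lie.Nodes.Res0Mov
import Cfsg.Agent.Mrg.Omega.Lie.Nodes.AptRes


/-!
# NODE LIE, residues `(0, x)`: types `(sigma)` and `(beta)`

* `QOut.oker` : `OKer g k Q (U ⊓ Qk B Px)`;
* `QOut.res0_of_qgen`, `res0_of_mov` : **`Res0 V R B U P x 4`**.
-/

set_option autoImplicit false
set_option linter.unusedSectionVars false

namespace Cfsg.Agent.Omega.Lie.Nodes

open Subgroup Cfsg.Agent.Omega.BTwo Cfsg.Agent.ParSys

universe u v w

variable {G : Type u} [Group G] {ι : Type w} {V : Subgroup G} {R : ι → Subgroup G} {i j : ι} {F : Type v}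
  [Field F] {v : F → F → G} {w1 w2 : F → G} {M E : Type u} [AddCommGroup M] [AddCommGroup E]
  [DistribMulAction (NR R i) M] [DistribMulAction (NR R i) E] [Module F M] {p : G → M} {r : G → E}
  {f : M →+ M →+ E} {φ : M →ₗ[F] M →ₗ[F] F} {s : NR R i → (F ≃+* F)} [CharP F 2]
  [Finite G] [Finite F] {h : FMod V R i j v w1 w2 M E p r f φ s} {t : F → G} {τ : Lie.TorD V R i j v t}
  {N : Type u} [AddCommGroup N] [Module F N] {P1 P2 : G → N} {y : YPair V R i j w1 w2 N P1 P2}
  {n : N →ₗ[F] M} {sf : N →ₗ[F] N →ₗ[F] M} {q : N → N →ₗ[F] F}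
  {g : Eig h τ y n sf q} {B U Px Q : Subgroup G} {k : N}

namespace QOut

variable (o : QOut g k Q) (K : QPx V R i B U Px Q) (hg : QGen U Px Q) (hQ : QQ (R i) = WW V (R i))
include o K hg hQ

theorem oker : OKer g k Q (U ⊓ Qk B Px) where
  OP := o.O_le_Q K hg
  OK := o.O_le_cmod K hg
  PO := K.QP.trans K.O_norm
  OT := fun a ha => K.O_norm (o.t_mem K (Units.mk0 a ha))
  two := K.O_two
  perf := o.perf K hg hQ
  lift := fun _ hc hcO hx => o.lift K hg hQ hc hcO hx

/-- **the residue `(0, x)`, types `(sigma)` and `(beta)`** -/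
theorem res0_of_qgen {J : Type} {P : J → Subgroup G} {x : J} (hx : P x = Px) : End.Res0 V R B U P x 4 :=
  o.res0_of_ker K hQ (o.oker K hg hQ) hx

end QOut

/-- **The residue `(0, x)` for a moved node `x` of type `(sigma)` or `(beta)`.** -/
theorem res0_of_mov (o : Mov4 g Q k) (hP : NodeP V R i j t Q) (K : QPx V R i B U Px Q) (hg : QGen U Px Q)
    (hQ : QQ (R i) = WW V (R i)) {J : Type} {P : J → Subgroup G} {x : J} (hx : P x = Px) :
    End.Res0 V R B U P x 4 :=
  (o.qout hP).res0_of_qgen K hg hQ hx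

end Cfsg.Agent.Omega.Lie.Nodes
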