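import Cfsg.Agent.Mrg.Omega.BTwo.Str
import Mathlib.LinearAlgebra.BilinearForm.Orthogonal

section


/-!
# NODE LIE, TEXT NODES (#14331) (L): `Σ = W_N y_2` is normalised by `X` and by `P^`

`S` is the preimage `W_N` of `N` in `W`, `n ∈ X` swaps `R i` and `R j`, `Σ = S ⊔ S ^ n`.

* `W_norm`, `n_norm`, `X_norm`: `[W, S ^ n] ≤ S` implies that `W`, `n` and `X = ⟨W, W ^ n⟩` normalise `Σ`.
* `P_norm`: `[P, S ^ n] ≤ W`, `P ≤ C(R)`, the double centraliser condition and "linear = semilinear" imply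
  that `P` normalises `Σ`.
-/

set_option autoImplicit false

namespace Cfsg.Agent.Omega.Lie.Nodes

open Subgroup Cfsg.Agent.Omega.BTwo

universe u v w

variable {G : Type u} [Group G]

/-- `K` normalises `S ⊔ T` if it moves elements of `S`, `T` inside modulo `S ⊔ T` -/
theorem le_normalizer_sup {K S T : Subgroup G}
    (hS : ∀ k ∈ K, ∀ s ∈ S, k * s * k⁻¹ ∈ S ⊔ T) (hT : ∀ k ∈ K, ∀ s ∈ T, k * s * k⁻¹ ∈ S ⊔ T) :
    K ≤ normalizer ((S ⊔ T : Subgroup G) : Set G) := by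
  have key : ∀ k ∈ K, ∀ x ∈ S ⊔ T, k * x * k⁻¹ ∈ S ⊔ T := by
    intro k hk
    have h : S ⊔ T ≤ (S ⊔ T).comap (MulAut.conj k).toMonoidHom :=
      sup_le (fun s hs => hS k hk s hs) (fun s hs => hT k hk s hs)
    exact fun x hx => h hx
  intro k hk
  rw [mem_normalizer_iff]
  intro x
  refine ⟨fun hx => key k hk x hx, fun hx => ?_⟩
  have := key k⁻¹ (inv_mem hk) _ hx
  rwa [inv_inv, show k⁻¹ * (k * x * k⁻¹) * k = x by group] at this

/-! ### `X` normalises `Σ` -/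

section X

variable {R W S : Subgroup G} {n : G}

theorem W_norm (hRS : R ≤ S) (hSW : S ≤ W) (hW : ∀ x ∈ W, ∀ y ∈ W, x * y * x⁻¹ * y⁻¹ ∈ R)
    (key : ∀ w ∈ W, ∀ x ∈ cj n S, w * x * w⁻¹ * x⁻¹ ∈ S) :
    W ≤ normalizer ((S ⊔ cj n S : Subgroup G) : Set G) := by
  refine le_normalizer_sup (fun w hw s hs => ?_) (fun w hw s hs => ?_)
  · have h := mul_mem (hRS (hW w hw s (hSW hs))) hs
    rw [inv_mul_cancel_right] at h
    exact (le_sup_left : S ≤ _) h
  · have h := mul_mem ((le_sup_left : S ≤ S ⊔ cj n S) (key w hw s hs)) ((le_sup_right : cj n S ≤ S ⊔ cj n S) hs)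
    rwa [inv_mul_cancel_right] at h

theorem cj_sigma (hnn : cj n (cj n S) = S) : cj n (S ⊔ cj n S) = S ⊔ cj n S := by
  have h : cj n (S ⊔ cj n S) = cj n S ⊔ cj n (cj n S) := by
    unfold cj
    rw [Subgroup.map_sup]
  rw [h, hnn, sup_comm]

/-- **`X` normalises `Σ`** -/
theorem X_norm (hRS : R ≤ S) (hSW : S ≤ W) (hW : ∀ x ∈ W, ∀ y ∈ W, x * y * x⁻¹ * y⁻¹ ∈ R)
    (key : ∀ w ∈ W, ∀ x ∈ cj n S, w * x * w⁻¹ * x⁻¹ ∈ S) (hnn : cj n (cj n S) = S) :
    W ⊔ cj n W ≤ normalizer ((S ⊔ cj n S : Subgroup G) : Set G) := by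
  have h1 := W_norm hRS hSW hW key
  refine sup_le h1 ?_
  have h2 : n ∈ normalizer ((S ⊔ cj n S : Subgroup G) : Set G) := by
    have e := cj_sigma hnn
    rw [mem_normalizer_iff]
    intro x
    have h3 : x ∈ S ⊔ cj n S ↔ n * x * n⁻¹ ∈ cj n (S ⊔ cj n S) := by
      rw [mem_cj]
      rw [show n⁻¹ * (n * x * n⁻¹) * n = x by group]
    rw [h3, e]
  intro x hx
  have hx' := mem_cj.1 hx
  have h4 := mul_mem (mul_mem h2 (h1 hx')) (inv_mem h2)
  rwa [show n * (n⁻¹ * x * n) * n⁻¹ = x by group] at h4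

/-- `Σ` is abelian -/
theorem sigma_comm (hS : ∀ x ∈ S, ∀ y ∈ S, x * y = y * x) (hSS : ∀ x ∈ S, ∀ y ∈ cj n S, x * y = y * x) :
    ∀ x ∈ S ⊔ cj n S, ∀ y ∈ S ⊔ cj n S, x * y = y * x := by
  have h1 : S ≤ centralizer ((S ⊔ cj n S : Subgroup G) : Set G) := by
    intro x hx
    have h : S ⊔ cj n S ≤ centralizer {x} :=
      sup_le (fun y hy => mem_centralizer_singleton_iff.2 (hS y hy x hx))
        (fun y hy => mem_centralizer_singleton_iff.2 (hSS x hx y hy).symm)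
    rw [mem_centralizer_iff]
    intro y hy
    exact mem_centralizer_singleton_iff.1 (h hy)
  have h2 : cj n S ≤ centralizer ((S ⊔ cj n S : Subgroup G) : Set G) := by
    intro x hx
    have h : S ⊔ cj n S ≤ centralizer {x} := by
      refine sup_le (fun y hy => mem_centralizer_singleton_iff.2 (hSS y hy x hx))
        (fun y hy => mem_centralizer_singleton_iff.2 ?_)
      have h3 := hS _ (mem_cj.1 hx) _ (mem_cj.1 hy)
      calc y * x = n * (n⁻¹ * y * n * (n⁻¹ * x * n)) * n⁻¹ := by group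
        _ = n * (n⁻¹ * x * n * (n⁻¹ * y * n)) * n⁻¹ := by rw [← h3]
        _ = x * y := by group
    rw [mem_centralizer_iff]
    intro y hy
    exact mem_centralizer_singleton_iff.1 (h hy)
  intro x hx y hy
  exact ((mem_centralizer_iff.1 ((sup_le h1 h2) hx)) y hy).symm

/-- `Σ` is elementary abelian -/
theorem sigma_sq (hS : ∀ x ∈ S, ∀ y ∈ S, x * y = y * x) (hSS : ∀ x ∈ S, ∀ y ∈ cj n S, x * y = y * x)
    (hS2 : ∀ x ∈ S, x * x = 1) : ∀ x ∈ S ⊔ cj n S, x * x = 1 := by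
  have hc := sigma_comm hS hSS
  let T : Subgroup G :=
    { carrier := {x | x ∈ S ⊔ cj n S ∧ x * x = 1}
      one_mem' := ⟨one_mem _, one_mul 1⟩
      mul_mem' := by
        rintro x y ⟨hx, hx'⟩ ⟨hy, hy'⟩
        refine ⟨mul_mem hx hy, ?_⟩
        calc x * y * (x * y) = x * (y * x) * y := by group
          _ = x * (x * y) * y := by rw [hc y hy x hx]
          _ = (x * x) * (y * y) := by group
          _ = 1 := by rw [hx', hy', one_mul]
      inv_mem' := by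
        rintro x ⟨hx, hx'⟩
        refine ⟨inv_mem hx, ?_⟩
        rw [← mul_inv_rev, hx', inv_one] }
  have hT : S ⊔ cj n S ≤ T := by
    refine sup_le (fun x hx => ⟨(le_sup_left : S ≤ _) hx, hS2 x hx⟩)
      (fun x hx => ⟨(le_sup_right : cj n S ≤ _) hx, ?_⟩)
    have h3 := hS2 _ (mem_cj.1 hx)
    calc x * x = n * (n⁻¹ * x * n * (n⁻¹ * x * n)) * n⁻¹ := by group
      _ = 1 := by rw [h3]; group
  exact fun x hx => (hT hx).2

end X

/-! ### `P` normalises `Σ` -/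

section P

/-- the commutator form of `W / R` over `F` -/
structure Fr {F : Type v} [Field F] {M : Type w} [AddCommGroup M] [Module F M] (R W : Subgroup G)
    (q : G → M) (f : M →ₗ[F] M →ₗ[F] F) (r : F → G) : Prop where
  mul : ∀ x ∈ W, ∀ y ∈ W, q (x * y) = q x + q y
  zero : ∀ x ∈ W, (q x = 0 ↔ x ∈ R)
  surj : ∀ m, ∃ x ∈ W, q x = m
  comm : ∀ x ∈ W, ∀ y ∈ W, x * y * x⁻¹ * y⁻¹ = r (f (q x) (q y))
  r_mem : ∀ a, r a ∈ R
  r_add : ∀ a b, r (a + b) = r a * r b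
  r_inj : ∀ a, r a = 1 → a = 0
  cen : ∀ x ∈ W, ∀ a, x * r a = r a * x
  nd : ∀ m, (∀ m', f m m' = 0) → m = 0

variable {F : Type v} [Field F] {M : Type w} [AddCommGroup M] [Module F M] {R W : Subgroup G}
    {q : G → M} {f : M →ₗ[F] M →ₗ[F] F} {r : F → G}

namespace Fr

theorem r_zero (h : Fr R W q f r) : r 0 = 1 := by
  have := h.r_add 0 0
  rw [add_zero] at this
  exact left_eq_mul.1 this

theorem r_injective (h : Fr R W q f r) {a b : F} (hab : r a = r b) : a = b := by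
  have h1 : r (a - b) * r b = r b := by rw [← h.r_add, sub_add_cancel, hab]
  have h2 : r (a - b) = 1 := mul_eq_right.1 h1
  exact sub_eq_zero.1 (h.r_inj _ h2)

theorem comm_iff (h : Fr R W q f r) {x y : G} (hx : x ∈ W) (hy : y ∈ W) :
    x * y = y * x ↔ f (q x) (q y) = 0 := by
  have h1 := h.comm x hx y hy
  constructor
  · intro e
    have h2 : x * y * x⁻¹ * y⁻¹ = 1 := by rw [e]; group
    rw [h2] at h1
    exact h.r_inj _ h1.symm
  · intro e
    rw [e, h.r_zero, mul_inv_eq_one, mul_inv_eq_iff_eq_mul] at h1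
    exact h1

theorem r_inv (h : Fr R W q f r) (a : F) : (r a)⁻¹ = r (-a) := by
  have h1 : r (-a) * r a = 1 := by rw [← h.r_add, neg_add_cancel, h.r_zero]
  exact (eq_inv_of_mul_eq_one_left h1).symm

/-- double centraliser: if `q x` lies in the span of `q S` whenever `x` centralises `C_W(S)` -/
theorem dc_of [Finite M] (h : Fr R W q f r) {S : Subgroup G} (hRS : R ≤ S) (hSW : S ≤ W)
    (N : Submodule F M) (hN : ∀ x ∈ W, (x ∈ S ↔ q x ∈ N))
    (hD : ∀ m, (∀ m', (∀ n ∈ N, f m' n = 0) → f m m' = 0) → m ∈ N) :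
    ∀ x ∈ W, (∀ y ∈ W, (∀ s ∈ S, y * s = s * y) → x * y = y * x) → x ∈ S := by
  have _ := hRS
  intro x hx hc
  rw [hN x hx]
  apply hD
  intro m' hm'
  obtain ⟨y, hy, rfl⟩ := h.surj m'
  rw [← h.comm_iff hx hy]
  apply hc y hy
  intro s hs
  rw [h.comm_iff hy (hSW hs)]
  exact hm' _ ((hN s (hSW hs)).1 hs)

end Fr

variable {S P : Subgroup G} {n : G}

/-- **`P` normalises `Σ`** -/
theorem P_norm (h : Fr R W q f r) (hSW : S ≤ W)
    (hSC : ∀ x ∈ S, ∀ y ∈ cj n S, x * y = y * x)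
    (hPR : P ≤ centralizer (R : Set G)) (hPS : P ≤ normalizer (S : Set G)) (hPW : P ≤ normalizer (W : Set G))
    (hPM : ∀ p ∈ P, ∃ A : M →ₗ[F] M, ∀ x ∈ W, q (p * x * p⁻¹) = A (q x))
    -- (S)
    (hS : ∀ p ∈ P, ∀ x ∈ cj n S, p * x * p⁻¹ * x⁻¹ ∈ W)
    -- (KEY): the elements of `C_W(S)` centralise `S ^ n` modulo `R`; the form `β_x`
    (β : G → M → F) (hβ : ∀ x ∈ cj n S, ∀ w ∈ W, (∀ s ∈ S, w * s = s * w) →
      w * x * w⁻¹ * x⁻¹ = r (β x (q w)))
    {l : F} (hl : l ≠ 0) (hl1 : l ≠ 1)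
    (hsemi : ∀ x ∈ cj n S, ∀ w ∈ W, (∀ s ∈ S, w * s = s * w) → β x (l • q w) = (l * l) * β x (q w))
    (dc : ∀ x ∈ W, (∀ y ∈ W, (∀ s ∈ S, y * s = s * y) → x * y = y * x) → x ∈ S) :
    P ≤ normalizer ((S ⊔ cj n S : Subgroup G) : Set G) := by
  refine le_normalizer_sup (fun p hp s hs => (le_sup_left : S ≤ _) (conj_mem_of_normalizer (hPS hp) hs))
    (fun p hp x hx => ?_)
  -- `w₀ = [p, x]`
  set u := p * x * p⁻¹ * x⁻¹ with hu
  have huW : u ∈ W := hS p hp x hx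
  have hpx : p * x * p⁻¹ = u * x := by rw [hu]; group
  suffices hus : u ∈ S by
    rw [hpx]
    exact mul_mem ((le_sup_left : S ≤ _) hus) ((le_sup_right : cj n S ≤ _) hx)
  apply dc u huW
  -- elements of `C_W(S)`
  have hconjC : ∀ p ∈ P, ∀ w, (∀ s ∈ S, w * s = s * w) → ∀ s ∈ S, (p * w * p⁻¹) * s = s * (p * w * p⁻¹) := by
    intro p hp w hw s hs
    have h1 := hw (p⁻¹ * s * p) (conj_inv_mem_of_normalizer (hPS hp) hs)
    calc (p * w * p⁻¹) * s = p * (w * (p⁻¹ * s * p)) * p⁻¹ := by group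
      _ = p * (p⁻¹ * s * p * w) * p⁻¹ := by rw [h1]
      _ = s * (p * w * p⁻¹) := by group
  have hPr : ∀ p ∈ P, ∀ a, p * r a * p⁻¹ = r a := by
    intro p hp a
    have h1 := mem_centralizer_iff.1 (hPR hp) _ (h.r_mem a)
    rw [← h1, mul_inv_cancel_right]
  -- `u` centralises `S`
  have hxC : ∀ s ∈ S, x * s = s * x := fun s hs => (hSC s hs x hx).symm
  have hpxC : ∀ s ∈ S, (p * x * p⁻¹) * s = s * (p * x * p⁻¹) := hconjC p hp x hxC
  have huC : ∀ s ∈ S, u * s = s * u := by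
    intro s hs
    have e : u = p * x * p⁻¹ * x⁻¹ := hu
    have h1 : x⁻¹ * s = s * x⁻¹ := by
      have := hxC s hs
      calc x⁻¹ * s = x⁻¹ * (s * x) * x⁻¹ := by group
        _ = x⁻¹ * (x * s) * x⁻¹ := by rw [this]
        _ = s * x⁻¹ := by group
    calc u * s = (p * x * p⁻¹) * (x⁻¹ * s) := by rw [e]; group
      _ = (p * x * p⁻¹) * s * x⁻¹ := by rw [h1]; group
      _ = s * (p * x * p⁻¹) * x⁻¹ := by rw [hpxC s hs]
      _ = s * u := by rw [e]; group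
  -- the key identity: `β_x(w) = f(w^p, u) + β_x(w^p)`
  have hid : ∀ w ∈ W, (∀ s ∈ S, w * s = s * w) →
      β x (q w) = f (q (p * w * p⁻¹)) (q u) + β x (q (p * w * p⁻¹)) := by
    intro w hw hwC
    have hw' : p * w * p⁻¹ ∈ W := conj_mem_of_normalizer (hPW hp) hw
    have hwC' := hconjC p hp w hwC
    apply h.r_injective
    rw [h.r_add, ← hβ x hx w hw hwC, ← hβ x hx _ hw' hwC', ← h.comm _ hw' u huW]
    -- `[w, x] = [w, x]^p = [w^p, u x] = [w^p, u] u [w^p, x] u⁻¹`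
    have h1 : w * x * w⁻¹ * x⁻¹ = p * (w * x * w⁻¹ * x⁻¹) * p⁻¹ := by
      rw [hβ x hx w hw hwC, hPr p hp]
    have h2 : p * (w * x * w⁻¹ * x⁻¹) * p⁻¹ =
        (p * w * p⁻¹) * (p * x * p⁻¹) * (p * w * p⁻¹)⁻¹ * (p * x * p⁻¹)⁻¹ := by group
    have h3 : u * ((p * w * p⁻¹) * x * (p * w * p⁻¹)⁻¹ * x⁻¹) = (p * w * p⁻¹) * x * (p * w * p⁻¹)⁻¹ * x⁻¹ * u := by
      rw [hβ x hx _ hw' hwC', h.cen u huW]
    calc w * x * w⁻¹ * x⁻¹ = (p * w * p⁻¹) * (p * x * p⁻¹) * (p * w * p⁻¹)⁻¹ * (p * x * p⁻¹)⁻¹ := by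
          rw [h1, h2]
      _ = (p * w * p⁻¹) * (u * x) * (p * w * p⁻¹)⁻¹ * (u * x)⁻¹ := by rw [hpx]
      _ = ((p * w * p⁻¹) * u * (p * w * p⁻¹)⁻¹ * u⁻¹) *
          (u * ((p * w * p⁻¹) * x * (p * w * p⁻¹)⁻¹ * x⁻¹)) * u⁻¹ := by group
      _ = ((p * w * p⁻¹) * u * (p * w * p⁻¹)⁻¹ * u⁻¹) *
          ((p * w * p⁻¹) * x * (p * w * p⁻¹)⁻¹ * x⁻¹) := by rw [h3]; group
  -- linear = semilinear
  obtain ⟨A, hA⟩ := hPM p hp
  have hzero : ∀ w ∈ W, (∀ s ∈ S, w * s = s * w) → f (q (p * w * p⁻¹)) (q u) = 0 := by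
    intro w hw hwC
    obtain ⟨w', hw', hq⟩ := h.surj (l • q w)
    have hwC2 : ∀ s ∈ S, w' * s = s * w' := by
      intro s hs
      rw [h.comm_iff hw' (hSW hs), hq, map_smul, LinearMap.smul_apply, (h.comm_iff hw (hSW hs)).1 (hwC s hs),
        smul_zero]
    have hcw : p * w * p⁻¹ ∈ W := conj_mem_of_normalizer (hPW hp) hw
    have hcw' : p * w' * p⁻¹ ∈ W := conj_mem_of_normalizer (hPW hp) hw'
    have e1 := hid w hw hwC
    have e2 := hid w' hw' hwC2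
    have e3 : q (p * w' * p⁻¹) = l • q (p * w * p⁻¹) := by
      rw [hA w' hw', hq, map_smul, ← hA w hw]
    rw [e3, hq, map_smul, LinearMap.smul_apply, hsemi x hx w hw hwC,
      hsemi x hx _ hcw (hconjC p hp w hwC), e1, smul_eq_mul] at e2
    have e4 : (l * l - l) * f (q (p * w * p⁻¹)) (q u) = 0 := by linear_combination e2
    have e5 : l * l - l ≠ 0 := by
      rw [show l * l - l = l * (l - 1) by ring]
      exact mul_ne_zero hl (sub_ne_zero.2 hl1)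
    exact (mul_eq_zero.1 e4).resolve_left e5
  intro y hy hyC
  -- `y = w^p`
  have hpi : p⁻¹ ∈ P := inv_mem hp
  have hy' : p⁻¹ * y * p ∈ W := conj_inv_mem_of_normalizer (hPW hp) hy
  have hyC' : ∀ s ∈ S, (p⁻¹ * y * p) * s = s * (p⁻¹ * y * p) := by
    have := hconjC p⁻¹ hpi y hyC
    rwa [inv_inv] at this
  have h1 := hzero _ hy' hyC'
  rw [show p * (p⁻¹ * y * p) * p⁻¹ = y by group] at h1
  exact ((h.comm_iff hy huW).2 h1).symm

end P

end Cfsg.Agent.Omega.Lie.Nodes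

end

section


/-!
# NODE LIE, TEXT NODES (#14331) (L): the linear algebra of `N = e + Z + ⟨n_g⟩`

`NFr f e M0 n s`: the frame of `M = W i / R i`: `e^⊥ = e ⊕ M0 ⊕ n(E)`, `s : E × E → M0`, `T(g,h,k) = f (s g h) (n k)`
alternating.  `Ng g = ⟨e⟩ + s(g, E) + ⟨n g⟩` is totally isotropic and `(Ng g)^⊥ = {c e + d + n h | f d (n g) = 0, s g h = 0}`.
-/

set_option autoImplicit false

namespace Cfsg.Agent.Omega.Lie.Nodes

open Submodule

universe u v w

/-- the linear frame -/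
structure NFr {F : Type v} [Field F] {M : Type u} [AddCommGroup M] [Module F M] {E : Type w} [AddCommGroup E]
    [Module F E] (f : M →ₗ[F] M →ₗ[F] F) (e : M) (M0 : Submodule F M) (n : E →ₗ[F] M)
    (s : E → E → M) : Prop where
  alt : ∀ m, f m m = 0
  nd : ∀ m, (∀ m', f m m' = 0) → m = 0
  f_e_M0 : ∀ d ∈ M0, f e d = 0
  f_e_n : ∀ g, f e (n g) = 0
  f_M0 : ∀ d ∈ M0, ∀ d' ∈ M0, f d d' = 0
  f_n : ∀ g g', f (n g) (n g') = 0
  perp : ∀ m, f e m = 0 → ∃ c : F, ∃ d ∈ M0, ∃ g, m = c • e + d + n g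
  inj : ∀ d ∈ M0, (∀ g, f d (n g) = 0) → d = 0
  indep : ∀ c : F, ∀ d ∈ M0, ∀ g, c • e + d + n g = 0 → g = 0
  s_mem : ∀ g h, s g h ∈ M0
  T_self : ∀ g h, f (s g h) (n g) = 0
  T_swap : ∀ g h k, f (s g h) (n k) = - f (s g k) (n h)

namespace NFr

variable {F : Type v} [Field F] {M : Type u} [AddCommGroup M] [Module F M] {E : Type w} [AddCommGroup E]
    [Module F E] {f : M →ₗ[F] M →ₗ[F] F} {e : M} {M0 : Submodule F M} {n : E →ₗ[F] M}
    {s : E → E → M} (h : NFr f e M0 n s)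
include h

theorem skew (m m' : M) : f m m' = - f m' m := by
  have h1 := h.alt (m + m')
  rw [map_add, map_add, LinearMap.add_apply, LinearMap.add_apply, h.alt, h.alt, zero_add, add_zero] at h1
  exact eq_neg_of_add_eq_zero_right h1

theorem ee : f e e = 0 := h.alt e

theorem f_M0_e {d : M} (hd : d ∈ M0) : f d e = 0 := by rw [h.skew, h.f_e_M0 d hd, neg_zero]

theorem f_n_e (g : E) : f (n g) e = 0 := by rw [h.skew, h.f_e_n g, neg_zero]

theorem s_eq_zero {g k : E} (hk : ∀ l, f (s g k) (n l) = 0) : s g k = 0 := h.inj _ (h.s_mem g k) hk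

theorem s_self (g : E) : ∀ l, f (s g l) (n g) = 0 := h.T_self g

theorem s_diag (g : E) (h2 : ∀ l, f (s g l) (n g) = 0) : s g g = 0 := by
  apply h.s_eq_zero
  intro l
  rw [h.T_swap, h2, neg_zero]

theorem s_gg (g : E) : s g g = 0 := h.s_diag g (h.T_self g)

end NFr

section N

variable {F : Type v} [Field F] {M : Type u} [AddCommGroup M] [Module F M] {E : Type w} [AddCommGroup E]
    [Module F E]

/-- `N = ⟨e⟩ + s(g, E) + ⟨n g⟩` -/
def Ng (e : M) (n : E →ₗ[F] M) (s : E → E → M) (g : E) : Submodule F M :=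
  span F {e} ⊔ span F (Set.range (s g)) ⊔ span F {n g}

/-- `Z = ⟨s(g, E)⟩` -/
def Zg (F : Type v) [Field F] {M : Type u} [AddCommGroup M] [Module F M] {E : Type w} (s : E → E → M) (g : E) :
    Submodule F M := span F (Set.range (s g))

variable {f : M →ₗ[F] M →ₗ[F] F} {e : M} {M0 : Submodule F M} {n : E →ₗ[F] M} {s : E → E → M} {g : E}

theorem e_mem_Ng : e ∈ Ng e n s g :=
  (le_sup_left.trans le_sup_left : span F {e} ≤ Ng e n s g) (mem_span_singleton_self e)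

theorem n_mem_Ng : n g ∈ Ng e n s g :=
  (le_sup_right : span F {n g} ≤ Ng e n s g) (mem_span_singleton_self _)

theorem Zg_le_Ng : Zg F s g ≤ Ng e n s g := le_sup_right.trans le_sup_left

omit [AddCommGroup E] [Module F E] in
theorem s_mem_Zg (k : E) : s g k ∈ Zg F s g := subset_span ⟨k, rfl⟩

theorem mem_Ng {m : M} : m ∈ Ng e n s g ↔ ∃ c : F, ∃ z ∈ Zg F s g, ∃ r : F, m = c • e + z + r • n g := by
  unfold Ng
  rw [mem_sup]
  constructor
  · rintro ⟨y, hy, z, hz, rfl⟩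
    obtain ⟨y1, hy1, y2, hy2, rfl⟩ := mem_sup.1 hy
    obtain ⟨c, rfl⟩ := mem_span_singleton.1 hy1
    obtain ⟨r, rfl⟩ := mem_span_singleton.1 hz
    exact ⟨c, y2, hy2, r, rfl⟩
  · rintro ⟨c, z, hz, r, rfl⟩
    exact ⟨c • e + z, mem_sup.2 ⟨c • e, mem_span_singleton.2 ⟨c, rfl⟩, z, hz, rfl⟩, r • n g,
      mem_span_singleton.2 ⟨r, rfl⟩, rfl⟩

variable (h : NFr f e M0 n s)
include h

theorem NFr.Zg_le : Zg F s g ≤ M0 := by
  refine span_le.2 ?_
  rintro _ ⟨k, rfl⟩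
  exact h.s_mem g k

theorem NFr.f_Zg_n {z : M} (hz : z ∈ Zg F s g) : f z (n g) = 0 := by
  refine span_induction (p := fun z _ => f z (n g) = 0) ?_ ?_ ?_ ?_ hz
  · rintro _ ⟨k, rfl⟩
    exact h.T_self g k
  · rw [map_zero, LinearMap.zero_apply]
  · intro x y _ _ hx hy
    rw [map_add, LinearMap.add_apply, hx, hy, add_zero]
  · intro a x _ hx
    rw [map_smul, LinearMap.smul_apply, hx, smul_zero]

/-- `N` is totally isotropic -/
theorem NFr.Ng_isotropic {m m' : M} (hm : m ∈ Ng e n s g) (hm' : m' ∈ Ng e n s g) : f m m' = 0 := by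
  obtain ⟨c, z, hz, r, rfl⟩ := mem_Ng.1 hm
  obtain ⟨c', z', hz', r', rfl⟩ := mem_Ng.1 hm'
  have e1 : f z (n g) = 0 := h.f_Zg_n hz
  have e2 : f (n g) z' = 0 := by rw [h.skew, h.f_Zg_n hz', neg_zero]
  simp only [map_add, map_smul, LinearMap.add_apply, LinearMap.smul_apply, h.ee, h.f_e_M0 z' (h.Zg_le hz'),
    h.f_e_n, h.f_M0_e (h.Zg_le hz), h.f_M0 z (h.Zg_le hz) z' (h.Zg_le hz'), h.f_n, h.f_n_e, e1, e2,
    smul_zero, add_zero]

/-- the elements of `N^⊥` -/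
theorem NFr.mem_perp {m : M} (hm : ∀ x ∈ Ng e n s g, f m x = 0) :
    ∃ c : F, ∃ d ∈ M0, ∃ k, m = c • e + d + n k ∧ f d (n g) = 0 ∧ s g k = 0 := by
  have h1 : f e m = 0 := by rw [h.skew, hm e e_mem_Ng, neg_zero]
  obtain ⟨c, d, hd, k, rfl⟩ := h.perp m h1
  refine ⟨c, d, hd, k, rfl, ?_, ?_⟩
  · have h2 := hm _ (n_mem_Ng (e := e) (s := s))
    simpa only [map_add, map_smul, LinearMap.add_apply, LinearMap.smul_apply, h.f_e_n, h.f_n, smul_zero,
      zero_add, add_zero] using h2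
  · apply h.s_eq_zero
    intro l
    have h2 := hm _ (Zg_le_Ng (s_mem_Zg l))
    have h3 : f (n k) (s g l) = 0 := by
      simpa only [map_add, map_smul, LinearMap.add_apply, LinearMap.smul_apply, h.f_e_M0 _ (h.s_mem g l),
        h.f_M0 d hd _ (h.s_mem g l), smul_zero, zero_add, add_zero] using h2
    rw [h.T_swap, ← h.skew, h3]

/-- `N^⊥^⊥ ≤ N` -/
theorem NFr.perp_perp [Finite M] [Finite F] (N : Submodule F M) :
    ∀ m, (∀ m', (∀ x ∈ N, f m' x = 0) → f m m' = 0) → m ∈ N := by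
  have : FiniteDimensional F M := Module.Finite.of_finite
  intro m hm
  have hr : LinearMap.BilinForm.IsRefl f := by
    intro x y hxy
    rw [h.skew, hxy, neg_zero]
  have hn : LinearMap.BilinForm.Nondegenerate f := by
    refine ⟨fun x hx => h.nd x hx, fun x hx => h.nd x fun y => ?_⟩
    rw [h.skew, hx y, neg_zero]
  have key := LinearMap.BilinForm.orthogonal_orthogonal hn hr N
  rw [← key, LinearMap.BilinForm.mem_orthogonal_iff]
  intro m' hm'
  rw [LinearMap.BilinForm.mem_orthogonal_iff] at hm'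
  show f m' m = 0
  rw [h.skew, hm m' fun x hx => ?_, neg_zero]
  have : f x m' = 0 := hm' x hx
  rw [h.skew, this, neg_zero]

end N

end Cfsg.Agent.Omega.Lie.Nodes

end
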